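import Cfsg.Agent.LX4.OD
import Cfsg.Agent.Bt.Xc2
import Cfsg.Agent.Schur.Bit
import Cfsg.Agent.Comp.PG
import Cfsg.Agent.Comp.Real

/-! Solutions of the relations generate the orthogonal group. -/

set_option autoImplicit false
set_option maxRecDepth 1000000

namespace CF.LX4.Om
open Cfsg CF.Comp CF.Schur.Pc Matrix

/-- the model -/
abbrev M8 : Type := Omega (ZMod 2) (quadFormPlus 4 (ZMod 2))

/-- the natural representation -/
noncomputable def ρ : M8 →* Matrix (Fin 8) (Fin 8) (ZMod 2) :=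
  (reindexRingEquiv (ZMod 2) (finSumFinEquiv (m := 4) (n := 4))).toMonoidHom.comp (omMat _ _)

theorem bnd {G : Type*} [Group G] {f : ℕ → G} (hr : ∀ r ∈ RO, ev f r = 1) : Bound f (gensW 8) 174182400 :=
  have k : ∀ m, ∀ r ∈ RK m, ev f r = 1 := fun _ r h => hr r (List.mem_of_mem_filter h)
  e8.bound (k _) (e7.bound (k _) (e6.bound (k _) (e5.bound (k _) (e4.bound (k _) (e3.bound (k _) (e2.bound (k _)
    (bound_nil _)))))))

theorem model : ∃ F, BM ρ NM F ∧ clo F (gensW 8) = ⊤ := by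
  have T := tabP_ok (ZMod 2) 2 (by decide)
  obtain ⟨F, h1, h2⟩ := exists_els ρ (m := 8) (M := fun i => Comp.mat Nat.cast (Equiv.refl _) (nth [] NA i)) fun i hi => by
    obtain ⟨x, e⟩ := T.exists_om (Q := quadFormPlus 4 (ZMod 2)) finSumFinEquiv (by decide +kernel) (allFrom_zero.1 memN i hi)
    exact ⟨x, (congrArg (reindexRingEquiv (ZMod 2) finSumFinEquiv) e).trans (by ext a b; simp [Comp.mat])⟩
  obtain ⟨σ, h3⟩ := linN.vec
  obtain ⟨Cs, h4, h5, h6⟩ := linN.act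
  have : Finite M8 := Nat.finite_of_card_ne_zero (by rw [Bt.card_O8p]; decide)
  refine ⟨F, bm_of_gens (m := 8) (by decide +kernel) (fun i hi => ?_) h2, Subgroup.eq_top_of_le_card _ (Bt.card_O8p.trans_le
    (chN.le_card (T.reps_lin _ ρ h3 linN.norm (wf_of_wfAll linN.wf) linN.len h1 h2 h4 h5 h6) h2 fun i => ?_))⟩
  · rw [h1 i hi, ← mat_unp, (by decide +kernel : ∀ i < 8, nth [] NA i = unp 8 (nth (idB 8) NM (2 * i))) i hi]
  · rw [clo_gensW h2]; exact Subgroup.subset_closure ⟨i, rfl⟩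

theorem comm_of {R : Type*} [Ring R] {a b U L : R} (h1 : (a - 1) * U = 0) (h2 : U * (a - 1) = 0) (h3 : (b - 1) * U = 0)
    (h4 : U * (b - 1) = 0) (h : U * L + L * U = 1) : a * b = b * a := by
  have k : ∀ {x y : R}, x * U = 0 → U * y = 0 → x * y = 0 := fun {x y} e e' => by
    rw [← mul_one x, ← h, mul_add, ← mul_assoc, e, add_mul, mul_assoc x, mul_assoc L, e']; simp
  linear_combination (norm := noncomm_ring) k h1 h4 - k h3 h2

/-- a reflection -/
def wn : List ℕ := [5, 7, 5]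

/-- a root element -/
def we : List ℕ := wn ++ 13 :: wn

/-- a commutator -/
def wc (x : ℕ) (w : List ℕ) : List ℕ := x :: w ++ x :: w

/-- the highest root element -/
def wz : List ℕ := wn ++ wc 1 (wc 9 we) ++ wn

/-- generators of an elementary abelian group -/
def WA : List (List ℕ) := [[13], we, wc 1 we, wc 9 we, wc 1 (wc 9 we), wz]

theorem exists_emb {G : Type*} [Group G] {f : ℕ → G} (hr : ∀ r ∈ RO, ev f r = 1) (h1 : f 0 ≠ 1) :
    ∃ φ : M8 →* G, Function.Injective φ ∧ φ.range = clo f (gensW 8) ∧ ∀ g ∈ clo f (gensW 8),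
      g * ev f (13 :: wz) = ev f (13 :: wz) * g → ∀ x ∈ WA, ∀ y ∈ WA,
        g * ev f x * g⁻¹ * ev f y = ev f y * (g * ev f x * g⁻¹) := by
  obtain ⟨F, h, top⟩ := model
  have inj : Function.Injective ρ := (reindexRingEquiv _ _).injective.comp fun _ _ e => Subtype.ext (Subtype.ext (Units.ext e))
  have := Bt.simple_O8p
  obtain ⟨φ, i, e, k⟩ := (bnd (ug_rels _)).exists_inj (fun r hr => h.same inj r []
    (lall_iff.1 (by decide +kernel : lall (fun r => bsame 8 NM r []) RO = true) r hr)) top Bt.card_O8p hr (w := [1])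
    (by decide +kernel) (by rwa [← ev_single f 0] at h1)
  refine ⟨φ, i, e, fun g hg c x hx y hy => ?_⟩
  obtain ⟨g, rfl⟩ := e.ge hg
  have s : ∀ w, ρ (ev F w) - 1 = bm 8 (bev 8 NM w ^^^ idB 8) := fun w => by rw [h.ev]; ext a b; exact bm_sub_one _ _ _
  have z : bm 8 0 = 0 := by ext a b; simp [bm, b2z]
  have l := (by decide +kernel : ∀ x ∈ WA, wordIn (gensW 8) x = true ∧ mulB 8 (bev 8 NM x ^^^ idB 8)
    (bev 8 NM (13 :: wz) ^^^ idB 8) = 0 ∧ mulB 8 (bev 8 NM (13 :: wz) ^^^ idB 8) (bev 8 NM x ^^^ idB 8) = 0)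
  rw [← k _ (by decide +kernel), ← map_mul, ← map_mul, i.eq_iff] at c
  rw [← k _ (l x hx).1, ← k _ (l y hy).1]
  simp only [← map_inv, ← map_mul]
  refine congrArg φ (inj ?_)
  have c0 : ∀ {g}, Commute g (ev F (13 :: wz)) → ρ g * (ρ (ev F (13 :: wz)) - 1) = (ρ (ev F (13 :: wz)) - 1) * ρ g :=
    fun c => by rw [mul_sub, sub_mul, ← map_mul, c.eq, map_mul]; simp
  have c1 := c0 c
  have c2 := c0 (Commute.inv_left c)
  have d : ρ (g * ev F x * g⁻¹) - 1 = ρ g * (ρ (ev F x) - 1) * ρ g⁻¹ := by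
    rw [map_mul, map_mul, mul_sub, sub_mul, mul_one, ← map_mul _ g g⁻¹, mul_inv_cancel, map_one]
  have m : ∀ x ∈ WA, (ρ (ev F x) - 1) * (ρ (ev F (13 :: wz)) - 1) = 0 ∧ (ρ (ev F (13 :: wz)) - 1) * (ρ (ev F x) - 1) = 0 :=
    fun x hx => by rw [s, s, ← bm_mulB, ← bm_mulB, (l x hx).2.1, (l x hx).2.2]; exact ⟨z, z⟩
  rw [map_mul _ _ (ev F y), map_mul _ (ev F y)]
  refine comm_of (L := bm 8 0x408010200000000) ?_ ?_ (m y hy).1 (m y hy).2 ?_
  · rw [d, mul_assoc, c2, ← mul_assoc, mul_assoc (ρ g), (m x hx).1]; simp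
  · rw [d, ← mul_assoc, ← mul_assoc, ← c1, mul_assoc (ρ g), (m x hx).2]; simp
  · rw [s, ← bm_mulB, ← bm_mulB]; decide +kernel

end CF.LX4.Om
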