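import Cfsg.Agent.LX4.S36

/-! The case that the normal element of order three centralises a subgroup of index four in `Q`. -/

set_option autoImplicit false
set_option maxRecDepth 100000
set_option linter.unusedSectionVars false

namespace CF.LX4
open Cfsg Subgroup CF.Loc CF.Even CF.LX CF.J4 CF.MonU Equiv Equiv.Perm

variable {G : Type*} [Group G]

/-- an even involution -/
def A0 : Γ6 := (1, swap 1 2 * swap 4 5)

/-- the setting -/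
structure Cb (Q : Subgroup G) (z : G) (Φ : G → Γ6) (ρ : Γ6) : Prop extends S36 Q z Φ where
  cX : Nat.card (Cf Q z Φ X) = 128
  cρ : Nat.card (Cf Q z Φ ρ) = 128
  kρ : sign ρ.1 = 1 ∧ sign ρ.2 = 1 ∧ ρ ^ 3 = 1 ∧ A0 * ρ * A0⁻¹ = ρ⁻¹

variable [Finite G] {Q P : Subgroup G} {z t : G} {Φ Ψ : G → Γ6} {ρ : Γ6}

local notation "H" => 𝐂₁(z)
local notation "C" => Cf Q z Φ
local notation "K" => Q ⊓ 𝐂(Cf Q z Φ X)

theorem Qt.W64 {Γ : Type} [Group Γ] {Φ : G → Γ} (h : Qt Q z Φ) (c : t * z = z * t) (tt : t * t = 1) {S : Subgroup G}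
    (l : S ≤ Cf Q z Φ (Φ t)) (n : ¬ S ≤ 𝐂(S)) : 64 ≤ Nat.card (Cf Q z Φ (Φ t)) := by
  obtain ⟨e, he, k⟩ := h.lg (h.C_le (Φ t))
  have : ¬ Nat.card (Cf Q z Φ (Φ t)) ≤ 32 := fun m => n fun a ha b hb =>
    h.KK_comm c tt ((h.KK_eq c tt m).ge (l ha)) (l hb)
  rw [k] at this ⊢
  interval_cases e <;> omega

theorem Qt.im_two {Γ : Type} [Group Γ] {Φ : G → Γ} (h : Qt Q z Φ) (r : LQ P t) :
    IsPGroup 2 (h.hom.im (P ⊓ H) inf_le_right) := isPGroup_iff_forall.2 fun σ hσ => by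
  obtain ⟨b, hb, rfl⟩ := h.hom.mem_im.1 hσ
  obtain ⟨k, e⟩ := isPGroup_iff_forall.1 r.isPGroup b hb.1
  exact ⟨k, by rw [← h.hom.pow hb.2, e, h.hom.one]⟩

theorem Qt.card_imB {Γ : Type} [Group Γ] {Φ : G → Γ} (h : Qt Q z Φ) (P : Subgroup G) :
    Nat.card ↥(P ⊓ H) = Nat.card (h.hom.im (P ⊓ H) inf_le_right) * Nat.card ↥(Q ⊓ P) := by
  rw [h.card_im inf_le_right, show Q ⊓ (P ⊓ H) = Q ⊓ P by rw [inf_comm P, ← inf_assoc, inf_eq_left.2 h.le_c1]]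

namespace Cb
variable (h : Cb Q z Φ ρ)
include h

protected theorem cj (g : G) : Cb (cj[g] Q) (g * z * g⁻¹) (fun x => Φ (g⁻¹ * x * g)) ρ :=
  ⟨h.toS36.cj g, by rw [Cf_cj, card_cj, h.cX], by rw [Cf_cj, card_cj, h.cρ], h.kρ⟩

theorem exists_x : ∃ x, S8 Q z K x ∧ Φ x = X ∧ C X = Q ⊓ 𝐂₁(x) := by
  obtain ⟨x, hx, ex, x3⟩ := h.lift (σ := X) (p := 3) (by decide) (by decide) (.inr rfl) (by decide)
  have e := ex ▸ h.C_eq hx x3
  exact ⟨x, e ▸ h.s8_K hx x3 (e ▸ h.cX), ex, e⟩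

theorem nor_KX {g : G} (hg : g ∈ H) : g ∈ 𝐍(K) := h.nor_K hg (h.nor_X hg)

theorem cen_le {g : G} (hg : g ∈ H) (gg : g * g ∈ Q) (e : (Φ g).1 = 1) : K ≤ C (Φ g) := by
  obtain ⟨x, s, ex, -⟩ := h.exists_x
  exact h.s_triv s hg gg (h.nor_KX hg) (ex ▸ Prod.ext (by simp [e]) (by simp [X]))

theorem of_sq {s b : G} (ss : s * s = 1) (n : s ∉ Q) (hb : b ∈ H) (e : b * b = s) :
    (Φ s).1 = 1 ∧ ∃ k ∈ Q, k⁻¹ * (s⁻¹ * k * s) * (k⁻¹ * (s⁻¹ * k * s)) = z := by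
  have hs : s ∈ H := e ▸ mul_mem hb hb
  have e1 : Φ s = Φ b * Φ b := by rw [← e, h.hom _ hb _ hb]
  have e2 : Φ s * Φ s = 1 := by rw [← h.hom _ hs _ hs, ss, h.hom.one]
  have e3 : (Φ s).1 = 1 := by
    have := congrArg Prod.fst e2
    rw [e1] at this ⊢
    exact (by decide : ∀ a : Perm (Fin 3), a * a * (a * a) = 1 → a * a = 1) _ this
  obtain ⟨κ, k1, k2⟩ := conjA (o := swap 1 2) (τ := A0.2) ((invol_type (congrArg Prod.snd e2) (fun k =>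
    n ((h.kr s hs).1 (Prod.ext e3 k))) (by rw [e1]; simp)).trans (by decide +kernel)) (by decide) (by decide)
  obtain ⟨g, hg, eg⟩ := h.sur (1, κ) (map_one _) k1
  obtain ⟨y, hy, ey, y3⟩ := h.lift h.kρ.1 h.kρ.2.1 (.inr rfl) h.kρ.2.2.1
  have e4 : Φ s = (Φ g)⁻¹ * A0 * Φ g := by
    rw [eg]; exact Prod.ext (by simp [e3, A0]) (by simp [← k2, mul_assoc])
  have m := mul_mem (mul_mem (inv_mem hg) hy) hg
  have y3' : (g⁻¹ * y * g) ^ 3 = 1 := by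
    rw [← inv_inv g, inv_inv g⁻¹, conj_pow, y3]; simp
  have e5 : Φ s * Φ (g⁻¹ * y * g) * (Φ s)⁻¹ = (Φ (g⁻¹ * y * g))⁻¹ := by
    rw [h.hom.conj' hg hy, e4, ey, show ((Φ g)⁻¹ * ρ * Φ g)⁻¹ = (Φ g)⁻¹ * ρ⁻¹ * Φ g by group, ← h.kρ.2.2.2]; group
  obtain ⟨k, hk, f⟩ := h.s_cty (h.s8_K m y3' (by
    rw [← h.C_eq m y3', h.hom.conj' hg hy, ← inv_inv (Φ g), inv_inv (Φ g)⁻¹, ← h.hom.inv hg, ← h.C_cj (inv_mem hg),
      card_cj, ey, h.cρ])) hs (h.nor_K hs (h.C_eq m y3' ▸ h.nor_C' hs m e5)) e5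
  exact ⟨e3, k, hk.1, f⟩

theorem fst_ne (h' : Cb P t Ψ ρ) (w : Wc Q P z t) : (Φ t).1 ≠ 1 := fun e => by
  obtain ⟨x, s, ex, -⟩ := h.exists_x
  obtain ⟨x', s', -⟩ := h'.exists_x
  obtain ⟨k, hk, k1, k2⟩ := h.s_four s w.cm (h.cen_le w.tH (w.tt ▸ one_mem _) e)
  obtain ⟨e', j, hj, f⟩ := h'.of_sq h.zz w.zP (mem_c1.2 k1) k2
  have D := (h'.cty w.symm hj f).1
  rw [inf_comm] at D
  have c := (h'.W64 w.cm.symm h.zz (h'.cen_le w.symm.tH (h.zz ▸ one_mem _) e') s'.nab).trans (h'.W_two w.cm.symm)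
  rw [h.card_imB, D, card_bot] at c
  obtain ⟨γ, m⟩ := big_mem (h.im_two w.lp) (by omega) (σ := (swap 0 1, 1)) (by decide)
  obtain ⟨b, hb, eb⟩ := h.hom.mem_im.1 m
  have b2 : Φ b * Φ b = 1 := by rw [eb, conj_mul, conj_eq_one_iff]; decide
  have bb : b * b = 1 := mem_bot.1 (D ▸ ⟨(h.kr _ (mul_mem hb.2 hb.2)).1 (by rw [h.hom _ hb.2 _ hb.2, b2]),
    P.mul_mem hb.1 hb.1⟩)
  have := h.s_inv s hb.2 bb (h.nor_KX hb.2) (ex ▸ ((X_cases _ (congrArg Prod.fst b2)).resolve_left fun k => by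
    have := k.1
    rw [eb] at this
    exact absurd (conj_eq_one_iff.1 this) (by decide)).2) hk (by
      have := mem_bot.1 (D ▸ w.AB ⟨hk.1, mem_c1.2 k1⟩ hb)
      rwa [mul_inv_eq_one, conj_eq_iff] at this)
  rcases h.mem_z.1 this with e | e <;> rw [e] at k2
  exacts [h.z_ne (by simpa using k2.symm), h.z_ne (k2.symm.trans h.zz)]

theorem not_wc (h' : Cb P t Ψ ρ) (w : Wc Q P z t) : False := by
  obtain ⟨x', s', ex', -⟩ := h'.exists_x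
  obtain ⟨k, hk, f⟩ := h'.s_cty s' w.symm.tH (h'.nor_KX w.symm.tH) (ex' ▸ ((X_cases _ (congrArg Prod.fst
    (h'.Φtt w.symm))).resolve_left fun k => h'.fst_ne h w.symm k.1).2)
  obtain ⟨D, u, -, eu⟩ := h'.cty w.symm hk.1 f
  rw [inf_comm] at D
  have sq : ∀ b ∈ P ⊓ H, b * b = 1 := fun b hb => (w.lp.sq b hb.1).resolve_right fun e =>
    h.fst_ne h' w (h.of_sq w.tt w.tQ hb.2 e).1
  have Φsq : ∀ b ∈ P ⊓ H, Φ b * Φ b = 1 := fun b hb => by rw [← h.hom _ hb.2 _ hb.2, sq b hb, h.hom.one]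
  have c := h.card_imB P
  have := elem_le (S := h.hom.im (P ⊓ H) inf_le_right) fun σ hσ => by
    obtain ⟨b, hb, rfl⟩ := h.hom.mem_im.1 hσ
    exact Φsq b hb
  rw [D, card_bot] at c
  have key : ∀ b ∈ P ⊓ H, b ≠ 1 → sign (Φ b).1 = -1 := fun b hb n => by
    obtain ⟨r, e⟩ := w.symm.coset1 eu ((h'.KK_eq w.cm.symm h.zz (h'.W32 w.symm (by omega))).ge (h'.A_le w.cm.symm hb))
    have := h.fst_ne (h.cj r) (wc_of h.toLQ w.wz (e ▸ mul_mem hb.2 (mem_c1.2 rfl)) (by rwa [e, ne_eq, mul_eq_right]))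
    rw [e, h.Φmul hb.2 h.mem] at this
    exact ((X_cases _ (congrArg Prod.fst (Φsq b hb))).resolve_left fun k => this k.1).1
  have l := card_le_two («K» := P ⊓ H) («H» := ⊥) fun a ha b hb na nb => by
    by_contra n
    have := key _ (mul_mem ha hb) n
    rw [h.hom _ ha.2 _ hb.2, Prod.fst_mul, map_mul, key a ha na, key b hb nb] at this
    exact absurd this (by decide)
  have := h'.A16 w.symm
  rw [bot_inf_eq, card_bot] at l
  omega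

theorem not_pair (p : Pair Q P z t) : False := by
  obtain ⟨x, s, ex, eC⟩ := h.exists_x
  by_cases m : t ∈ C X
  · have c := (mem_c1.1 (eC ▸ m).2).symm
    obtain ⟨k, hk, n⟩ := SetLike.not_le_iff_exists.1 (h.s_ne s)
    have mk := mul_mem (norm_mem' s.n hk) (inv_mem hk)
    have := h.swap_comm p s.yH c (fun b hb => by
      have mb := mul_mem (norm_mem' (h.nor_B p s.yH c) hb) (inv_mem hb)
      have e := h.ΦB p mb
      have e1 : Φ (x * b * x⁻¹ * b⁻¹) = X * (Φ b * X * (Φ b)⁻¹)⁻¹ := by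
        rw [h.hom _ (mul_mem (mul_mem s.yH hb.2) (inv_mem s.yH)) _ (inv_mem hb.2), h.hom.conj s.yH hb.2,
          h.hom.inv hb.2, ex]; group
      rw [← h.kr _ mb.2]
      rw [e1] at e ⊢
      rcases X_conj (Φ b) with k | k <;> rw [k] at e ⊢
      exacts [mul_inv_cancel _, absurd e (by decide)]) ⟨hk.1, mem_c1.2 (hk.2 t m).symm⟩
    refine h.z_ne ((h.s_sq s mk fun e => n (s.fpf k hk (mem_c1.1 (eC ▸ ?_ : k ∈ Q ⊓ 𝐂₁(x)).2))).symm.trans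
      (p.E_sq ⟨mk.1, this⟩))
    rw [← ex, ← h.C_inv s.yH, ← h.hom.inv s.yH, h.mem_C (inv_mem s.yH) hk.1]
    rw [← h.conj_mem (inv_mem hk.1) e] at e
    simpa [mul_assoc] using e
  · let B := h.hom.pre (MonoidHom.fst _ _).ker ⊓ (P ⊓ H)
    have c1 : Nat.card ↥(P ⊓ H) ≤ Nat.card B * 2 := card_le_two fun a ha b hb na nb => by
      have k : ∀ a ∈ P ⊓ H, a ∉ h.hom.pre (MonoidHom.fst _ _).ker → sign (Φ a).1 = -1 := fun a ha n =>
        ((X_cases _ (congrArg Prod.fst (h.ΦB p ha))).resolve_left fun k => n (h.hom.mem_pre.2 ⟨ha.2, k.1⟩)).1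
      refine h.hom.mem_pre.2 ⟨mul_mem ha.2 hb.2, ((X_cases _ (congrArg Prod.fst
        (h.ΦB p (mul_mem ha hb)))).resolve_right fun e => ?_).1⟩
      have := e.1
      rw [h.hom _ ha.2 _ hb.2, Prod.fst_mul, map_mul, k a ha na, k b hb nb] at this
      exact absurd this (by decide)
    have c2 := h.card_KP p (W := B) ⟨h.hom.mem_pre.2 ⟨h.tH p, by rw [h.ΦQ p.tQ]; rfl⟩, p.r.mem, h.tH p⟩ fun _ k => k.2.1
    have c3 := card_le_of_le (show Q ⊓ P ≤ P ⊓ 𝐂(B) from fun e he => ⟨he.2, fun b hb => by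
      rcases h.EB p he hb.2.1 with k | k
      · rwa [inv_mul_eq_one, mul_assoc, eq_inv_mul_iff_mul_eq] at k
      · exact (m ((h.cent_cent (h.z_C X) (h.C_le X)).le ⟨p.tQ, fun j hj => k ▸ h.comm_C hb.2.2 he.1
          (h.cen_le hb.2.2 (h.B_sq p hb.2.1) (h.hom.mem_pre.1 hb.1).2 hj)⟩)).elim⟩)
    have c4 := h.card_imB P
    have c5 := elem_le (S := h.hom.im (P ⊓ H) inf_le_right) fun σ hσ => by
      obtain ⟨b, hb, rfl⟩ := h.hom.mem_im.1 hσ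
      exact h.ΦB p hb
    rw [h.B_card p] at c1 c4
    have := Nat.mul_le_mul (show 128 ≤ Nat.card B by omega) c3
    have := Nat.mul_le_mul c5 (show Nat.card ↥(Q ⊓ P) ≤ 8 by omega)
    omega

end Cb

end CF.LX4
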