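import Cfsg.Agent.LX4.Mn
import Cfsg.Agent.LX4.Cb
import Cfsg.Agent.Invol.ZStarApp

/-! The central involution is isolated. -/

set_option autoImplicit false
set_option maxRecDepth 1000000
set_option linter.unusedSectionVars false

namespace CF.LX4
open Cfsg Subgroup CF.Loc CF.Even CF.LX CF.J4 CF.MonU Equiv Equiv.Perm

variable {G : Type*} [Group G] [Finite G] {Q : Subgroup G} {z : G}

theorem Qt.isolated {Γ : Type} [Group Γ] {Φ : G → Γ} (h : Qt Q z Φ) (h1 : ∀ P t, ¬ Pair Q P z t)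
    (h2 : ∀ g, ¬ Wc Q (cj[g] Q) z (g * z * g⁻¹)) : IsIsolatedInvolution z :=
  ⟨orderOf_eq_prime (by rw [sq, h.zz]) h.z_ne, fun g c => by_contra fun e => h2 g (wc_of h.toLQ
    (fun g m => by_contra fun n => h1 _ _ (h.pair (by rw [h.card]; norm_num) n m)) (mem_c1.2 c.eq.symm) e)⟩

theorem S36.isolated {Φ : G → Γ6} (h : S36 Q z Φ) : IsIsolatedInvolution z := by
  have a : (∃ Ψ π, Ma Q z Ψ π) → IsIsolatedInvolution z := fun ⟨_, _, m⟩ =>
    h.toQt.isolated (fun _ _ => m.not_pair) fun g => m.not_wc (m.cj g)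
  have b : ∀ {ρ}, Cb Q z Φ ρ → IsIsolatedInvolution z := fun m =>
    h.toQt.isolated (fun _ _ => m.not_pair) fun g => m.not_wc (m.cj g)
  rcases h.tri with ⟨c, d | d⟩ | ⟨c, d | d⟩ | ⟨c, d | d⟩
  · exact a (h.ma1 c d)
  · exact a (h.ma2 c d)
  · exact b ⟨h, c, d, by decide +kernel⟩
  · exact b ⟨h, c, d, by decide +kernel⟩
  · exact (h.not_c c d (α := (1, swap 1 2 * swap 2 3 * swap 3 4 * swap 4 5))
      (β := (1, swap 0 5 * swap 2 5 * swap 3 5 * swap 4 5)) (by decide +kernel)).elim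
  · exact (h.not_c c d (α := (1, swap 1 2 * swap 2 3 * swap 3 5 * swap 4 5))
      (β := (1, swap 0 4 * swap 2 4 * swap 3 5 * swap 4 5)) (by decide +kernel)).elim

theorem not_isolated [IsSimpleGroup G] {Q : Subgroup 𝐂₁(z)} (c : Nat.card Q = 2 ^ 9) :
    ¬ IsIsolatedInvolution z := fun hz => by
  have e := CF.Invol.isolated_sup_centralizer hz
  rcases Subgroup.Normal.eq_bot_or_eq_top (inferInstance : (pPrimeCore 2 G).Normal) with k | k
  · rw [k, bot_sup_eq] at e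
    have : (zpowers z).Normal := ⟨by
      rintro _ ⟨k, rfl⟩ g
      exact ⟨k, (mul_inv_eq_iff_eq_mul.2 ((show Commute g z from mem_c1.1 (e.ge (mem_top g))).zpow_right k)).symm⟩⟩
    have l := (card_le_card_group Q).trans (card_le_card_group 𝐂₁(z))
    rcases this.eq_bot_or_eq_top with k | k <;> have := congrArg (fun K : Subgroup G => Nat.card K) k <;>
      simp only [Nat.card_zpowers, hz.1, card_bot, card_top] at this <;> omega
  · exact Solv.not_dvd_card_pPrimeCore (G := G) (p := 2) (by rw [k, card_top, ← hz.1]; exact orderOf_dvd_natCard z)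

theorem not_simple36 (hz : orderOf z = 2) {Q : Subgroup 𝐂₁(z)} [Q.Normal]
    (hQ : IsExtraspecial 2 Q) (c : Nat.card Q = 2 ^ 9) (cen : 𝐂(Q) ≤ Q) {Δ : Type*} [Group Δ]
    (e : 𝐂₁(z) ⧸ Q ≃* Δ) (θ : Δ →* Γ6) (i : Function.Injective θ)
    (s : ∀ σ : Γ6, sign σ.1 = 1 → sign σ.2 = 1 → σ ∈ θ.range) : ¬ IsSimpleGroup G := fun _ => by
  obtain ⟨E, Φ, h, k⟩ := qt_sub hz hQ c cen (θ.comp e.toMonoidHom) (i.comp e.injective)
  exact not_isolated c (S36.isolated ⟨h, fun σ a b => by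
    obtain ⟨x, rfl⟩ := s σ a b
    exact k _ ⟨e.symm x, by simp⟩⟩)

end CF.LX4
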