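import Cfsg.Agent.LX4.Mu
import Cfsg.Agent.Perm.SymAut

/-! The case that the normal element of order three acts without fixed points. -/

set_option autoImplicit false
set_option maxRecDepth 1000000
set_option linter.unusedSectionVars false

namespace CF.LX4
open Cfsg Subgroup CF.Loc CF.Even CF.LX CF.J4 CF.Comp CF.Dce Equiv Equiv.Perm
open CF.ThR (clos reach1 Bj Cub q8 b8 exists_co)

variable {G : Type*} [Group G]

theorem mem_of_ac [Finite G] {Q : Subgroup G} {z h : G} {π : G → ℕ} (F : ThR.Fr Q z π) (hx : Ac 8 Q π h (mo 8)) :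
    h ∈ Q := by
  refine Q.inv_mem_iff.1 (F.mem_of_comm (mem_c1.1 (inv_mem (F.norm_le hx.1))) fun y hy => ?_)
  have h1 := norm_mem hx.1 hy
  rw [inv_inv, ← F.ker _ (Q.mul_mem h1 (Q.inv_mem hy)), F.mul _ h1 _ (Q.inv_mem hy), F.inv hy, hx.2 y hy,
    vm_mo F.pos (F.lt y hy), Nat.xor_self]

theorem fr_cj {Q : Subgroup G} {z : G} {π : G → ℕ} (F : ThR.Fr Q z π) (g : G) :
    ThR.Fr (cj[g] Q) (g * z * g⁻¹) fun e => π (g⁻¹ * e * g) :=
  { F.toLQ.cj g with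
    pos := F.pos
    le := (F.toLQ.cj g).z_le
    mul := fun a ha b hb => by rw [← F.mul _ (mem_cj.1 ha) _ (mem_cj.1 hb)]; congr 1; group
    lt := fun a ha => F.lt _ (mem_cj.1 ha)
    surj := fun c hc => by
      obtain ⟨a, ha, e⟩ := F.surj c hc
      exact ⟨_, conj_mem_cj g ha, by simpa [mul_assoc] using e⟩
    ker := fun a ha => by rw [F.ker _ (mem_cj.1 ha), ← mem_cj, cj_zpowers]
    sq' := fun a ha => by
      rw [conj_pow, ← F.sq' _ (mem_cj.1 ha)]; group }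

theorem ac_cj {Q : Subgroup G} {π : G → ℕ} {g h : G} {m : ℕ} (a : Ac 8 Q π (g⁻¹ * h * g) m) :
    Ac 8 (cj[g] Q) (fun e => π (g⁻¹ * e * g)) h m :=
  ⟨by rw [← cj_normalizer]; exact mem_cj.2 a.1, fun e he => by
    rw [← a.2 _ (mem_cj.1 he)]; congr 1; group⟩

namespace Qt
variable {Γ : Type} [Group Γ] [Finite G] {Q : Subgroup G} {z : G} {Φ : G → Γ} (h : Qt Q z Φ)
include h

theorem nz {g : G} (hg : g ∈ 𝐂₁(z)) : g ∈ 𝐍(zpowers z) := centralizer_le_normalizer _ (by rwa [Bt.cent_zpowers])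

theorem ac_one {π : G → ℕ} (c : Co 8 Q (zpowers z) π) {g : G} {A : ℕ} (a : Ac 8 Q π g A) (e : Φ g = 1) {v : ℕ}
    (hv : v < 256) : vm 8 v A = v :=
  (c.uniq a (c.ac_self ((h.kr g (h.norm_le a.1)).1 e)) hv).trans (vm_mo c.pos hv)

theorem mem_C' {π : G → ℕ} (c : Co 8 Q (zpowers z) π) {g q : G} {A : ℕ} (a : Ac 8 Q π g A) (hq : q ∈ Q) :
    q ∈ Cf Q z Φ (Φ g) ↔ vm 8 (π q) A = π q := by
  rw [h.mem_C (h.norm_le a.1) hq, ← c.eq_iff hq (norm_mem a.1 hq), a.2 q hq, eq_comm]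

theorem cube {π : G → ℕ} (c : Co 8 Q (zpowers z) π) {g : G} {A : ℕ} (a : Ac 8 Q π g A) (e : Φ g ^ 3 = 1) {v : ℕ}
    (hv : v < 256) : vm 8 (vm 8 (vm 8 v A) A) A = v := by
  have m := h.norm_le a.1
  rw [← vm_mm c.pos, ← vm_mm c.pos]
  exact h.ac_one c (c.cd.mul' a (c.cd.mul' a a)) (by rw [h.hom _ m _ (mul_mem m m), h.hom _ m _ m, ← pow_three, e]) hv

theorem fpf {π : G → ℕ} (c : Co 8 Q (zpowers z) π) {g : G} {A : ℕ} (a : Ac 8 Q π g A) (e : Φ g ^ 3 = 1)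
    (k : Nat.card (Cf Q z Φ (Φ g)) = 2) {v : ℕ} (hv : v < 256) : vm 8 (vm 8 v A) A = vm 8 v A ^^^ v := by
  obtain ⟨q, hq, e1⟩ := c.surj _ (Nat.xor_lt_two_pow (vm_lt 8 (vm 8 v A) A) (Nat.xor_lt_two_pow (vm_lt 8 v A) hv))
  have := (h.mem_C' c a hq).2 (by
    rw [e1, vm_xor, vm_xor, h.cube c a e hv]; simp only [Nat.xor_assoc, Nat.xor_comm, Nat.xor_left_comm])
  rw [← Loc.eq_of_le_of_card_le (zpowers_le.2 (h.z_C _)) (by rw [k, h.card_z]), ← c.ker q hq, e1] at this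
  exact Nat.eq_of_xor_eq_zero this

theorem Cf_map {Δ : Type} [Group Δ] {θ : Γ →* Δ} (i : Function.Injective θ) (σ : Γ) :
    Cf Q z (fun g => θ (Φ g)) (θ σ) = Cf Q z Φ σ :=
  Subgroup.ext fun _ => and_congr_right fun _ => and_congr_right fun _ => forall_congr' fun _ =>
    forall_congr' fun _ => by rw [i.eq_iff]

end Qt

/-- the setting with a frame -/
structure Ma (Q : Subgroup G) (z : G) (Φ : G → Γ6) (π : G → ℕ) : Prop extends S36 Q z Φ, ThR.Fr Q z π where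
  ac : ∀ h ∈ 𝐂₁(z), Ac 8 Q π h (μ (Φ h))

namespace S36
variable [Finite G] {Q : Subgroup G} {z : G} {Φ : G → Γ6} (h : S36 Q z Φ)
include h

local notation "H" => 𝐂₁(z)
local notation "C" => Cf Q z Φ

theorem frame (cb : ∀ i < 5, Nat.card (C (bb i)) = 2) : ∃ π, ThR.Fr Q z π ∧
    ∀ g ∈ H, sign (Φ g).1 = 1 → sign (Φ g).2 = 1 → Ac 8 Q π g (μ (Φ g)) := by
  obtain ⟨π, k, c, hk, sq⟩ := exists_co h.toEX h.card
  have : ∀ j < 5, ∃ x A, x ∈ H ∧ Φ x = bb j ∧ Ac 8 Q π x A := fun j hj => by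
    obtain ⟨x, hx, e⟩ := h.sur _ (bb_c j hj).1 (bb_c j hj).2.1
    obtain ⟨A, -, a⟩ := c.ex (h.nor hx) (h.nz hx)
    exact ⟨x, A, hx, e, a⟩
  choose! x A hx using this
  have p := c.pos
  have cu : ∀ j < 5, ∀ v < 256, vm 8 (vm 8 (vm 8 v (A j)) (A j)) (A j) = v := fun j hj v =>
    h.cube c (hx j hj).2.2 ((hx j hj).2.1 ▸ (bb_c j hj).2.2.1)
  have s : ∀ j < 5, ∀ v < 256, vm 8 (vm 8 v (A j)) (A j) = vm 8 v (A j) ^^^ v := fun j hj v =>
    h.fpf c (hx j hj).2.2 ((hx j hj).2.1 ▸ (bb_c j hj).2.2.1) ((hx j hj).2.1 ▸ cb j hj)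
  have cl : Cl fun j v => vm 8 v (A j) := ⟨fun j v => vm_lt 8 v _, fun j a b => vm_xor 8 a b _, s,
    fun j hj i hi n v hv => by
      obtain ⟨m, e, a⟩ := hx j (by omega)
      obtain ⟨m', e', a'⟩ := hx i (by omega)
      have := h.ac_one c (c.cd.mul' (c.cd.mul' a' a) (c.cd.mul' a' a)) (by
        rw [h.hom _ (mul_mem m' m) _ (mul_mem m' m), h.hom _ m' _ m, e, e', (bb_d i hi j hj).resolve_left n.symm])
        (vm_lt 8 (vm 8 (vm 8 (vm 8 v (A j)) (A j)) (A i)) (A i))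
      simp only [vm_mm p] at this
      rw [cu i (by omega) _ (vm_lt _ _ _), cu j (by omega) v hv, s i (by omega) _ (vm_lt _ _ _), s j (by omega) v hv,
        vm_xor] at this
      simp only [this, Nat.xor_assoc, Nat.xor_comm, Nat.xor_left_comm], fun j hj v hv => by
      obtain ⟨m, e, a⟩ := hx j (by omega)
      obtain ⟨m', e', a'⟩ := hx 4 (by omega)
      have q := h.div_mem (mul_mem m m') (mul_mem m' m) (by
        rw [h.hom _ m _ m', h.hom _ m' _ m, e, e', bb_ge le_rfl, (bb_c j (by omega)).2.2.2])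
      have := c.uniq (c.cd.mul' (c.cd.mul' a a') (c.ac_self q)) (by rw [mul_inv_cancel_left]; exact c.cd.mul' a' a) hv
      simpa only [vm_mm p, vm_mo p (vm_lt _ _ _)] using this.symm⟩
  obtain ⟨B, b1, b2⟩ := cl.exists_bj
  obtain ⟨π', F, a⟩ := b1.frame h.toLQ c hk sq (x := fun j => x (min j 4)) (M := fun j => μ (bb j)) (fun j hj =>
    ⟨_, (hx _ (by omega)).2.2, fun c hc => (b2 _ (by omega) c hc).trans (by
      rcases le_total j 4 with l | l
      · rw [min_eq_left l]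
      · rw [min_eq_right l, bb_ge l, bb_ge le_rfl])⟩) form_a
  let S : Subgroup Γ6 := { carrier := {γ | ∃ g ∈ H, Φ g = γ ∧ Ac 8 Q π' g (μ γ)}
                           one_mem' := ⟨1, one_mem _, h.hom.one, μ_one ▸ F.cd.one'⟩
                           mul_mem' := fun ⟨g, hg, e, a⟩ ⟨k, hk, e', a'⟩ => ⟨_, mul_mem hg hk,
                             by rw [h.hom g hg k hk, e, e'], μ_mul _ _ ▸ F.cd.mul' a a'⟩
                           inv_mem' := fun ⟨g, hg, e, a⟩ => ⟨_, inv_mem hg, by rw [h.hom.inv hg, e],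
                             F.cd.inv' a rfl (by rw [← μ_mul, mul_inv_cancel, μ_one])⟩ }
  refine ⟨π', F, fun g hg h1 h2 => ?_⟩
  obtain ⟨k, hk, e, a⟩ := even_le (S := S) (fun i hi => ⟨_, (hx i hi).1, (hx i hi).2.1, by
    simpa only [min_eq_left (show i ≤ 4 by omega)] using a i (by omega)⟩) h1 h2
  simpa only [mul_inv_cancel_left] using F.ac_mul a (h.div_mem hk hg e)

omit h in
theorem basis : ∀ j < 8, ∃ κ ∈ ([(1, 1), (1, swap 0 1 * swap 3 4), (1, swap 0 1 * swap 1 2),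
    (1, swap 0 1 * swap 1 2 * swap 2 3 * swap 3 5), (swap 0 1 * swap 1 2, swap 3 4 * swap 4 5),
    (swap 0 1 * swap 1 2, swap 0 1 * swap 4 5), (swap 0 1 * swap 1 2, swap 0 1 * swap 1 2 * swap 3 4 * swap 4 5),
    (swap 0 1 * swap 1 2, swap 0 1 * swap 1 2 * swap 2 3 * swap 4 5)] : List Γ6), vm 8 1 (μ κ) = 2 ^ j ∧
    sign κ.1 = 1 ∧ sign κ.2 = 1 ∧ ∀ i < 3, vm 8 (vm 8 1 (μ (X ^ i))) (μ κ) = vm 8 (2 ^ j) (μ (X ^ i)) := by
  decide +kernel

theorem exists_ma (cb : ∀ i < 5, Nat.card (C (bb i)) = 2) : ∃ Ψ π, Ma Q z Ψ π := by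
  obtain ⟨π, F, a⟩ := h.frame cb
  have p := F.pos
  have : ∀ g ∈ H, ∃ γ, Ac 8 Q π g (μ γ) := fun g hg => by
    obtain ⟨m, -, b⟩ := F.ex (h.nor hg) (h.nz hg)
    have k : ∀ κ : Γ6, sign κ.1 = 1 → sign κ.2 = 1 → ∀ v < 256, vm 8 (vm 8 (vm 8 v (μ κ)) m) (μ (Φ g)⁻¹) =
        vm 8 (vm 8 (vm 8 v m) (μ (Φ g)⁻¹)) (μ κ) := fun κ h1 h2 v hv => by
      obtain ⟨k, hk, rfl⟩ := h.sur κ h1 h2
      have mk := mul_mem (mul_mem (inv_mem hg) hk) hg
      have := F.toCo.uniq (F.cd.mul' (a k hk h1 h2) b) (by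
        simpa only [← mul_assoc, mul_inv_cancel, one_mul] using F.cd.mul' b (a _ mk
          (by rw [h.hom.conj' hg hk]; simp [h1]) (by rw [h.hom.conj' hg hk]; simp [h2]))) hv
      rw [vm_mm p, vm_mm p] at this
      rw [this, ← vμ, ← vμ, h.hom.conj' hg hk, mul_inv_cancel_right]
    have f := k (1, swap 0 5 * swap 1 2 * swap 2 3 * swap 3 4) (by decide) (by decide) 1 (by norm_num)
    rw [show vm 8 1 (μ _) = 1 by decide +kernel] at f
    obtain ⟨i, hi, e⟩ := ((by decide +kernel : ∀ c < 256, c = vm 8 c (μ (1, swap 0 5 * swap 1 2 * swap 2 3 * swap 3 4)) →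
      c = 0 ∨ ∃ i < 3, c = vm 8 1 (μ (X ^ i))) _ (vm_lt _ _ _) f).resolve_left fun e => by
      have := congrArg (vm 8 · (μ (Φ g))) e
      simp only [← vμ, inv_mul_cancel, vμ1 (vm_lt 8 _ _), vm_zero] at this
      exact one_ne_zero (F.inj b (h.nz hg) (by norm_num) (by norm_num) (this.trans (vm_zero _ _).symm))
    refine ⟨X ^ i * Φ g, F.congr b (xor_ind (by rw [vm_zero, vm_zero]) (fun j hj => ?_)
      fun a _ b _ ha hb => by rw [vm_xor, vm_xor, ha, hb])⟩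
    obtain ⟨κ, -, e1, h1, h2, e2⟩ := basis j hj
    have := k κ h1 h2 1 (by norm_num)
    rw [e, e1, e2 i hi] at this
    rw [vμ, ← this, ← vμ, inv_mul_cancel, vμ1 (vm_lt 8 _ _)]
  choose! Ψ hΨ using this
  have u : ∀ {g γ}, g ∈ H → Ac 8 Q π g (μ γ) → Ψ g = γ := fun hg b => mul_inv_eq_one.1 (μ_inj fun c hc => by
    rw [vμ, F.toCo.uniq (hΨ _ hg) b hc, ← vμ, mul_inv_cancel, vμ1 hc])
  exact ⟨Ψ, π, { F with
    card := h.card
    hom := fun g hg k hk => u (mul_mem hg hk) (μ_mul _ _ ▸ F.cd.mul' (hΨ g hg) (hΨ k hk))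
    kr := fun g hg => ⟨fun e => mem_of_ac F (μ_one ▸ e ▸ hΨ g hg), fun e => u hg (μ_one ▸ F.ac_self e)⟩
    sur := fun σ h1 h2 => by
      obtain ⟨g, hg, rfl⟩ := h.sur σ h1 h2
      exact ⟨g, hg, u hg (a g hg h1 h2)⟩
    ac := hΨ }⟩

theorem card_conj {σ τ : Γ6} (e1 : σ.1 = 1) (e2 : τ.1 = 1) (e : σ.2.cycleType = τ.2.cycleType) {o : Perm (Fin 6)}
    (h1 : sign o = -1) (h2 : o * τ.2 = τ.2 * o) : Nat.card (C σ) = Nat.card (C τ) := by
  obtain ⟨ρ, k1, k2⟩ := conjA e h1 h2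
  obtain ⟨g, hg, k⟩ := h.sur (1, ρ) (map_one _) k1
  rw [← card_cj g, h.C_cj hg, k, show (1, ρ) * σ * (1, ρ)⁻¹ = τ from Prod.ext (by simp [e1, e2]) k2]

theorem ma2 (c1 : Nat.card (C X) = 2) (c2 : Nat.card (C (R1 * R2)) = 2) : ∃ Ψ π, Ma Q z Ψ π :=
  h.exists_ma fun i hi => by
    rcases lt_or_ge i 4 with l | l
    · rw [h.card_conj (bb_e i l).1 rfl (bb_e i l).2.symm (o := swap 0 3 * swap 1 4 * swap 2 5) (by decide) (by decide), c2]
    · rwa [bb_ge l]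

theorem ma1 (c1 : Nat.card (C X) = 2) (c2 : Nat.card (C R1) = 2) : ∃ Ψ π, Ma Q z Ψ π := by
  obtain ⟨θ, t0, t1, t2, t3, t4⟩ := CF.Perm.exists_outer_fin_six
  let Θ : Γ6 →* Γ6 := (MonoidHom.id _).prodMap θ.toMonoidHom
  have i : Function.Injective Θ := fun a b e => Prod.ext (congrArg Prod.fst e :) (θ.injective (congrArg Prod.snd e :))
  have s : ∀ a, sign (θ a) = sign a := perm_ind (by rw [map_one]) fun a i e => by
    rw [map_mul, map_mul, map_mul, e]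
    congr 1
    fin_cases i
    exacts [(congrArg sign t0).trans (by decide), (congrArg sign t1).trans (by decide), (congrArg sign t2).trans (by decide),
      (congrArg sign t3).trans (by decide), (congrArg sign t4).trans (by decide)]
  have h' : S36 Q z fun g => Θ (Φ g) := ⟨h.map i, fun σ h1 h2 => by
    obtain ⟨g, hg, e⟩ := h.sur (σ.1, θ.symm σ.2) h1 (by rwa [← s, θ.apply_symm_apply])
    exact ⟨g, hg, by rw [e]; exact Prod.ext rfl (θ.apply_symm_apply _)⟩⟩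
  refine h'.ma2 (by rwa [show X = Θ X from Prod.ext rfl (map_one θ).symm, h.Cf_map i]) ?_
  rw [← h'.card_conj (σ := Θ (1, swap 0 1 * swap 1 2)) rfl rfl (o := swap 0 3 * swap 1 4 * swap 2 5) (by
    rw [show (Θ (1, swap 0 1 * swap 1 2)).2 = θ (swap 0 1) * θ (swap 1 2) from map_mul θ _ _, t0, t1]
    decide +kernel) (by decide) (by decide), h.Cf_map i,
    h.card_conj (τ := R1) rfl rfl (o := swap 3 4) (by decide +kernel) (by decide) (by decide), c2]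

end S36

end CF.LX4
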