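import Cfsg.Agent.LX4.Mw

/-! No conjugate of the centre lies in the extraspecial group. -/

set_option autoImplicit false
set_option maxRecDepth 1000000
set_option synthInstance.maxSize 2000
set_option linter.unusedSectionVars false

namespace CF.LX4
open Cfsg Subgroup CF.Loc CF.Even CF.LX CF.J4 CF.Comp CF.Dce CF.MonU Equiv Equiv.Perm
open CF.ThR (clos reach1 q8 b8)

/-- the stabilising element of order three, rank two -/
def κR : Γ6 := (swap 0 1 * swap 1 2, swap 0 4 * swap 1 5 * swap 2 4 * swap 3 5)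

/-- the stabilising element of order three, rank one -/
def κP : Γ6 := (1, swap 0 1 * swap 1 2)

/-- the moving element -/
def κM : Γ6 := (1, swap 0 4 * swap 1 5)

/-- the core of the stabiliser, rank two -/
def OR : List Γ6 := [1] ×ˢ [1, swap 4 5, swap 2 3, swap 2 3 * swap 4 5, swap 0 1, swap 0 1 * swap 4 5,
  swap 0 1 * swap 2 3, swap 0 1 * swap 2 3 * swap 4 5]

/-- the core of the stabiliser, rank one -/
def OP : List Γ6 := [1, swap 0 1] ×ˢ [1, swap 4 5, swap 0 1 * swap 2 3, swap 0 1 * swap 2 3 * swap 4 5,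
  swap 0 2 * swap 1 3, swap 0 2 * swap 1 3 * swap 4 5, swap 0 3 * swap 1 2, swap 0 3 * swap 1 2 * swap 4 5]

/-- the codes of the intersection -/
def E0 : List ℕ := [0, 15, 51, 60, 85, 90, 102, 105, 150, 153, 165, 170, 195, 204, 240, 255]

theorem mem_O : ∀ x ∈ [(60, κR, OR), (255, κP, OP)], ∀ b : Perm (Fin 6), b * b = 1 →
    b * (x.2.1.2 * b * x.2.1.2⁻¹) = x.2.1.2 * b * x.2.1.2⁻¹ * b → ∀ a : Perm (Fin 3), a * a = 1 →
    vm 8 x.1 (μ (a, b)) = x.1 → (a, b) ∈ x.2.2 := by decide +kernel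

theorem N1 : ∀ γ ∈ OR, γ = 1 ∨ ∃ a ∈ [4, 16], b8 a 60 = 0 ∧ a ^^^ vm 8 a (μ γ) ∉ [0, 60] ∧
    ∀ δ ∈ OR, vm 8 (a ^^^ vm 8 a (μ γ)) (μ δ) = a ^^^ vm 8 a (μ γ) := by decide +kernel

theorem N2 : ∀ γ ∈ OP, γ ∈ [1, swap 0 1] ×ˢ [1, swap 4 5] ∨ ∃ i < 3,
    κP ^ i * (γ * (κP * γ * κP⁻¹)) * (κP ^ i)⁻¹ = (1, swap 0 1 * swap 2 3) := by decide +kernel

theorem N3 : ∀ c < 256, b8 c 15 = 0 → b8 c 51 = 0 → b8 c 85 = 0 → b8 c 255 = 0 → c ∈ E0 := by decide +kernel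

theorem N4 : ∀ γ ∈ OP, κM * γ * κM⁻¹ ∈ OP → γ * (1, swap 0 1 * swap 2 3) = (1, swap 4 5) ∨
    γ ∈ [1, (swap 0 1, 1), (swap 0 1, swap 0 1 * swap 2 3 * swap 4 5)] := by decide +kernel

variable {G : Type*} [Group G] [Finite G] {Q P : Subgroup G} {z t : G} {Φ Ψ : G → Γ6} {π π' : G → ℕ}

local notation "H" => 𝐂₁(z)
local notation "C" => Cf Q z Φ

namespace Ma
variable (h : Ma Q z Φ π)
include h

theorem orb {n v c : ℕ} (hc : c < 256) (e : (clos L5 n (2 ^ v)).testBit c = true) {a : G} (ha : a ∈ Q)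
    (ea : π a = c) : ∃ g ∈ H, π (g⁻¹ * a * g) = v :=
  reach1 (P := fun d => ∃ g ∈ H, π (g⁻¹ * a * g) = d) (fun m hm d _ ⟨g, hg, e⟩ => by
    obtain ⟨j, hj, rfl⟩ := mem_L5.1 hm
    obtain ⟨x, hx, k⟩ := h.sur _ (bb_c j hj).1 (bb_c j hj).2.1
    refine ⟨g * x, mul_mem hg hx, ?_⟩
    rw [← e, ← k, ← (h.ac x hx).2 _ (h.cQ hg ha)]; congr 1; group) hc e ⟨1, one_mem _, by simpa using ea⟩

variable (p : Pair Q P z t)
include p

theorem lift_fix {κ : Γ6} (k : sign κ.1 = 1 ∧ sign κ.2 = 1 ∧ vm 8 (π t) (μ κ) = π t) :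
    ∃ g ∈ H, Φ g = κ ∧ g * t = t * g := by
  obtain ⟨g, hg, rfl⟩ := h.sur κ k.1 k.2.1
  rcases h.toFr.eq_or p.tQ (h.cQ hg p.tQ) (by rw [(h.ac g hg).2 t p.tQ, k.2.2]) with e | e
  · exact ⟨g, hg, rfl, by rw [← inv_mul_eq_iff_eq_mul.1 (mul_assoc g⁻¹ t g ▸ e)]⟩
  · obtain ⟨q, hq, -, e'⟩ := p.exists_q
    refine ⟨g * q, mul_mem hg (h.le_c1 hq), h.Φmul hg hq, (inv_mul_eq_iff_eq_mul.1 ?_).symm⟩
    rw [show (g * q)⁻¹ * (t * (g * q)) = q⁻¹ * (g⁻¹ * t * g) * q by group, e, p.tz, ← e']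
    group

theorem core {x : ℕ × Γ6 × List Γ6} (hx : x ∈ [(60, κR, OR), (255, κP, OP)]) (e : π t = x.1) {b : G}
    (hb : b ∈ P ⊓ H) : Φ b ∈ x.2.2 := by
  obtain ⟨g, hg, k, c⟩ := h.lift_fix p (κ := x.2.1) (e ▸ (by decide +kernel : ∀ x ∈ [(60, κR, OR), (255, κP, OP)],
    sign x.2.1.1 = 1 ∧ sign x.2.1.2 = 1 ∧ vm 8 x.1 (μ x.2.1) = x.1) x hx)
  have m := norm_mem' (h.nor_B p hg c) hb
  have a := h.ΦB p hb
  have a2 := h.ΦB p (mul_mem hb m)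
  have a3 := h.ΦB p m
  rw [h.hom _ hb.2 _ m.2] at a2
  rw [h.hom.conj hg hb.2, k] at a2 a3
  have a4 : Φ b * (x.2.1 * Φ b * x.2.1⁻¹) = x.2.1 * Φ b * x.2.1⁻¹ * Φ b := by
    rw [← mul_left_inj (Φ b * (x.2.1 * Φ b * x.2.1⁻¹)), a2, mul_assoc, ← mul_assoc (Φ b), a, one_mul, a3]
  exact mem_O x hx _ (congrArg Prod.snd a) (congrArg Prod.snd a4) _ (congrArg Prod.fst a) (by
    rw [← e, ← (h.ac b hb.2).2 t p.tQ, mul_assoc, ← mem_c1.1 (p.r.le_c1 hb.1), inv_mul_cancel_left])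

theorem comm_E {b : G} (hb : b ∈ P ⊓ H) {a : ℕ} (ha : a < 256) (e : b8 a (π t) = 0) :
    ∃ f ∈ Q ⊓ P, π f = a ^^^ vm 8 a (μ (Φ b)) := by
  obtain ⟨r, hr, rfl⟩ := h.surj a ha
  refine ⟨_, mem_inf.2 ⟨mul_mem (inv_mem hr) (h.cQ hb.2 hr), ?_⟩, h.code hr hb.2⟩
  simpa only [mul_assoc] using P.mul_mem (norm_mem (h.nor_B p (h.le_c1 hr) ((h.toFr.comm_iff hr p.tQ).2 e))
    (inv_mem hb)).1 hb.1

theorem cen_E {f b : G} (hf : f ∈ Q ⊓ P) (hb : b ∈ P ⊓ H) (e : vm 8 (π f) (μ (Φ b)) = π f) : f * b = b * f :=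
  h.EB_comm p hf hb ((h.mem_C' h.toCo (h.ac b hb.2) hf.1).2 e)

theorem not_rank (e : π t = 60) : False := by
  have c := fun b => h.core p (x := (60, κR, OR)) (b := b) (by simp) e
  obtain ⟨b, hb, n⟩ : ∃ b ∈ P ⊓ H, Φ b ∉ [1] := by
    by_contra! n
    have := h.B_le p n
    have := h.E_le p
    simp only [List.length_singleton] at *
    omega
  obtain ⟨a, ha, k1, k2, k3⟩ := (N1 _ (c b hb)).resolve_left (by simpa using n)
  obtain ⟨f, hf, k⟩ := h.comm_E p hb ((by decide : ∀ a ∈ [4, 16], a < 256) a ha) (e ▸ k1)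
  rw [← k] at k2 k3
  rcases p.r.cent_c1 p.zP h.zz hf.2 fun u hu c' => (h.cen_E p hf ⟨hu, mem_c1.2 c'⟩ (k3 _ (c u ⟨hu, mem_c1.2 c'⟩))).symm
    with rfl | rfl | rfl | rfl
  · simp [h.one] at k2
  · simp [e] at k2
  · simp [h.toFr.pz] at k2
  · simp [h.mul _ p.tQ _ h.mem, e, h.toFr.pz] at k2

theorem norm_t : ∃ Φ π, Ma Q z Φ π ∧ π t = 255 := by
  rcases (by decide +kernel : ∀ c < 256, c = 0 ∨ q8 c = 1 ∨ oP.testBit c = true ∨ oR.testBit c = true) _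
    (h.lt _ p.tQ) with e | e | e | e
  · exact ((h.mem_z.1 ((h.ker _ p.tQ).1 e)).elim p.r.z_ne p.ne).elim
  · rw [(h.toFr.sq_iff p.tQ).1 p.r.zz] at e; exact absurd e zero_ne_one
  · obtain ⟨k, hk, e⟩ := h.orb (h.lt _ p.tQ) (by rwa [← orbs.1, Bt.forceL_eq] at e) p.tQ rfl
    exact ⟨_, _, h.tw hk, e⟩
  · obtain ⟨k, hk, e⟩ := h.orb (h.lt _ p.tQ) (by rwa [← orbs.2.1, Bt.forceL_eq] at e) p.tQ rfl
    exact ((h.tw hk).not_rank p e).elim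

theorem pure (e : π t = 255) : (∀ q ∈ Q ⊓ 𝐂(Q ⊓ P), π q ∈ E0) ∧ (∃ f ∈ Q ⊓ P, π f = 51) ∧
    ∃ b ∈ P ⊓ H, Φ b = (1, swap 0 1 * swap 2 3) := by
  obtain ⟨g, hg, k, c⟩ := h.lift_fix p (κ := κP) (by rw [e]; decide +kernel)
  have cv : ∀ i γ, (∃ b ∈ P ⊓ H, Φ b = γ) → ∃ b ∈ P ⊓ H, Φ b = κP ^ i * γ * (κP ^ i)⁻¹ := by
    rintro i _ ⟨b, hb, rfl⟩
    exact ⟨_, norm_mem' (pow_mem (h.nor_B p hg c) i) hb, by rw [h.hom.conj (pow_mem hg i) hb.2, h.hom.pow hg, k]⟩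
  obtain ⟨b, hb, n⟩ : ∃ b ∈ P ⊓ H, Φ b ∉ ([1, swap 0 1] ×ˢ [1, swap 4 5] : List Γ6) := by
    by_contra! n
    have := h.B_le p n
    have := h.E_le p
    simp only [List.length_product, List.length_cons, List.length_nil] at *
    omega
  obtain ⟨i, -, k0⟩ := (N2 _ (h.core p (x := (255, κP, OP)) (by simp) e hb)).resolve_left n
  obtain ⟨b1, hb1, k1⟩ := cv 1 _ ⟨b, hb, rfl⟩
  obtain ⟨b0, hb0, k0⟩ := k0 ▸ cv i _ ⟨_, mul_mem hb hb1, by rw [h.hom _ hb.2 _ hb1.2, k1, pow_one]⟩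
  obtain ⟨b2, hb2, k2⟩ := cv 2 _ ⟨b0, hb0, k0⟩
  obtain ⟨f1, m1, e1⟩ := h.comm_E p hb0 (a := 5) (by norm_num) (by rw [e]; decide +kernel)
  obtain ⟨f2, m2, e2⟩ := h.comm_E p hb0 (a := 17) (by norm_num) (by rw [e]; decide +kernel)
  obtain ⟨f3, m3, e3⟩ := h.comm_E p hb2 (a := 17) (by norm_num) (by rw [e]; decide +kernel)
  replace e1 : π f1 = 15 := by rw [e1, k0]; decide +kernel
  replace e2 : π f2 = 51 := by rw [e2, k0]; decide +kernel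
  replace e3 : π f3 = 85 := by rw [e3, k2]; decide +kernel
  refine ⟨fun q hq => ?_, ⟨f2, m2, e2⟩, b0, hb0, k0⟩
  have s : ∀ {f}, f ∈ Q ⊓ P → b8 (π q) (π f) = 0 := fun hf => (h.toFr.comm_iff hq.1 hf.1).1 (hq.2 _ hf).symm
  exact N3 _ (h.lt _ hq.1) (e1 ▸ s m1) (e2 ▸ s m2) (e3 ▸ s m3) (e ▸ s (p.V_le p.tV))

theorem E32 : 32 ≤ Nat.card ↥(Q ⊓ P) := by
  obtain ⟨Φ, π, h, e⟩ := h.norm_t p
  have a := Nat.mul_le_mul_left (Nat.card ↥(Q ⊓ P)) (h.toFr.card_le inf_le_left (h.pure p e).1)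
  rw [h.card_K (p.V_le p.zV) inf_le_left] at a
  simp only [E0, List.length_cons, List.length_nil] at a
  omega

theorem not_pair : False := by
  obtain ⟨Φ, π, h, e⟩ := h.norm_t p
  obtain ⟨k1, ⟨f, hf, k2⟩, b0, hb0, k3⟩ := h.pure p e
  have c := fun b => h.core p (x := (255, κP, OP)) (b := b) (by simp) e
  have E : ∀ q ∈ Q ⊓ P, π q ∈ E0 := fun q hq => k1 q ⟨hq.1, h.E_cen p hq⟩
  have K : P ⊓ 𝐂(Q ⊓ P) ≤ Q ⊓ P := (Loc.eq_of_le_of_card_le (le_inf inf_le_right (h.E_cen p)) (by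
    have a := h.card_KP p (p.V_le p.tV) inf_le_right
    have := h.E32 p
    nlinarith)).ge
  obtain ⟨k, hk, ek⟩ := h.sur κM (by decide +kernel) (by decide +kernel)
  have e1 : π (k⁻¹ * t * k) = 51 := by rw [(h.ac k hk).2 t p.tQ, e, ek]; decide +kernel
  have m : k⁻¹ * t * k⁻¹⁻¹ ∈ P := by
    rw [inv_inv]
    rcases h.toFr.eq_or hf.1 (h.cQ hk p.tQ) (k2.trans e1.symm) with e | e <;> rw [e]
    exacts [hf.2, mul_mem hf.2 p.zP]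
  obtain ⟨g, -, e2, -⟩ := p.exists_swap
  have h' := h.cj g
  rw [e2, p.cjl g e2] at h'
  have p' := p.r.pair (by rw [h'.card]; norm_num) (fun n => by rw [inv_inv] at n; rw [n, e] at e1; omega) m
  have zF : z ∈ P ⊓ cj[k⁻¹] P := ⟨p.zP, mem_cj.2 (by simpa [mem_c1.1 hk] using p.zP)⟩
  have FH : P ⊓ cj[k⁻¹] P ≤ H := fun x hx => mem_c1.2 (h'.E_cen p' hx z zF).symm
  have FB : ∀ x ∈ P ⊓ cj[k⁻¹] P, k * x * k⁻¹ ∈ P ⊓ H := fun x hx =>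
    ⟨by simpa using mem_cj.1 hx.2, (H).mul_mem (mul_mem hk (FH hx)) (inv_mem hk)⟩
  have a := h.toQt.card_le FH (L := [1, (swap 0 1, 1), (swap 0 1, swap 0 1 * swap 2 3 * swap 4 5)]) fun x hx => by
    have xB : x ∈ P ⊓ H := ⟨hx.1, FH hx⟩
    refine (N4 _ (c x xB) (by rw [← ek, ← h.hom.conj hk xB.2]; exact c _ (FB x hx))).resolve_left fun n => ?_
    rw [← k3, ← h.hom _ xB.2 _ hb0.2] at n
    have := h.ΦQ (K ⟨mul_mem hx.1 hb0.1, fun q hq => h.cen_E p hq (mul_mem xB hb0) (n ▸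
      (by decide +kernel : ∀ c ∈ E0, vm 8 c (μ (1, swap 4 5)) = c) _ (E q hq))⟩).1
    rw [n] at this
    exact absurd this (by decide)
  have b := h.toFr.card_le (A := P ⊓ cj[k⁻¹] P ⊓ Q) inf_le_right (L := [0, 51, 204, 255]) fun x hx => by
    have m := h.cQ' hk hx.2
    have := (h.ac k hk).2 _ m
    rw [show k⁻¹ * (k * x * k⁻¹) * k = x by group, ek] at this
    have u := E x ⟨hx.2, hx.1.1⟩
    rw [this] at u ⊢
    exact (by decide +kernel : ∀ c ∈ E0, vm 8 c (μ κM) ∈ E0 → vm 8 c (μ κM) ∈ [0, 51, 204, 255]) _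
      (E _ ⟨m, (FB x hx.1).1⟩) u
  have := h'.E32 p'
  simp only [List.length_cons, List.length_nil] at a b
  omega

end Ma

end CF.LX4
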