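import Cfsg.Agent.LX4.S36
import Cfsg.Agent.ThR.Spin

/-! The tensor product module of `S₃ × S₆`. -/

set_option autoImplicit false
set_option maxRecDepth 1000000
set_option linter.unusedSectionVars false

namespace CF.LX4
open Cfsg Subgroup CF.Loc CF.Even CF.LX CF.J4 CF.Comp CF.Dce Equiv Equiv.Perm
open CF.ThR (act rm jn2 act_succ act_jn rm_succ clos reach1 Bj Cub q8 b8 form_fin)

/-- codes of the points -/
noncomputable def pt6 (a : Perm (Fin 6)) (i : Fin 6) : ℕ := nth 0 [0x1001, 0x2002, 0x4004, 0x8008, 0xf, 0xf000] (a⁻¹ i).val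

/-- a row -/
noncomputable def rw6 (a b c k : ℕ) : ℕ := force a fun a =>
  Nat.xor (Nat.shiftLeft (Nat.land (Nat.xor a c) 255) k) (Nat.shiftLeft (Nat.shiftRight (Nat.xor a b) 8) (Nat.add k 32))

/-- the matrix of a permutation of six points -/
noncomputable def m6 (a : Perm (Fin 6)) : ℕ := force (pt6 a 4) fun b => force (pt6 a 5) fun c =>
  Nat.xor (Nat.xor (rw6 (pt6 a 0) b c 0) (rw6 (pt6 a 1) b c 8)) (Nat.xor (rw6 (pt6 a 2) b c 16) (rw6 (pt6 a 3) b c 24))

/-- the matrix of a permutation of three points -/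
noncomputable def m3 (a : Perm (Fin 3)) : ℕ := nth 0 [0, 
  0x8040201008040201, 
  0x8040201078b4d2e1, 
  0x70b0d0e70b0d0e0, 0, 
  0x874b2d1e70b0d0e0, 
  0x70b0d0e78b4d2e1, 
  0x874b2d1e08040201] (3 * (a 0).val + (a 1).val)

/-- the matrix of a pair -/
noncomputable def μ (γ : Γ6) : ℕ := mm 8 (m3 γ.1) (m6 γ.2)

theorem m3_mul : ∀ a b, m3 (a * b) = mm 8 (m3 a) (m3 b) := by decide +kernel

theorem m6_sw : ∀ a, ∀ i : Fin 5, m6 (a * swap i.castSucc i.succ) = mm 8 (m6 a) (m6 (swap i.castSucc i.succ)) := by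
  decide +kernel

theorem m_one : m6 1 = mo 8 ∧ m3 1 = mo 8 := by decide +kernel

theorem perm_ind {P : Perm (Fin 6) → Prop} (h1 : P 1) (h2 : ∀ a, ∀ i : Fin 5, P a → P (a * swap i.castSucc i.succ))
    (a : Perm (Fin 6)) : P a :=
  Submonoid.induction_of_closure_eq_top_right (mclosure_swap_castSucc_succ 5) a h1 (by
    rintro a _ ⟨i, rfl⟩ h; exact h2 a i h)

theorem m6_lt (a : Perm (Fin 6)) : m6 a < 2 ^ (8 * 8) :=
  perm_ind (P := fun a => m6 a < 2 ^ (8 * 8)) (by rw [m_one.1]; exact mo_lt (by norm_num))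
    (fun a i _ => m6_sw a i ▸ mm_lt (by norm_num) _ _) a

theorem m3_lt : ∀ a, m3 a < 2 ^ (8 * 8) := by decide +kernel

theorem m6_mul (a b : Perm (Fin 6)) : m6 (a * b) = mm 8 (m6 a) (m6 b) :=
  perm_ind (P := fun b => m6 (a * b) = mm 8 (m6 a) (m6 b)) (by rw [mul_one, m_one.1, mm_mo (by norm_num) (m6_lt a)])
    (fun b i e => by rw [← mul_assoc, m6_sw, e, m6_sw b, mm_assoc (by norm_num)]) b

theorem m63 (a : Perm (Fin 6)) (b : Perm (Fin 3)) : mm 8 (m6 a) (m3 b) = mm 8 (m3 b) (m6 a) :=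
  perm_ind (P := fun a => mm 8 (m6 a) (m3 b) = mm 8 (m3 b) (m6 a)) (by
    rw [m_one.1, mm_mo (by norm_num) (m3_lt b), mo_mm (by norm_num) (m3_lt b)]) (fun a i e => by
    rw [m6_sw, mm_assoc (by norm_num), (by decide +kernel : ∀ b, ∀ i : Fin 5, mm 8 (m6 (swap i.castSucc i.succ)) (m3 b) =
      mm 8 (m3 b) (m6 (swap i.castSucc i.succ))), ← mm_assoc (by norm_num), e, mm_assoc (by norm_num)]) a

theorem μ_mul (a b : Γ6) : μ (a * b) = mm 8 (μ a) (μ b) := by
  have p : 0 < 8 := by norm_num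
  rw [μ, μ, μ, Prod.fst_mul, Prod.snd_mul, m3_mul, m6_mul, mm_assoc p, mm_assoc p, ← mm_assoc p (m3 b.1), ← m63,
    mm_assoc p]

theorem μ_one : μ 1 = mo 8 := by decide +kernel

theorem vμ (c : ℕ) (a b : Γ6) : vm 8 c (μ (a * b)) = vm 8 (vm 8 c (μ a)) (μ b) := by rw [μ_mul, vm_mm (by norm_num)]

theorem vμ1 {c : ℕ} (h : c < 256) : vm 8 c (μ 1) = c := by rw [μ_one, vm_mo (by norm_num) h]

theorem μ_inj {a : Γ6} (h : ∀ c < 256, vm 8 c (μ a) = c) : a = 1 := by
  have e : m6 a.2 = m3 a.1⁻¹ := mat_ext (n := 8) (by norm_num) (m6_lt _) (m3_lt _) fun c hc => by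
    have := h _ (vm_lt 8 c (m3 a.1⁻¹))
    rwa [μ, vm_mm (by norm_num), ← vm_mm (by norm_num) c, ← m3_mul, inv_mul_cancel, m_one.2, vm_mo (by norm_num) hc] at this
  have := (by decide +kernel : ∀ a, force (m6 a) (fun m => lany (fun b => Nat.beq m (m3 b))
    [swap 0 1, swap 0 2, swap 1 2, swap 0 1 * swap 0 2, swap 0 2 * swap 0 1]) = false ∧ (m6 a = mo 8 → a = 1)) a.2
  rw [force_eq, e] at this
  have k := (by decide +kernel : ∀ c, lany (fun b => Nat.beq (m3 c) (m3 b))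
    [swap 0 1, swap 0 2, swap 1 2, swap 0 1 * swap 0 2, swap 0 2 * swap 0 1] = false → c = 1) _ this.1
  exact Prod.ext (inv_eq_one.1 k) (this.2 (k ▸ m_one.2))

/-- four generators of the alternating group -/
noncomputable def bb (i : ℕ) : Γ6 := nth X [(1, swap 0 4 * swap 1 3 * swap 2 3 * swap 4 5),
  (1, swap 0 2 * swap 1 5 * swap 2 3 * swap 4 5), (1, swap 0 5 * swap 1 4 * swap 2 5 * swap 3 4),
  (1, swap 0 3 * swap 1 2 * swap 2 5 * swap 3 4)] i

theorem bb_ge {i : ℕ} (h : 4 ≤ i) : bb i = X := nth_of_le _ h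

theorem bb_c : ∀ i < 5, sign (bb i).1 = 1 ∧ sign (bb i).2 = 1 ∧ bb i ^ 3 = 1 ∧ bb i * X = X * bb i := by decide +kernel

theorem bb_d : ∀ i < 4, ∀ j < 4, i = j ∨ bb i * bb j * (bb i * bb j) = 1 := by decide +kernel

theorem bb_e : ∀ i < 4, (bb i).1 = 1 ∧ (R1 * R2).2.cycleType = (bb i).2.cycleType := by decide +kernel

theorem even_le {S : Subgroup Γ6} (h : ∀ i < 5, bb i ∈ S) {σ : Γ6} (h1 : sign σ.1 = 1) (h2 : sign σ.2 = 1) : σ ∈ S := by
  have k : ∀ i : Fin 5, ((1, swap i.castSucc i.succ * swap 0 1) : Γ6) ∈ S := fun i => by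
    rw [(by decide +kernel : ∀ i : Fin 5, ((1, swap i.castSucc i.succ * swap 0 1) : Γ6) =
      ev (trunc bb 4) (nth [] [[], [1, 6, 8, 3], [6, 8], [1, 3], [5, 7]] i)) i]
    exact ev_mem (fun j => by rw [trunc]; split_ifs with e; exacts [h j (by omega), one_mem _]) _
  have k2 := perm_ind (P := fun a => (sign a = 1 → ((1, a) : Γ6) ∈ S) ∧ (sign a = -1 → ((1, a * swap 0 1) : Γ6) ∈ S))
    ⟨fun _ => one_mem S, fun e => absurd e (by decide)⟩ (fun a i e => by
      have s : sign (a * swap i.castSucc i.succ) = -sign a := by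
        rw [map_mul, sign_swap (Fin.castSucc_lt_succ).ne, mul_neg_one]
      refine ⟨fun f => ?_, fun f => ?_⟩
      · simpa [mul_assoc] using mul_mem (e.2 (by rwa [s, neg_eq_iff_eq_neg] at f)) (inv_mem (k i))
      · simpa [mul_assoc] using mul_mem (e.1 (by rwa [s, neg_inj] at f)) (k i)) σ.2
  obtain ⟨i, -, e⟩ := (by decide : ∀ a : Perm (Fin 3), sign a = 1 → ∃ i < 3, a = X.1 ^ i) _ h1
  have := mul_mem (pow_mem (h 4 (by norm_num)) i) (k2.1 h2)
  rwa [bb_ge le_rfl, show X ^ i * (1, σ.2) = σ from Prod.ext (by simp [e]) (by simp [X])] at this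

/-- the matrices of the generators -/
noncomputable def L5 : List ℕ := lmap (fun i => μ (bb i)) [0, 1, 2, 3, 4]

theorem mem_L5 {m : ℕ} : m ∈ L5 ↔ ∃ j < 5, μ (bb j) = m := by
  rw [L5, lmap_eq, List.mem_map]
  exact exists_congr fun j => and_congr_left fun _ => by simp; omega

/-- the pure tensors -/
noncomputable def oP : ℕ := nat_lit 0x800100030005100100110401020100810101004100210801000920014001fffe

/-- the other singular vectors -/
noncomputable def oR : ℕ := nat_lit 0x16683cc05aa0e00e6688c832a854007e6868c382a584070e9990133215540000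

theorem orbs : Bt.forceL L5 (fun L => clos L 4 (2 ^ 255)) = oP ∧ Bt.forceL L5 (fun L => clos L 6 (2 ^ 60)) = oR ∧
    Bt.forceL L5 (fun L => clos L 6 (2 ^ 17)) = 0x6996c33ca55a0ff0996633cc55aaff0096963c3c5a5af0f06666ccccaaaa0000 := by
  decide +kernel

theorem form_a (k : ℕ → ZMod 2) (h : Cub k) (inv : ∀ j < 7, ∀ c < 256, k (vm 8 c (μ (bb j))) = k c) :
    ∀ c < 256, k c = q8 c := by
  have f : ∀ {n v M}, Bt.forceL L5 (fun L => clos L n (2 ^ v)) = M → ∀ {c}, c < 256 → M.testBit c = true → k c = k v :=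
    fun e c hc m => (reach1 (P := fun d => k d = k c) (fun m hm d hd e => by
      obtain ⟨j, hj, rfl⟩ := mem_L5.1 hm
      rw [inv j (by omega) d hd, e]) hc (by rwa [← e, Bt.forceL_eq] at m) rfl).symm
  have a := @f _ _ _ orbs.1
  have b := @f _ _ _ orbs.2.1
  have c := @f _ _ _ orbs.2.2
  have e0 := h.2.2 1 (by norm_num) 2 (by norm_num) 4 (by norm_num)
  rw [a (c := 1 ^^^ 2 ^^^ 4) (by decide) (by decide +kernel), a (c := 1) (by decide) (by decide +kernel),
    a (c := 2) (by decide) (by decide +kernel), a (c := 4) (by decide) (by decide +kernel),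
    a (c := 1 ^^^ 2) (by decide) (by decide +kernel), a (c := 2 ^^^ 4) (by decide) (by decide +kernel),
    a (c := 4 ^^^ 1) (by decide) (by decide +kernel)] at e0
  have e1 := h.2.2 1 (by norm_num) 2 (by norm_num) 16 (by norm_num)
  rw [c (c := 1 ^^^ 2 ^^^ 16) (by decide) (by decide +kernel), a (c := 1) (by decide) (by decide +kernel),
    a (c := 2) (by decide) (by decide +kernel), a (c := 16) (by decide) (by decide +kernel),
    a (c := 1 ^^^ 2) (by decide) (by decide +kernel), b (c := 2 ^^^ 16) (by decide) (by decide +kernel),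
    c (c := 16 ^^^ 1) (by decide) (by decide +kernel)] at e1
  have f : k 255 = 0 ∧ k 60 = 0 := by
    revert e0 e1; generalize k 255 = a, k 60 = b, k 17 = c; revert a b c; decide
  refine form_fin h (a := k 17) fun x hx => ?_
  rcases (by decide +kernel : ∀ c < 256, q8 c = 0 ∧ (c = 0 ∨ oP.testBit c = true ∨ oR.testBit c = true) ∨ q8 c = 1 ∧
    Nat.testBit 0x6996c33ca55a0ff0996633cc55aaff0096963c3c5a5af0f06666ccccaaaa0000 c = true) x hx with
    ⟨e, rfl | m | m⟩ | ⟨e, m⟩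
  · rw [e, h.1]; simp
  · rw [e, a hx m, f.1]; simp
  · rw [e, b hx m, f.2]; simp
  · rw [e, c hx m]; simp

/-- the product in the algebra -/
noncomputable def ml (a n : ℕ) : ℕ → ℕ :=
  Nat.rec (motive := fun _ => ℕ → ℕ) (fun m => Bool.rec 0 a (tb m 0)) (fun n r m => force m fun m =>
    Nat.xor (r m) (rm 4 n (r (Nat.shiftRight m (Nat.pow 2 n))))) n

theorem ml_succ (a n m : ℕ) : ml a (n + 1) m = ml a n m ^^^ rm 4 n (ml a n (m >>> 2 ^ n)) := by
  rw [show ml a (n + 1) m = force m fun m => Nat.xor (ml a n m) (rm 4 n (ml a n (Nat.shiftRight m (Nat.pow 2 n))))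
    from rfl, force_eq]
  rfl

/-- the relations of the algebra -/
structure Cl (f : ℕ → ℕ → ℕ) : Prop where
  lt : ∀ j c, f j c < 256
  xor : ∀ j a b, f j (a ^^^ b) = f j a ^^^ f j b
  sq : ∀ j < 5, ∀ c < 256, f j (f j c) = f j c ^^^ c
  cm : ∀ j < 4, ∀ k < 4, j ≠ k → ∀ c < 256, f j (f k c) = f k (f j c) ^^^ f j c ^^^ f k c ^^^ c
  cx : ∀ j < 4, ∀ c < 256, f j (f 4 c) = f 4 (f j c)

namespace Cl
variable {f : ℕ → ℕ → ℕ} (h : Cl f)
include h

theorem zero (j : ℕ) : f j 0 = 0 := by simpa using h.xor j 0 0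

theorem act_lt (n m : ℕ) {c : ℕ} (hc : c < 256) : act f n m c < 256 := by
  induction n with
  | zero => show (if _ then c else 0) < 256; split_ifs <;> omega
  | succ n ih => exact Nat.xor_lt_two_pow (n := 8) ih (h.lt _ _)

theorem act_xor (n a b c : ℕ) : act f n (a ^^^ b) c = act f n a c ^^^ act f n b c := by
  induction n generalizing a b with
  | zero =>
    show (if _ then c else 0) = (if _ then c else 0) ^^^ (if _ then c else 0)
    rw [Nat.testBit_xor]
    cases a.testBit 0 <;> cases b.testBit 0 <;> simp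
  | succ n ih => rw [act_succ, act_succ, act_succ, Nat.shiftRight_xor_distrib, ih, ih, h.xor, xor4]

theorem act_zero (n c : ℕ) : act f n 0 c = 0 := by simpa using h.act_xor n 0 0 c

theorem act_zero' (n m : ℕ) : act f n m 0 = 0 := by
  induction n generalizing m with
  | zero => exact ite_self _
  | succ n ih => rw [act_succ, ih, ih, h.zero]; rfl

theorem act_one (n c : ℕ) : act f n 1 c = c := by
  induction n with
  | zero => rfl
  | succ n ih =>
    rw [act_succ, ih, Nat.shiftRight_eq_zero _ _ (Nat.one_lt_two_pow (Nat.two_pow_pos n).ne'), h.act_zero, h.zero,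
      Nat.xor_zero]

theorem act_rm {n j : ℕ} (hn : n ≤ 4) (hj : j < n) (m : ℕ) {c : ℕ} (hc : c < 256) :
    act f n (rm n j m) c = f j (act f n m c) := by
  induction n generalizing m with
  | zero => omega
  | succ n ih =>
    rw [rm_succ, act_succ f n m, h.xor]
    have l := h.act_lt n (m >>> 2 ^ n) hc
    split_ifs with e
    · rw [act_jn, h.act_xor, h.xor, e, h.sq n (by omega) _ l]
      simp only [Nat.xor_comm, Nat.xor_left_comm]
    · have hj' : j < n := by omega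
      rw [act_jn, h.act_xor, h.act_xor, h.act_xor, ih (by omega) hj', ih (by omega) hj', h.xor,
        h.cm j (by omega) n hn e _ l]
      simp only [Nat.xor_assoc, Nat.xor_comm, Nat.xor_left_comm]

theorem act_ml (a : ℕ) {n : ℕ} (hn : n ≤ 4) (m : ℕ) {c : ℕ} (hc : c < 256) :
    act f 4 (ml a n m) c = act f n m (act f 4 a c) := by
  induction n generalizing m with
  | zero =>
    show act f 4 (Bool.rec 0 a (tb m 0)) c = if m.testBit 0 then _ else 0
    rw [tb_eq]
    cases m.testBit 0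
    exacts [h.act_zero _ _, rfl]
  | succ n ih => rw [ml_succ, h.act_xor, h.act_rm le_rfl hn _ hc, ih (by omega), ih (by omega), act_succ f n]

theorem exists_v : ∃ v < 256, act f 4 0x2b87 v ≠ 0 := by
  by_contra! n
  have k : ∀ a b, act f 4 (ml (ml a 4 0x2b87) 4 b) 1 = 0 := fun a b => by
    rw [h.act_ml _ le_rfl _ (by norm_num), h.act_ml _ le_rfl _ (by norm_num), n _ (h.act_lt _ _ (by norm_num)),
      h.act_zero']
  have := h.act_one 4 1
  rw [show act f 4 1 1 = act f 4 (ml (ml 0x2b87 4 0x2b87) 4 0x2b87 ^^^ ml (ml 0xb267 4 0x2b87) 4 0xc654 ^^^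
    ml (ml 0x4a59 4 0x2b87) 4 0x92c6 ^^^ ml (ml 0xee70 4 0x2b87) 4 0x41f8) 1 from congrArg (act f 4 · 1) (by decide +kernel),
    h.act_xor, h.act_xor, h.act_xor, k, k, k, k] at this
  exact absurd this (by decide)

omit h in
theorem ws_ok : (∀ W ∈ [0x41f892c6c6542b87, 0x7f15ac2bf8b9156a0000000000000000], ∀ j < 4, ∀ i < 8,
    rm 4 j (vm 16 (2 ^ i) W) = vm 16 (vm 8 (2 ^ i) (μ (bb j))) W) ∧ ∀ i < 8,
    vm 16 (vm 8 (2 ^ i) (μ X)) 0x41f892c6c6542b87 = vm 16 (2 ^ i) 0x7f15ac2bf8b9156a0000000000000000 ∧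
    vm 16 (vm 8 (2 ^ i) (μ X)) 0x7f15ac2bf8b9156a0000000000000000 = vm 16 (2 ^ i) 0x41f892c6c6542b87 ^^^
      vm 16 (2 ^ i) 0x7f15ac2bf8b9156a0000000000000000 := by decide +kernel

theorem exists_bj : ∃ B, Bj B ∧ ∀ j < 5, ∀ c < 256, f j (B c) = B (vm 8 c (μ (bb j))) := by
  obtain ⟨v, hv, n⟩ := h.exists_v
  let B := fun c => act f 4 (vm 16 c 0x41f892c6c6542b87) v ^^^ f 4 (act f 4 (vm 16 c 0x7f15ac2bf8b9156a0000000000000000) v)
  have x : ∀ a b, B (a ^^^ b) = B a ^^^ B b := fun a b => by simp only [B, vm_xor, h.act_xor, h.xor, xor4]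
  have k : ∀ j < 5, ∀ c < 2 ^ 8, f j (B c) = B (vm 8 c (μ (bb j))) := fun j hj => xor_ind
    (by simp only [B, vm_zero, h.act_zero, h.zero, Nat.xor_self]) (fun i hi => by
      rcases lt_or_ge j 4 with l | l
      · simp only [B]
        rw [← ws_ok.1 _ (by simp) j l i hi, ← ws_ok.1 _ (by simp) j l i hi, h.act_rm le_rfl l _ hv,
          h.act_rm le_rfl l _ hv, h.xor, h.cx j l _ (h.act_lt _ _ hv)]
      · obtain rfl : j = 4 := by omega
        simp only [B]
        rw [bb_ge l, (ws_ok.2 i hi).1, (ws_ok.2 i hi).2, h.xor, h.sq 4 hj _ (h.act_lt _ _ hv), h.act_xor, h.xor]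
        simp only [Nat.xor_assoc, Nat.xor_comm, Nat.xor_left_comm])
    fun a _ b _ ha hb => by simp only [x, vm_xor, h.xor, ha, hb]
  refine ⟨B, Bj.of (fun c => Nat.xor_lt_two_pow (n := 8) (h.act_lt _ _ hv) (h.lt _ _)) (fun a _ b _ => x a b)
    (Ms := L5) (k := 4) (v := 1) (fun m hm c hc e => ?_) (mem_L5.2 ⟨3, by norm_num, rfl⟩)
    (mem_L5.2 ⟨1, by norm_num, rfl⟩) (by decide +kernel) ?_, k⟩
  · obtain ⟨j, hj, rfl⟩ := mem_L5.1 hm
    rw [← k j hj c hc, e, h.zero]
  · simp only [B]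
    rwa [show vm 16 1 0x41f892c6c6542b87 = 0x2b87 by decide +kernel,
      show vm 16 1 0x7f15ac2bf8b9156a0000000000000000 = 0 by decide +kernel, h.act_zero, h.zero, Nat.xor_zero]

end Cl

end CF.LX4
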