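import Cfsg.Agent.LX4.Ma

/-! The centre is not weakly closed when the normal element of order three acts without fixed points. -/

set_option autoImplicit false
set_option maxRecDepth 1000000
set_option synthInstance.maxSize 2000
set_option linter.unusedSectionVars false

namespace CF.LX4
open Cfsg Subgroup CF.Loc CF.Even CF.LX CF.J4 CF.Comp CF.Dce CF.MonU Equiv Equiv.Perm
open CF.ThR (clos reach1 q8 b8)

/-- a Sylow subgroup -/
def T6 : Subgroup Γ6 := 𝐂₁((swap 0 1, swap 4 5)) ⊓ 𝐂₁((1, swap 0 1 * swap 2 3))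

/-- its elements -/
def TL : List Γ6 := [1, swap 0 1] ×ˢ
  [1, swap 4 5, swap 2 3, swap 2 3 * swap 4 5, swap 0 1, swap 0 1 * swap 4 5, swap 0 1 * swap 2 3, swap 0 1 *
  swap 2 3 * swap 4 5, swap 0 2 * swap 1 3, swap 0 2 * swap 1 3 * swap 4 5, swap 0 2 * swap 1 3 * swap 2 3, 
  swap 0 2 * swap 1 3 * swap 2 3 * swap 4 5, swap 0 3 * swap 1 2 * swap 2 3, swap 0 3 * swap 1 2 * swap 2 3 * 
  swap 4 5, swap 0 3 * swap 1 2, swap 0 3 * swap 1 2 * swap 4 5]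

/-- their matrices -/
noncomputable def LM : List ℕ :=
  [0x8040201008040201, 0x70b0d0e0070b0d0e, 0x4080201004080201, 0xb070d0e00b070d0e, 0x8040102008040102,
  0x70b0e0d0070b0e0d, 0x4080102004080102, 0xb070e0d00b070e0d, 0x2010804002010804, 0xd0e070b00d0e070b,
  0x2010408002010408, 0xd0e0b0700d0e0b07, 0x1020804001020804, 0xe0d070b00e0d070b, 0x1020408001020408,
  0xe0d0b0700e0d0b07, 0x70b0d0e70b0d0e0, 0x804020180402010, 0xb070d0eb070d0e0, 0x408020140802010,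
  0x70b0e0d70b0e0d0, 0x804010280401020, 0xb070e0db070e0d0, 0x408010240801020, 0xd0e070bd0e070b0,
  0x201080420108040, 0xd0e0b07d0e0b070, 0x201040820104080, 0xe0d070be0d070b0, 0x102080410208040,
  0xe0d0b07e0d0b070, 0x102040810204080]

/-- the elements of large fixed space -/
noncomputable def TR : List (ℕ × List ℕ) :=
  [(0x8040201008040201, [0]), (0x70b0d0e0070b0d0e, [0, 15, 240, 255]), (0x4080201004080201, [0, 12, 192, 204]),
  (0x8040102008040102, [0, 3, 48, 51])]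

/-- the elements with totally singular commutator space of dimension four, and the unit -/
def GD : List Γ6 :=
  [1, (1, swap 2 3 * swap 4 5), (1, swap 0 1 * swap 4 5), (1, swap 0 1 * swap 2 3), (1, swap 0 1 * swap 2 3 *
  swap 4 5), (1, swap 0 2 * swap 1 3), (1, swap 0 2 * swap 1 3 * swap 4 5), (1, swap 0 3 * swap 1 2), (1, 
  swap 0 3 * swap 1 2 * swap 4 5), (swap 0 1, 1), (swap 0 1, swap 0 1 * swap 2 3 * swap 4 5), (swap 0 1, swap 0 2 *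
  swap 1 3 * swap 4 5), (swap 0 1, swap 0 3 * swap 1 2 * swap 4 5)]

theorem mem_TL {γ : Γ6} (h : γ ∈ T6) : γ ∈ TL :=
  (by decide +kernel : ∀ a : Perm (Fin 3), a * swap 0 1 = swap 0 1 * a → ∀ b : Perm (Fin 6), b * swap 4 5 = swap 4 5 * b →
    b * (swap 0 1 * swap 2 3) = swap 0 1 * swap 2 3 * b → (a, b) ∈ TL) γ.1 (congrArg Prod.fst (mem_c1.1 h.1)) γ.2
    (congrArg Prod.snd (mem_c1.1 h.1)) (congrArg Prod.snd (mem_c1.1 h.2))

theorem TL_c : ∀ γ ∈ TL, γ ^ 2 ^ 2 = 1 ∧ μ γ ∈ LM ∧ γ * (swap 0 1, swap 4 5) = (swap 0 1, swap 4 5) * γ ∧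
    γ * (1, swap 0 1 * swap 2 3) = (1, swap 0 1 * swap 2 3) * γ := by decide +kernel

theorem T6_syl : IsSyl 2 T6 ⊤ := by
  obtain ⟨S, hS⟩ := exists_isSyl 2 (⊤ : Subgroup Γ6)
  refine hS.of_card_le (isPGroup_iff_forall.2 fun x hx => ⟨2, (TL_c x (mem_TL hx)).1⟩) le_top ?_
  have := Set.ncard_le_ncard (s := (TL.toFinset : Set Γ6)) (t := (T6 : Set Γ6)) fun x hx =>
    mem_inf.2 ⟨mem_c1.2 (TL_c x (by simpa using hx)).2.2.1, mem_c1.2 (TL_c x (by simpa using hx)).2.2.2⟩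
  rw [Set.ncard_coe_finset, List.toFinset_card_of_nodup (by decide +kernel)] at this
  refine le_trans ?_ this
  rw [hS.card_eq, show Nat.card (⊤ : Subgroup Γ6) = 2 ^ 5 * 135 by simp [Fintype.card_perm, Nat.factorial],
    Nat.factorization_mul (by norm_num) (by norm_num), Nat.prime_two.factorization_pow]
  simp [Nat.factorization_eq_zero_of_not_dvd (show ¬ 2 ∣ 135 by decide), TL]

theorem conj_T6 {S : Subgroup Γ6} (h : IsPGroup 2 S) :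
    ∃ κ : Γ6, sign κ.1 = 1 ∧ sign κ.2 = 1 ∧ ∀ σ ∈ S, κ * σ * κ⁻¹ ∈ T6 := by
  obtain ⟨γ, -, e⟩ := T6_syl.exists_cj_le h le_top
  obtain ⟨τ, m, k1, k2⟩ := (by decide +kernel : ∀ a b : ℤˣ, ∃ τ ∈ TL, sign τ.1 * a = 1 ∧ sign τ.2 * b = 1)
    (sign γ.1) (sign γ.2)
  have t : τ ∈ T6 := ⟨mem_c1.2 (TL_c τ m).2.2.1, mem_c1.2 (TL_c τ m).2.2.2⟩
  exact ⟨τ * γ, by simpa using k1, by simpa using k2, fun σ hσ => by
    simpa [mul_assoc] using mul_mem (mul_mem t (e (conj_mem_cj γ hσ))) (inv_mem t)⟩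

/-- the vector is fixed modulo `d` -/
noncomputable def fx (d v m : ℕ) : Bool := force (Nat.xor v (vm 8 v m)) fun c => Bool.rec (Nat.beq c d) true (Nat.beq c 0)

theorem fx_iff {d v m : ℕ} : fx d v m = true ↔ v ^^^ vm 8 v m = 0 ∨ v ^^^ vm 8 v m = d := by
  rw [fx, force_eq, brec_or, beq_iff, beq_iff]; rfl

/-- the number of matrices with a property -/
noncomputable def cnt (p : ℕ → Bool) : ℕ := llen (lfil p LM)

theorem K1 : ∀ v < 256, 16 ≤ cnt (fx 0 v) → v ∈ [0, 255] ∨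
    (lfil (fun w => Nat.ble 16 (cnt fun m => fx 0 v m && fx 0 w m)) (List.range 256)).length ≤ 4 := by decide +kernel

/-- the candidates for the centraliser -/
noncomputable def cand (d : ℕ) : List ℕ :=
  lfil (fun v => Nat.beq (b8 v d) 0 && Nat.ble 16 (cnt fun m => fx 0 d m && fx d v m)) (List.range 256)

theorem K2 : ∀ d < 256, 16 ≤ cnt (fx 0 d) → d = 0 ∨ Bt.forceL (cand d) fun L => L.length ≤ 16 &&
    lall (fun m => lany (fun x => Nat.beq x.1 m) TR || (lfil (fun v => fx 0 v m) L).length < 16) LM := by decide +kernel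

theorem K3 : ∀ d < 256, d ∈ [0, 255] ∨ cnt (fx 0 d) < 32 := by decide +kernel

theorem K4 : ∀ x ∈ TR, x.2.length ≤ 4 ∧ ∀ c < 256, c ^^^ vm 8 c x.1 ∈ x.2 := by decide +kernel

theorem K5 : ∀ γ ∈ TL, (force (μ γ) fun m => lany (fun x => Nat.beq x.1 m) TR ||
    (lfil (fun v => fx 0 v m) (List.range 256)).length ≤ 16 &&
    (lany (fun c => !Nat.beq (q8 (c ^^^ vm 8 c m)) 0) (List.range 256) || decide (γ ∈ GD))) = true := by
  decide +kernel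

theorem K6 : ∀ a ∈ GD, a = 1 ∨ ∀ b ∈ GD, b ∈ [1, a] ∨ b * a ∈ GD →
    b ∈ [1, a] ∨ (GD.filter fun c => c * a ∈ GD ∧ c * b ∈ GD).length < 8 := by decide +kernel

variable {G : Type*} [Group G] [Finite G] {Q P : Subgroup G} {z t : G} {Φ Ψ : G → Γ6} {π π' : G → ℕ}

local notation "H" => 𝐂₁(z)
local notation "C" => Cf Q z Φ

namespace Ma
variable (h : Ma Q z Φ π)
include h

protected theorem cj (g : G) : Ma (cj[g] Q) (g * z * g⁻¹) (fun x => Φ (g⁻¹ * x * g)) fun x => π (g⁻¹ * x * g) :=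
  { h.toS36.cj g, fr_cj h.toFr g with ac := fun _ hx => ac_cj (h.ac _ (h.cH hx)) }

theorem tw {k : G} (hk : k ∈ H) : Ma Q z (fun x => Φ (k⁻¹ * x * k)) fun x => π (k⁻¹ * x * k) := by
  have := h.cj k
  rwa [cj_eq_self (h.nor hk), conj_eq_iff.2 (mem_c1.1 hk)] at this

theorem norm {B : Subgroup G} (hB : B ≤ H) (h2 : IsPGroup 2 B) : ∃ Φ π, Ma Q z Φ π ∧ ∀ b ∈ B, Φ b ∈ T6 := by
  obtain ⟨κ, k1, k2, e⟩ := conj_T6 (S := h.hom.im B hB) (isPGroup_iff_forall.2 fun σ hσ => by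
    obtain ⟨b, hb, rfl⟩ := h.hom.mem_im.1 hσ
    obtain ⟨k, e⟩ := isPGroup_iff_forall.1 h2 b hb
    exact ⟨k, by rw [← h.hom.pow (hB hb), e, h.hom.one]⟩)
  obtain ⟨g, hg, rfl⟩ := h.sur κ k1 k2
  exact ⟨_, _, h.tw (inv_mem hg), fun b hb => by
    simp only [inv_inv, h.hom.conj hg (hB hb)]; exact e _ (h.hom.mem_im.2 ⟨b, hb, rfl⟩)⟩

theorem code {q g : G} (hq : q ∈ Q) (hg : g ∈ H) : π (q⁻¹ * (g⁻¹ * q * g)) = π q ^^^ vm 8 (π q) (μ (Φ g)) := by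
  rw [h.mul _ (inv_mem hq) _ (h.cQ hg hq), h.inv hq, (h.ac g hg).2 q hq]

theorem fixed {q g : G} (hq : q ∈ Q) (hg : g ∈ H) (e : q * g = g * q) (d : ℕ) : fx d (π q) (μ (Φ g)) = true :=
  fx_iff.2 (.inl (by rw [← h.code hq hg, mul_assoc g⁻¹, e]; simp [h.one]))

theorem card_KK (c : t * z = z * t) (tt : t * t = 1) {x : ℕ × List ℕ} (hx : x ∈ TR) (e : x.1 = μ (Φ t)) :
    128 ≤ Nat.card (C (Φ t)) := by
  have k : ∀ r ∈ Q, π (r * t * r⁻¹ * t⁻¹) ∈ x.2 := fun r hr => by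
    have := h.code (inv_mem hr) (mem_c1.2 c)
    rw [inv_inv, inv_eq_of_mul_eq_one_left tt, ← mul_assoc, ← mul_assoc, ← e] at this
    rw [inv_eq_of_mul_eq_one_left tt, this]
    exact (K4 x hx).2 _ (h.lt _ (inv_mem hr))
  have := h.toFr.card_le (KK_le h.toLQ c) (L := x.2) (by
    rintro _ ⟨r, hr, rfl | rfl⟩
    · exact k r hr
    · rw [h.mul _ h.mem _ (cmQ h.toLQ c hr), h.toFr.pz, Nat.zero_xor]; exact k r hr)
  have l := (h.le_KK c tt).trans (Nat.mul_le_mul_right _ (this.trans (Nat.mul_le_mul_right 2 (K4 x hx).1)))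
  omega

section
variable (w : Wc Q P z t)
include w

theorem card_D {L : List ℕ} (e : ∀ d ∈ Q ⊓ P, π d ∈ L) : Nat.card ↥(Q ⊓ P) ≤ L.length := by
  have := card_le_rel (A := Q ⊓ P) (Z := zpowers z) (r := fun g x => π g = x) (fun g hg k hk _ e1 e2 =>
    (h.eq_iff hg.1 hk.1).1 (e1.trans e2.symm)) fun g hg => ⟨_, e g hg, rfl⟩
  rwa [show Q ⊓ P ⊓ zpowers z = ⊥ from eq_bot_iff.2 fun d hd => (h.mem_z.1 hd.2).resolve_right fun e =>
    w.zP (e ▸ hd.1.2), card_bot, mul_one] at this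

theorem comm_D {a b : G} (ha : a ∈ Q ⊓ 𝐂₁(t)) (hb : b ∈ P ⊓ H) : a⁻¹ * (b⁻¹ * a * b) ∈ Q ⊓ P := by
  simpa only [inv_inv, mul_assoc] using w.AB (inv_mem ha) (inv_mem hb)

variable (hT : ∀ b ∈ P ⊓ 𝐂₁(z), Φ b ∈ T6)
include hT

theorem card_cnt {p : ℕ → Bool} (e : ∀ b ∈ P ⊓ H, p (μ (Φ b)) = true) :
    Nat.card ↥(P ⊓ H) ≤ cnt p * Nat.card ↥(Q ⊓ P) := by
  have := card_le_rel (A := P ⊓ H) (Z := Q) (r := fun g x => μ (Φ g) = x) (fun g hg k hk _ e1 e2 =>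
    mem_of_ac h.toFr (h.ac_div (h.ac g hg.2) (e1.trans e2.symm ▸ h.ac k hk.2))) fun g hg =>
    ⟨_, mem_lfil (TL_c _ (mem_TL (hT g hg))).2.1 (e g hg), rfl⟩
  rwa [show P ⊓ H ⊓ Q = Q ⊓ P from le_antisymm (fun _ k => ⟨k.2, k.1.1⟩) fun _ k => ⟨⟨k.2, h.le_c1 k.1⟩, k.1⟩,
    ← llen_eq] at this

theorem fix_D {d b : G} (hd : d ∈ Q ⊓ P) (hb : b ∈ P ⊓ H) : fx 0 (π d) (μ (Φ b)) = true :=
  h.fixed hd.1 hb.2 (w.symm.cD hd.2 hd.1 hb.1 (mem_c1.1 hb.2)).symm 0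

theorem D_ne (h' : Qt P t Ψ) : Q ⊓ P ≠ ⊥ := fun D => by
  have f : ∀ a ∈ Q ⊓ 𝐂₁(t), ∀ b ∈ P ⊓ H, fx 0 (π a) (μ (Φ b)) = true := fun a ha b hb =>
    fx_iff.2 (.inl (by rw [← h.code ha.1 hb.2, mem_bot.1 (D.le (h.comm_D w ha hb)), h.one]))
  have k : ∀ {p}, (∀ b ∈ P ⊓ H, p (μ (Φ b)) = true) → 16 ≤ cnt p := fun e => by
    simpa only [D, card_bot, mul_one] using (h'.A16 w.symm).trans (h.card_cnt w hT e)
  have l := h.A16 w
  obtain ⟨a, ha, n⟩ : ∃ a ∈ Q ⊓ 𝐂₁(t), π a ∉ [0, 255] := by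
    by_contra! n
    exact absurd (l.trans (h.toFr.card_le inf_le_left n)) (by decide)
  have := l.trans (h.toFr.card_le inf_le_left fun a' ha' => mem_lfil (f := fun w => Nat.ble 16
    (cnt fun m => fx 0 (π a) m && fx 0 w m)) (List.mem_range.2 (h.toFr.lt' ha'.1)) (ble_iff.2 (k fun b hb => by
      rw [f a ha b hb, f a' ha' b hb]; rfl)))
  have := (K1 _ (h.lt _ ha.1) (k (f a ha))).resolve_left n
  omega

theorem D_ne2 (h' : Qt P t Ψ) : Nat.card ↥(Q ⊓ P) ≠ 2 := fun D => by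
  have n := h.D_ne w hT h'
  obtain ⟨d, hd, d1⟩ := (Q ⊓ P).bot_or_exists_ne_one.resolve_left n
  have eD := Loc.eq_of_le_of_card_le (zpowers_le.2 hd) (by rw [D, Nat.card_zpowers, orderOf_eq_two' (w.D_sq hd) d1])
  have k : ∀ {p}, (∀ b ∈ P ⊓ H, p (μ (Φ b)) = true) → 16 ≤ cnt p := fun e => by
    have := (h'.A32 w.symm (by rwa [inf_comm])).trans (h.card_cnt w hT e)
    rw [D] at this
    omega
  have c : ∀ a ∈ Q ⊓ 𝐂₁(t), π a ∈ cand (π d) := fun a ha => mem_lfil (List.mem_range.2 (h.toFr.lt' ha.1)) (by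
    rw [Bool.and_eq_true, beq_iff, ble_iff]
    refine ⟨(h.toFr.comm_iff ha.1 hd.1).1 (w.cD hd.1 hd.2 ha.1 (mem_c1.1 ha.2)), k fun b hb => ?_⟩
    rw [h.fix_D w hT hd hb, Bool.true_and, fx_iff, ← h.code ha.1 hb.2]
    exact ((mem_zpowers_invol (orderOf_eq_two' (w.D_sq hd) d1)).1 (eD.ge (h.comm_D w ha hb))).imp
      (fun e => by rw [e, h.one]) fun e => by rw [e])
  have := (K2 _ (h.lt _ hd.1) (k fun b => h.fix_D w hT hd)).resolve_left fun e =>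
    (h.mem_z.1 ((h.ker d hd.1).1 e)).elim d1 fun e => w.zP (e ▸ hd.2)
  rw [Bt.forceL_eq, Bool.and_eq_true, decide_eq_true_iff, lall_iff] at this
  have l := h.A32 w n
  have l2 := h.toFr.card_le inf_le_left c
  have tB : t ∈ P ⊓ H := ⟨w.lp.mem, w.tH⟩
  rcases Bool.or_eq_true_iff.1 (this.2 _ (TL_c _ (mem_TL (hT t tB))).2.1) with e | e
  · obtain ⟨x, hx, e⟩ := lany_iff.1 e
    have := (h.card_KK w.cm w.tt hx (beq_iff.1 e)).trans (h.W_two w.cm)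
    omega
  · have := h.toFr.card_le inf_le_left fun a ha => mem_lfil (f := fun v => fx 0 v (μ (Φ t))) (c a ha)
      (h.fixed ha.1 w.tH (mem_c1.1 ha.2) 0)
    have := decide_eq_true_iff.1 e
    omega

end

theorem U1 (h' : Qt P t Ψ) (w : Wc Q P z t) : Nat.card ↥(Q ⊓ P) = 4 ∧ Nat.card ↥(P ⊓ H) ≤ 64 := by
  obtain ⟨Φ, π, h, hT⟩ := h.norm (inf_le_right : P ⊓ H ≤ H) (w.lp.isPGroup.to_inf_left)
  have D : Nat.card ↥(Q ⊓ P) = 4 := by
    obtain ⟨e, he, k⟩ := h.lg (inf_le_left : Q ⊓ P ≤ Q)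
    have a := w.D_le
    have b := h.D_ne2 w hT h'
    have c := card_eq_one.not.2 (h.D_ne w hT h')
    rw [k] at a b c ⊢
    interval_cases e <;> omega
  obtain ⟨d, hd, n⟩ : ∃ d ∈ Q ⊓ P, π d ∉ [0, 255] := by
    by_contra! n
    exact absurd (D ▸ h.card_D w n) (by decide)
  have a := h.card_cnt w hT fun b => h.fix_D w hT hd
  have b := (K3 _ (h.lt _ hd.1)).resolve_left n
  obtain ⟨e, he, k⟩ := h'.lg (inf_le_left : P ⊓ H ≤ P)
  refine ⟨D, ?_⟩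
  rw [k, D] at a
  rw [k]
  interval_cases e <;> omega

theorem U2 (h' : Ma P t Ψ π') (w : Wc Q P z t) (hT : Φ t ∈ T6) : Nat.card (C (Φ t)) ≤ 32 ∧ Φ t ∈ GD := by
  obtain ⟨D, l⟩ := h'.U1 h.toQt w.symm
  have e := (h.W_or w.cm).resolve_right fun ⟨u, hu, e⟩ => by
    have := w.card_D1 hu e
    rw [inf_comm] at D
    omega
  have := K5 _ (mem_TL hT)
  rw [force_eq, Bool.or_eq_true, Bool.and_eq_true, Bool.or_eq_true, decide_eq_true_iff, decide_eq_true_iff] at this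
  rcases this with k | ⟨k1, k2⟩
  · obtain ⟨x, hx, k⟩ := lany_iff.1 k
    have := h.card_KK w.cm w.tt hx (beq_iff.1 k)
    rw [e] at this
    omega
  refine ⟨(h.toFr.card_le (h.C_le _) fun a ha => mem_lfil (List.mem_range.2 (h.toFr.lt' ha.1))
    (h.fixed ha.1 w.tH (mem_c1.1 (e.le ha).2) 0)).trans (Nat.mul_le_mul_right 2 k1), k2.resolve_left fun k => ?_⟩
  obtain ⟨c, hc, k⟩ := lany_iff.1 k
  obtain ⟨r, hr, rfl⟩ := h.surj c (List.mem_range.1 hc)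
  refine absurd (beq_iff.2 ?_) (Bool.eq_false_iff.1 (Bool.not_eq_true' _ ▸ k))
  have m := e.le (h.d_mem w.tH (w.tt ▸ one_mem _) hr)
  have i := inv_d w.tt r
  rw [← h.code hr w.tH, ← h.toFr.sq_iff m.1]
  rw [mul_assoc, mem_c1.1 m.2, inv_mul_cancel_left] at i
  exact mul_eq_one_iff_eq_inv.2 i

theorem not_wc (h' : Ma P t Ψ π') (w : Wc Q P z t) : False := by
  obtain ⟨Φ, π, h, hT⟩ := h.norm (inf_le_right : P ⊓ H ≤ H) (w.lp.isPGroup.to_inf_left)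
  obtain ⟨Ψ, π', h', hT'⟩ := h'.norm (zpowers_le.2 w.symm.tH) (h.isPGroup.to_le h.z_le)
  have D := (h.U1 h'.toQt w).1
  have l := h'.A32 w.symm fun e => by rw [inf_comm, e, card_bot] at D; omega
  have km : ∀ b ∈ P ⊓ H, Km P t z b := fun b hb =>
    (h'.KK_eq w.cm.symm h.zz (h'.U2 h w.symm (hT' z (mem_zpowers z))).1).ge (h'.A_le w.cm.symm hb)
  have g : ∀ b ∈ P ⊓ H, Φ b ∈ GD := fun b hb => by
    obtain ⟨d, hd, r, e⟩ := w.symm.coset (by rw [inf_comm]; omega) (fun d hd => km d (w.symm.DA hd)) (km b hb)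
    have e1 : Φ (r * z * r⁻¹) = Φ b := by rw [e, h.Φmul (mul_mem (h.le_c1 hd.2) hb.2) h.mem, h.Φmul' hb.2 hd.2]
    by_cases n : r * z * r⁻¹ = z
    · rw [← e1, n, h.ΦQ h.mem]; exact List.mem_cons_self
    · exact e1 ▸ (h.U2 (h.cj r) (wc_of h.toLQ w.wz (e ▸ mul_mem (mul_mem (h.le_c1 hd.2) hb.2) (mem_c1.2 rfl)) n)
        (e1 ▸ hT b hb)).2
  have tB : t ∈ P ⊓ H := ⟨w.lp.mem, w.tH⟩
  obtain ⟨b, hb, n⟩ : ∃ b ∈ P ⊓ H, Φ b ∉ [1, Φ t] := by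
    by_contra! n
    exact absurd (l.trans (D ▸ h.card_B w n)) (by simp)
  have := ((K6 _ (g t tB)).resolve_left (h.Φt w) _ (g b hb) (.inr (h.hom _ hb.2 _ tB.2 ▸ g _ (mul_mem hb tB)))).resolve_left n
  have := l.trans (D ▸ h.card_B w (L := GD.filter fun c => c * Φ t ∈ GD ∧ c * Φ b ∈ GD) fun c hc => List.mem_filter.2
    ⟨g c hc, decide_eq_true ⟨h.hom _ hc.2 _ tB.2 ▸ g _ (mul_mem hc tB), h.hom _ hc.2 _ hb.2 ▸ g _ (mul_mem hc hb)⟩⟩)
  omega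

end Ma

end CF.LX4
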