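import Cfsg.Agent.LX4.Cb

/-! The quotient of the involution centraliser is the cube of the symmetric group of degree three. -/

set_option autoImplicit false
set_option maxRecDepth 1000000
set_option synthInstance.maxSize 2000
set_option linter.unusedSectionVars false

namespace CF.LX4
open Cfsg Subgroup CF.Loc CF.Even CF.LX CF.J4 CF.Comp CF.MonU Equiv Equiv.Perm
open CF.ThR (nine_formula odd_of_mod card_mod norm_c1)

/-- the quotient -/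
abbrev Γ3 : Type := Perm (Fin 3) × Perm (Fin 3) × Perm (Fin 3)

/-- the products of powers of `a` -/
def pv (a : Perm (Fin 3)) (n : ℕ) : Γ3 := (a ^ (n % 2), a ^ (n / 2 % 2), a ^ (n / 4))

/-- elements of order three -/
abbrev yv : ℕ → Γ3 := pv (swap 0 1 * swap 1 2)

/-- the elements of a Sylow subgroup -/
abbrev sv : ℕ → Γ3 := pv (swap 0 1)

/-- the Sylow subgroup as a list -/
def TL3 : List Γ3 := [0, 1, 2, 3, 4, 5, 6, 7].map sv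

theorem mem_TL3 : ∀ γ : Γ3, γ ∈ TL3 ↔ γ * sv 7 = sv 7 * γ := by decide +kernel

theorem conj_T3 {S : Subgroup Γ3} (h : IsPGroup 2 S) : ∃ κ : Γ3, ∀ σ ∈ S, κ * σ * κ⁻¹ ∈ TL3 := by
  have : IsSyl 2 𝐂₁(sv 7) ⊤ := by
    obtain ⟨S, hS⟩ := exists_isSyl 2 (⊤ : Subgroup Γ3)
    refine hS.of_card_le (isPGroup_iff_forall.2 fun x hx => ⟨1, (by decide +kernel : ∀ x ∈ TL3, x ^ 2 ^ 1 = 1) x
      ((mem_TL3 x).2 (mem_c1.1 hx))⟩) le_top ?_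
    have := Set.ncard_le_ncard (s := (TL3.toFinset : Set Γ3)) (t := (𝐂₁(sv 7) : Set Γ3)) fun x hx =>
      mem_c1.2 ((mem_TL3 x).1 (by simpa using hx))
    rw [Set.ncard_coe_finset, List.toFinset_card_of_nodup (by decide +kernel)] at this
    refine le_trans ?_ this
    rw [hS.card_eq, show Nat.card (⊤ : Subgroup Γ3) = 2 ^ 3 * 27 by simp [Fintype.card_perm, Nat.factorial],
      Nat.factorization_mul (by norm_num) (by norm_num), Nat.prime_two.factorization_pow]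
    simp [Nat.factorization_eq_zero_of_not_dvd (show ¬ 2 ∣ 27 by decide), TL3]
  obtain ⟨γ, -, e⟩ := this.exists_cj_le h le_top
  exact ⟨γ, fun σ hσ => (mem_TL3 _).2 (mem_c1.1 (e (conj_mem_cj γ hσ)))⟩

/-- a line -/
def Ln (p q r s : ℕ) : Prop := yv p ^ 3 = 1 ∧ yv q ^ 3 = 1 ∧ yv p * yv q = yv q * yv p ∧
  (∀ i < 3, ∀ j < 3, yv p ^ i * yv q ^ j = 1 → i = 0 ∧ j = 0) ∧ (∃ κ ∈ TL3, κ * yv r * κ⁻¹ = yv p * yv q) ∧
  (∃ κ ∈ TL3, κ * yv s * κ⁻¹ = yv p * (yv q)⁻¹) ∧ sv 7 * yv q * (sv 7)⁻¹ = (yv q)⁻¹ ∧ sv 7 * yv p * (sv 7)⁻¹ = (yv p)⁻¹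

instance (p q r s : ℕ) : Decidable (Ln p q r s) := by unfold Ln; infer_instance

/-- the numerical condition -/
def lo (a b c d : ℕ) : Prop := (a + b + c + d) % 3 = 1 ∧ 4 ≤ a + b + c + d ∧ (a + b + c + d = 4 → a ≠ 1)

instance (a b c d : ℕ) : Decidable (lo a b c d) := by unfold lo; infer_instance

set_option synthInstance.maxSize 20000 in
theorem lo_nat : ∀ a < 3, ∀ b < 3, ∀ c < 3, ∀ d < 3, ∀ e < 3, ∀ f < 3, ∀ g < 3, ¬ (lo a b c c ∧ lo a d e e ∧ lo b d f f ∧ 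
    lo b a c c ∧ lo d a e e ∧ lo d b f f ∧ lo c a c b ∧ lo e a e d ∧ lo f b f d ∧ 
    lo a f g g ∧ lo b e g g ∧ lo d c g g ∧ lo g a g f) := by
  decide +kernel

variable {G : Type*} [Group G]

/-- the setting -/
structure S33 (Q : Subgroup G) (z : G) (Φ : G → Γ3) : Prop extends Qt Q z Φ where
  sur : ∀ σ, ∃ h ∈ 𝐂₁(z), Φ h = σ

/-- half the dimension of the fixed space -/
noncomputable def dm (Q : Subgroup G) (z : G) (Φ : G → Γ3) (n : ℕ) : ℕ := Nat.log 2 (Nat.card (Cf Q z Φ (yv n))) / 2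

variable [Finite G] {Q P : Subgroup G} {z t : G} {Φ Ψ : G → Γ3}

local notation "H" => 𝐂₁(z)
local notation "C" => Cf Q z Φ
local notation "D" => dm Q z Φ

namespace S33
variable (h : S33 Q z Φ)
include h

protected theorem cj (g : G) : S33 (cj[g] Q) (g * z * g⁻¹) fun x => Φ (g⁻¹ * x * g) :=
  ⟨h.toQt.cj g, fun σ => by
    obtain ⟨k, hk, e⟩ := h.sur σ
    exact ⟨g * k * g⁻¹, mem_c1.2 (by rw [conj_mul, conj_mul, mem_c1.1 hk]), by simpa [mul_assoc] using e⟩⟩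

theorem norm {B : Subgroup G} (hB : B ≤ H) (h2 : IsPGroup 2 B) : ∃ k ∈ H, ∀ b ∈ B, Φ (k * b * k⁻¹) ∈ TL3 := by
  obtain ⟨κ, e⟩ := conj_T3 (S := h.hom.im B hB) (isPGroup_iff_forall.2 fun σ hσ => by
    obtain ⟨b, hb, rfl⟩ := h.hom.mem_im.1 hσ
    obtain ⟨k, e⟩ := isPGroup_iff_forall.1 h2 b hb
    exact ⟨k, by rw [← h.hom.pow (hB hb), e, h.hom.one]⟩)
  obtain ⟨g, hg, rfl⟩ := h.sur κ
  exact ⟨g, hg, fun b hb => by rw [h.hom.conj hg (hB hb)]; exact e _ (h.hom.mem_im.2 ⟨b, hb, rfl⟩)⟩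

theorem tw {k : G} (hk : k ∈ H) : S33 Q z fun x => Φ (k * x * k⁻¹) := by
  have := h.cj k⁻¹
  rwa [cj_eq_self (h.nor (inv_mem hk)), conj_eq_iff.2 (mem_c1.1 (inv_mem hk)), inv_inv] at this

theorem lift {σ : Γ3} (e : σ ^ 3 = 1) : ∃ y ∈ H, Φ y = σ ∧ y ^ 3 = 1 := by
  obtain ⟨x, hx, rfl⟩ := h.sur σ
  obtain ⟨y, -, k⟩ := h.lift_odd (.inr rfl) hx e
  exact ⟨y, k⟩

theorem card_dm {n : ℕ} (e : yv n ^ 3 = 1) : Nat.card (C (yv n)) = 2 ^ (2 * D n + 1) := by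
  obtain ⟨y, hy, k, y3⟩ := h.lift e
  obtain ⟨a, ha⟩ := h.lg3 inf_le_left (h.mod1 ⟨hy, y3⟩)
  rw [dm, ← k, h.C_eq hy y3, ha, Nat.log_pow one_lt_two]
  congr 1
  omega

theorem card_cj3 {σ τ : Γ3} (e : ∃ κ ∈ TL3, κ * σ * κ⁻¹ = τ) : Nat.card (C τ) = Nat.card (C σ) := by
  obtain ⟨κ, -, rfl⟩ := e
  obtain ⟨g, hg, rfl⟩ := h.sur κ
  rw [← h.C_cj hg, card_cj]

theorem dm_lt {n : ℕ} (e : yv n ^ 3 = 1) (k : yv n ≠ 1) : D n < 4 := by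
  obtain ⟨y, hy, k', y3⟩ := h.lift e
  exact h.C_lt ⟨hy, y3⟩ (k' ▸ k) (by rw [← h.C_eq hy y3, k', h.card_dm e])

theorem lifts2 {a b : Γ3} (a3 : a ^ 3 = 1) (b3 : b ^ 3 = 1) (ab : a * b = b * a) :
    ∃ x ∈ H, ∃ y ∈ H, Φ x = a ∧ Φ y = b ∧ x ^ 3 = 1 ∧ y ^ 3 = 1 ∧ Commute y x := by
  obtain ⟨x, hx, y, hy, -, -, ex, ey, -, x3, y3, -, yx, -⟩ := h.lifts (h.sur a) (h.sur b) (h.sur 1) a3 b3 (one_pow _) ab
    (by simp) (by simp)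
  exact ⟨x, hx, y, hy, ex, ey, x3, y3, yx⟩

theorem line {p q r s : ℕ} (k : Ln p q r s) : ∃ e, D p + D q + D r + D s = 4 + 3 * e ∧ (D p = 1 → e = 0 →
    ∃ S y, S8 Q z S y ∧ sv 7 * Φ y * (sv 7)⁻¹ = (Φ y)⁻¹ ∧ ∀ g ∈ H, Φ g = sv 7 → g ∈ 𝐍(S)) := by
  obtain ⟨a3, b3, ab, i, k1, k2, k3, k4⟩ := k
  obtain ⟨x, hx, y, hy, ex, ey, x3, y3, yx⟩ := h.lifts2 a3 b3 ab
  have f := nine_formula x3 y3 yx.symm (h.ind hx hy (by rwa [ex, ey])) (h.nor hx) (h.nor hy) (h.cop le_rfl (by norm_num))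
  have XY := Qt.mu ⟨hx, x3⟩ ⟨hy, y3⟩ yx
  have XY' := Qt.mu ⟨hx, x3⟩ (Qt.iv ⟨hy, y3⟩) yx.inv_left
  obtain ⟨e, ke⟩ := h.lg3 (inf_le_left.trans inf_le_left) (h.mod2 ⟨hx, x3⟩ ⟨hy, y3⟩ yx)
  have p3 : ∀ {σ τ : Γ3}, (∃ κ ∈ TL3, κ * σ * κ⁻¹ = τ) → τ ^ 3 = 1 → σ ^ 3 = 1 := by
    rintro _ _ ⟨κ, -, rfl⟩ e
    rwa [conj_pow, conj_eq_one_iff] at e
  have e1 : Φ (x * y) = yv p * yv q := by rw [h.hom _ hx _ hy, ex, ey]
  have e2 : Φ (x * y⁻¹) = yv p * (yv q)⁻¹ := by rw [h.hom _ hx _ (inv_mem hy), h.hom.inv hy, ex, ey]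
  have c := h.card_dm a3
  rw [← ex, h.C_eq hx x3] at c
  rw [ke, c, ← h.C_eq hy y3, ← h.C_eq XY.1 XY.2, ← h.C_eq XY'.1 XY'.2, ey, e1, e2, h.card_cj3 k1, h.card_cj3 k2,
    h.card_dm b3, h.card_dm (p3 k1 (by rw [← e1, ← h.hom.pow XY.1, XY.2, h.hom.one])),
    h.card_dm (p3 k2 (by rw [← e2, ← h.hom.pow XY'.1, XY'.2, h.hom.one])), h.card] at f
  simp only [← pow_add, ← pow_mul, Nat.pow_right_inj one_lt_two] at f
  refine ⟨e, by omega, fun d e0 => ⟨_, y, h.s8_C hx x3 hy y3 yx (by rw [c, d]; rfl) (by rw [ke, e0]; rfl), ey ▸ k3,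
    fun g hg k => h.C_eq hx x3 ▸ h.nor_C' hg hx (by rw [k, ex, k4])⟩⟩

theorem s8_of {n : ℕ} (e : yv n ^ 3 = 1) (d : D n = 3) : ∃ S y, S8 Q z S y ∧ Φ y = yv n ∧ ∀ g ∈ H,
    g ∈ 𝐍(C (yv n)) → g ∈ 𝐍(S) := by
  obtain ⟨y, hy, k, y3⟩ := h.lift e
  have c := h.card_dm e
  rw [← k, h.C_eq hy y3] at c ⊢
  exact ⟨_, y, h.s8_K hy y3 (by rw [c, d]; rfl), rfl, fun g hg => h.nor_K hg⟩

theorem exists_s8 : ∃ S y, S8 Q z S y ∧ sv 7 * Φ y * (sv 7)⁻¹ = (Φ y)⁻¹ ∧ ∀ g ∈ H, Φ g = sv 7 → g ∈ 𝐍(S) := by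
  by_contra n
  have l : ∀ p q r s, Ln p q r s → lo (D p) (D q) (D r) (D s) := fun p q r s k => by
    obtain ⟨e, a, b⟩ := h.line k
    exact ⟨by omega, by omega, fun x y => n (b y (by omega))⟩
  have d : ∀ i < 7, D (i + 1) < 3 := fun i hi => by
    obtain ⟨a, b, c⟩ := (by decide +kernel : ∀ i < 7, yv (i + 1) ^ 3 = 1 ∧ yv (i + 1) ≠ 1 ∧
      sv 7 * yv (i + 1) * (sv 7)⁻¹ = (yv (i + 1))⁻¹) i hi
    refine lt_of_le_of_ne (Nat.lt_succ_iff.1 (h.dm_lt a b)) fun e => ?_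
    obtain ⟨S, y, s, k, k'⟩ := h.s8_of a e
    exact n ⟨S, y, s, k ▸ c, fun g hg e => k' g hg (k ▸ h.nor_C' hg s.yH (by rw [e, k, c]))⟩
  exact lo_nat _ (d 0 (by norm_num)) _ (d 1 (by norm_num)) _ (d 2 (by norm_num)) _ (d 3 (by norm_num))
    _ (d 4 (by norm_num)) _ (d 5 (by norm_num)) _ (d 6 (by norm_num))
    ⟨l 1 2 3 3 (by decide +kernel), l 1 4 5 5 (by decide +kernel), 
    l 2 4 6 6 (by decide +kernel), l 2 1 3 3 (by decide +kernel), l 4 1 5 5 (by decide +kernel), 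
    l 4 2 6 6 (by decide +kernel), l 3 1 3 2 (by decide +kernel), l 5 1 5 4 (by decide +kernel), 
    l 6 2 6 4 (by decide +kernel), l 1 6 7 7 (by decide +kernel), l 2 5 7 7 (by decide +kernel), 
    l 4 3 7 7 (by decide +kernel), l 7 1 7 6 (by decide +kernel)⟩

theorem U3 (h' : S33 P t Ψ) (w : Wc Q P z t) : Nat.card ↥(Q ⊓ P) = 4 ∧ Nat.card ↥(P ⊓ H) ≤ 32 ∧
    ∃ k ∈ H, ∃ b ∈ P ⊓ H, Φ (k * b * k⁻¹) = sv 7 := by
  obtain ⟨k, hk, e⟩ := h.norm (inf_le_right : P ⊓ H ≤ H) (w.lp.isPGroup.to_inf_left)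
  have a := (h.tw hk).card_B w e
  have b := h'.A16 w.symm
  have c := w.D_le
  simp only [TL3, List.length_map, List.length_cons, List.length_nil] at a
  have d := h'.A32 w.symm fun k => by rw [inf_comm Q, k, card_bot] at a; omega
  refine ⟨by omega, by omega, k, hk, ?_⟩
  by_contra! n
  have := (h.tw hk).card_B w (L := TL3.erase (sv 7)) fun b hb => (List.mem_erase_of_ne (n b hb)).2 (e b hb)
  rw [(by decide +kernel : (TL3.erase (sv 7)).length = 7)] at this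
  omega

theorem not_wc (h' : S33 P t Ψ) (w : Wc Q P z t) : False := by
  obtain ⟨d4, -, k, hk, b, hb, e⟩ := h.U3 h' w
  have km : ∀ b ∈ P ⊓ H, Km P t z b := fun b hb =>
    (h'.KK_eq w.cm.symm h.zz (by
      rw [(h'.W_or w.cm.symm).resolve_right fun ⟨u, hu, e⟩ => by
        have := w.symm.card_D1 hu e
        rw [inf_comm] at this
        omega]
      exact (h.U3 h' w).2.1)).ge (h'.A_le w.cm.symm hb)
  obtain ⟨d, hd, r, e1⟩ := w.symm.coset (by rw [inf_comm]; omega) (fun d hd => km d (w.symm.DA hd)) (km b hb)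
  have m : k * r * z * (k * r)⁻¹ = k * (d * b * z) * k⁻¹ := by rw [← e1]; group
  have m1 := mul_mem (mul_mem (h.le_c1 hd.2) hb.2) (h.le_c1 h.mem)
  have e2 : Φ (k * r * z * (k * r)⁻¹) = sv 7 := by
    rw [m, h.hom.conj hk m1, h.Φmul (mul_mem (h.le_c1 hd.2) hb.2) h.mem, h.Φmul' hb.2 hd.2, ← h.hom.conj hk hb.2, e]
  have w' := wc_of h.toLQ w.wz (g := k * r) (m ▸ mul_mem (mul_mem hk m1) (inv_mem hk)) fun n => by
    rw [n, h.ΦQ h.mem] at e2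
    exact absurd e2 (by decide)
  obtain ⟨S, y, s, k1, k2⟩ := h.exists_s8
  obtain ⟨u, hu, k3⟩ := h.s_cty s w'.tH (k2 _ w'.tH e2) (e2 ▸ k1)
  have := (h.U3 (h.cj _) w').1
  rw [(h.cty w' (s.le hu) k3).1, card_bot] at this
  omega

end S33

end CF.LX4
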