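import Cfsg.Agent.LX4.O1
import Cfsg.Agent.LX4.Ma

/-! The triple tensor product module. -/

set_option autoImplicit false
set_option maxRecDepth 1000000
set_option synthInstance.maxSize 2000
set_option linter.unusedSectionVars false

namespace CF.LX4
open Cfsg Subgroup CF.Loc CF.Even CF.LX CF.J4 CF.Comp CF.Dce CF.MonU Equiv Equiv.Perm
open CF.ThR (nine_formula odd_of_mod card_mod norm_c1 clos reach1 Bj Cub q8 b8 form_fin exists_co)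

/-- the matrices of the factors -/
noncomputable def mf (i : ℕ) (a : Perm (Fin 3)) : ℕ := nth 0 (nth [] [[0, 0x8040201008040201, 0x8140201808244201,
  0x8042241018040281, 0, 0x8102041810244280, 0x142240818204081, 0x102040810204080], [0, 0x8040201008040201,
  0x8041201428048201, 0x8240281008140241, 0, 0x241081428108240, 0x8201280420148041, 0x201080420108040],
  [0, 0x8040201008040201, 0x8040211248840201, 0x8448201008041221, 0, 0x408211248841020, 0x8448010240801221,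
  0x408010240801020]] i) (3 * (a 0).val + (a 1).val)

/-- the matrix of a triple -/
noncomputable def ν (γ : Γ3) : ℕ := mm 8 (mm 8 (mf 0 γ.1) (mf 1 γ.2.1)) (mf 2 γ.2.2)

theorem mf_mul : ∀ i < 3, ∀ a b, mf i (a * b) = mm 8 (mf i a) (mf i b) ∧
    ∀ j < i, mm 8 (mf i a) (mf j b) = mm 8 (mf j b) (mf i a) := by decide +kernel

theorem ν_mul (a b : Γ3) : ν (a * b) = mm 8 (ν a) (ν b) := by
  have p : 0 < 8 := by norm_num
  have c : ∀ {i j a b} x, i < 3 → j < i → mm 8 (mf i a) (mm 8 (mf j b) x) = mm 8 (mf j b) (mm 8 (mf i a) x) :=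
    fun x hi hj => by rw [← mm_assoc p, (mf_mul _ hi _ _).2 _ hj, mm_assoc p]
  simp only [ν, Prod.fst_mul, Prod.snd_mul, (mf_mul 0 (by norm_num) _ _).1, (mf_mul 1 (by norm_num) _ _).1,
    (mf_mul 2 (by norm_num) _ _).1, mm_assoc p]
  rw [c (i := 2) (j := 0) _ (by norm_num) (by norm_num), c (i := 2) (j := 1) _ (by norm_num) (by norm_num),
    c (i := 1) (j := 0) _ (by norm_num) (by norm_num)]

theorem ν_one : ν 1 = mo 8 := by decide +kernel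

theorem vν (c : ℕ) (a b : Γ3) : vm 8 c (ν (a * b)) = vm 8 (vm 8 c (ν a)) (ν b) := by rw [ν_mul, vm_mm (by norm_num)]

/-- generators -/
noncomputable def gn (j : ℕ) : Γ3 := nth 1 [yv 1, yv 2, yv 4, sv 1, sv 2, sv 4] j

theorem mem_of_gn {S : Subgroup Γ3} (h : ∀ j < 6, gn j ∈ S) (γ : Γ3) : γ ∈ S := by
  have k := (by decide : ∀ a : Perm (Fin 3), ∃ i < 2, ∃ j < 3, a = swap 0 1 ^ i * (swap 0 1 * swap 1 2) ^ j)
  obtain ⟨i, -, j, -, e1⟩ := k γ.1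
  obtain ⟨l, -, m, -, e2⟩ := k γ.2.1
  obtain ⟨n, -, o, -, e3⟩ := k γ.2.2
  have := mul_mem (mul_mem (mul_mem (pow_mem (h 3 (by norm_num)) i) (pow_mem (h 0 (by norm_num)) j)) (mul_mem
    (pow_mem (h 4 (by norm_num)) l) (pow_mem (h 1 (by norm_num)) m))) (mul_mem (pow_mem (h 5 (by norm_num)) n)
    (pow_mem (h 2 (by norm_num)) o))
  rwa [show gn 3 ^ i * gn 0 ^ j * (gn 4 ^ l * gn 1 ^ m) * (gn 5 ^ n * gn 2 ^ o) = γ from
    Prod.ext (by simp [gn, pv, ← e1]) (Prod.ext (by simp [gn, pv, ← e2]) (by simp [gn, pv, ← e3]))] at this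

/-- the orbit number -/
noncomputable def ob (c : ℕ) : ℕ := fld 4 0x1665655765575775672535664566665562754656365665655552666666661222634675562665566555665366661366335656564661646464766666665431211164362665755656655566661454666644565661635636636376665341666621115661566256622662765266416631661175626361646161615552534154312110 c

theorem ob_ok : ∀ i < 8, (Bt.forceL (lmap (fun j => ν (gn j)) [0, 1, 2, 3, 4, 5]) fun L =>
    force (clos L 6 (2 ^ nth 0 [0, 16, 3, 5, 6, 7, 17, 31] i)) fun M =>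
      decide (∀ c : ℕ, c < 256 → ob c < 8 ∧ (ob c = i → Nat.testBit M c = true))) = true := by decide +kernel

theorem ob_fin : ∀ a b c d e f g : ZMod 2, (∀ x ∈ [4, 12, 16, 20, 24, 28],
    nth 0 [0, a, b, c, d, e, f, g] (ob (1 ^^^ 2 ^^^ x)) + (nth 0 [0, a, b, c, d, e, f, g] (ob 1) +
      nth 0 [0, a, b, c, d, e, f, g] (ob 2) + nth 0 [0, a, b, c, d, e, f, g] (ob x)) =
    nth 0 [0, a, b, c, d, e, f, g] (ob (1 ^^^ 2)) + nth 0 [0, a, b, c, d, e, f, g] (ob (2 ^^^ x)) +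
      nth 0 [0, a, b, c, d, e, f, g] (ob (x ^^^ 1))) →
    ∀ x < 256, nth 0 [0, a, b, c, d, e, f, g] (ob x) = q8 x * f := by decide +kernel

theorem form_3 (k : ℕ → ZMod 2) (h : Cub k) (inv : ∀ j < 7, ∀ c < 256, k (vm 8 c (ν (gn j))) = k c) :
    ∀ c < 256, k c = q8 c := by
  have f : ∀ c < 256, k c = nth 0 [0, k 16, k 3, k 5, k 6, k 7, k 17, k 31] (ob c) := fun c hc => by
    have a := ob_ok
    simp only [Bt.forceL_eq, force_eq, decide_eq_true_iff] at a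
    have l := (a 0 (by norm_num) c hc).1
    rw [← reach1 (P := fun d => k d = k c) (fun m hm d hd e => by
      rw [lmap_eq] at hm
      obtain ⟨j, hj, rfl⟩ := List.mem_map.1 hm
      rw [inv j ((by decide : ∀ j ∈ [0, 1, 2, 3, 4, 5], j < 7) j hj) d hd, e]) hc ((a _ l c hc).2 rfl) rfl]
    generalize ob c = i at l
    interval_cases i
    exacts [h.1, rfl, rfl, rfl, rfl, rfl, rfl, rfl]
  refine form_fin h (a := k 17) fun c hc => (f c hc).trans (ob_fin _ _ _ _ _ _ _ (fun x hx => ?_) c hc)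
  have l := (by decide : ∀ x ∈ [4, 12, 16, 20, 24, 28], x < 256 ∧ 1 ^^^ 2 ^^^ x < 256 ∧ 2 ^^^ x < 256 ∧ x ^^^ 1 < 256) x hx
  rw [← f _ l.1, ← f _ l.2.1, ← f _ l.2.2.1, ← f _ l.2.2.2, ← f 1 (by norm_num), ← f 2 (by norm_num), ← f _ (by decide)]
  exact h.2.2 1 (by norm_num) 2 (by norm_num) x l.1

/-- the elements which move the highest vector to the basis -/
noncomputable def ws (s : ℕ) : Γ3 := (yv (nth 0 [7, 4, 2, 1, 0, 3, 5, 6] s))⁻¹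

/-- a height -/
def ht (γ : Γ3) : ℕ := (if γ.1 1 = 2 then 1 else 0) + (if γ.2.1 1 = 2 then 1 else 0) + if γ.2.2 1 = 2 then 1 else 0

theorem ht_ind {P : Γ3 → Prop} (h0 : ∀ τ ∈ TL3, ∀ s < 8, P (τ * ws s))
    (h1 : ∀ i ∈ [1, 2, 4], ∀ γ, P γ → P (γ * (yv i)⁻¹) → P (γ * (yv i)⁻¹ * (yv i)⁻¹)) (γ : Γ3) : P γ := by
  induction' e : ht γ using Nat.strong_induction_on with n ih generalizing γ
  rcases (by decide +kernel : ∀ γ, (∃ i ∈ [1, 2, 4], ht (γ * (yv i)⁻¹) < ht γ ∧ ht (γ * (yv i)⁻¹ * (yv i)⁻¹) < ht γ ∧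
    γ * (yv i)⁻¹ * (yv i)⁻¹ * (yv i)⁻¹ = γ) ∨ ∃ τ ∈ TL3, ∃ s < 8, γ = τ * ws s) γ with ⟨i, hi, a, b, c⟩ | ⟨τ, hτ, s, hs, rfl⟩
  · exact c ▸ h1 i hi _ (ih _ (e ▸ a) _ rfl) (ih _ (e ▸ b) _ rfl)
  · exact h0 τ hτ s hs

variable {G : Type*} [Group G]

/-- the setting with a frame -/
structure Mt (Q : Subgroup G) (z : G) (Φ : G → Γ3) (π : G → ℕ) : Prop extends S33 Q z Φ, ThR.Fr Q z π where
  ac : ∀ h ∈ 𝐂₁(z), Ac 8 Q π h (ν (Φ h))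

variable [Finite G] {Q P : Subgroup G} {z t : G} {Φ Ψ : G → Γ3}

local notation "H" => 𝐂₁(z)
local notation "C" => Cf Q z Φ
local notation "D" => dm Q z Φ

namespace S33
variable (h : S33 Q z Φ)
include h

theorem frame (cb : ∀ i ∈ [1, 2, 4], Nat.card (C (yv i)) = 2) (ht : t ∈ Q) (n : t ∉ zpowers z)
    (f : ∀ τ ∈ TL3, t ∈ C τ) : ∃ π, Mt Q z Φ π := by
  obtain ⟨π, k, c, hk, sq⟩ := exists_co h.toEX h.card
  have p := c.pos
  have : ∀ γ, ∃ x A, x ∈ H ∧ Φ x = γ ∧ Ac 8 Q π x A := fun γ => by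
    obtain ⟨x, hx, e⟩ := h.sur γ
    obtain ⟨A, -, a⟩ := c.ex (h.nor hx) (h.nz hx)
    exact ⟨x, A, hx, e, a⟩
  choose x A hx ex ax using this
  have mu : ∀ γ δ, ∀ {v}, v < 256 → vm 8 v (A (γ * δ)) = vm 8 (vm 8 v (A γ)) (A δ) := fun γ δ v hv => by
    have q := h.div_mem (mul_mem (hx γ) (hx δ)) (hx (γ * δ)) (by rw [h.hom _ (hx _) _ (hx _), ex, ex, ex])
    have := c.uniq (c.cd.mul' (c.cd.mul' (ax γ) (ax δ)) (c.ac_self q)) (by rw [mul_inv_cancel_left]; exact ax _) hv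
    simpa only [vm_mm p, vm_mo p (vm_lt _ _ _)] using this.symm
  have l := c.lt t ht
  obtain ⟨B, hB⟩ : ∃ B : ℕ → ℕ, B = fun v => vm 8 v (pk 8 8 fun s => vm 8 (π t) (A (ws s))) := ⟨_, rfl⟩
  have bx : ∀ a b, B (a ^^^ b) = B a ^^^ B b := fun a b => by simp only [hB, vm_xor]
  have b0 : B 0 = 0 := by simp only [hB, vm_zero]
  have bp : ∀ s < 8, B (2 ^ s) = vm 8 (π t) (A (ws s)) := fun s hs => by
    simp only [hB, vm_pow hs, fld_pk p (fun _ _ => vm_lt _ _ _) hs]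
  have wp := (by decide +kernel : ∀ s < 8, vm 8 16 (ν (ws s)) = 2 ^ s)
  have k1 : ∀ γ, vm 8 (π t) (A γ) = B (vm 8 16 (ν γ)) := ht_ind (fun τ hτ s hs => by
    rw [mu _ _ l, vν, (h.mem_C' c (ax τ) ht).1 ((ex τ).symm ▸ f τ hτ), (by decide +kernel : ∀ τ ∈ TL3, vm 8 16 (ν τ) = 16) τ hτ,
      wp s hs, bp s hs]) fun i hi γ a b => by
    rw [mu _ _ l, mu _ _ l, h.fpf c (ax _) (by rw [ex, inv_pow, (by decide : ∀ i ∈ [1, 2, 4], yv i ^ 3 = 1) i hi, inv_one])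
      (by rw [ex, ← cb i hi, ← ex (yv i), h.C_inv (hx _)]) (vm_lt _ _ _), ← mu _ _ l, a, b, ← bx, vν, vν, vν,
      (by decide +kernel : ∀ i ∈ [1, 2, 4], ∀ v < 256, vm 8 (vm 8 v (ν (yv i)⁻¹)) (ν (yv i)⁻¹) = vm 8 v (ν (yv i)⁻¹) ^^^ v)
        i hi _ (vm_lt _ _ _)]
  have k2 : ∀ γ, ∀ v < 256, vm 8 (B v) (A γ) = B (vm 8 v (ν γ)) := fun γ => xor_ind (n := 8)
    (by rw [b0, vm_zero, vm_zero, b0]) (fun s hs => by rw [bp s hs, ← mu _ _ l, k1, vν, wp s hs]) fun a _ b _ e1 e2 => by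
      rw [bx, vm_xor, vm_xor, bx, e1, e2]
  have k3 : ∀ γ, ∀ v < 256, B v = 0 → B (vm 8 v (ν γ)) = 0 := fun γ v hv e => by rw [← k2 γ v hv, e, vm_zero]
  have k4 : ∀ γ, ∀ v < 256, B v = 0 → v ^^^ vm 8 v (ν γ) < 256 ∧ B (v ^^^ vm 8 v (ν γ)) = 0 := fun γ v hv e =>
    ⟨Nat.xor_lt_two_pow (n := 8) hv (vm_lt _ _ _), by rw [bx, k3 γ v hv e, e]; rfl⟩
  have bj : Bj B := ⟨fun _ => hB ▸ vm_lt _ _ _, fun a _ b _ => bx a b, fun v hv e => by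
    refine ((by decide +kernel : ∀ v < 256, v = 0 ∨ ∃ n < 8, (force (vm 8 v (ν (pv (swap 0 2) n))) fun a =>
      force (a ^^^ vm 8 a (ν (sv 1))) fun b => force (b ^^^ vm 8 b (ν (sv 2))) fun d => d ^^^ vm 8 d (ν (sv 4))) = 16)
      v hv).resolve_right fun ⟨m, _, e'⟩ => n ((c.ker t ht).1 ?_)
    have a := k4 (sv 1) _ (vm_lt _ _ _) (k3 (pv (swap 0 2) m) v hv e)
    have b := k4 (sv 2) _ a.1 a.2
    have d := (k4 (sv 4) _ b.1 b.2).2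
    simp only [force_eq] at e'
    rwa [e', ← vm_mo p (c := 16) (by norm_num), ← ν_one, ← k1, h.ac_one c (ax 1) (ex 1) l] at d⟩
  obtain ⟨π', F, a⟩ := bj.frame h.toLQ c hk sq (x := fun j => x (gn j)) (M := fun j => ν (gn j)) (fun j _ =>
    ⟨_, ax _, k2 _⟩) form_3
  let S : Subgroup Γ3 := { carrier := {γ | ∃ g ∈ H, Φ g = γ ∧ Ac 8 Q π' g (ν γ)}
                           one_mem' := ⟨1, one_mem _, h.hom.one, ν_one ▸ F.cd.one'⟩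
                           mul_mem' := fun ⟨g, hg, e, a⟩ ⟨k, hk, e', a'⟩ => ⟨_, mul_mem hg hk,
                             by rw [h.hom g hg k hk, e, e'], ν_mul _ _ ▸ F.cd.mul' a a'⟩
                           inv_mem' := fun ⟨g, hg, e, a⟩ => ⟨_, inv_mem hg, by rw [h.hom.inv hg, e],
                             F.cd.inv' a rfl (by rw [← ν_mul, mul_inv_cancel, ν_one])⟩ }
  refine ⟨π', { h, F with ac := fun g hg => ?_ }⟩
  obtain ⟨k, hk, e, a⟩ := mem_of_gn (S := S) (fun j hj => ⟨_, hx _, ex _, a j (by omega)⟩) (Φ g)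
  simpa only [mul_inv_cancel_left] using F.ac_mul a (h.div_mem hk hg e)

theorem free {b : G} (c : b * z = z * b) (bb : b * b = 1) (l : Nat.card (C (Φ b)) ≤ 32) {n : ℕ}
    (e : yv n ^ 3 = 1 ∧ Φ b * yv n = yv n * Φ b) : D n ≠ 1 ∧ D n ≠ 3 := by
  have hb : b ∈ H := mem_c1.2 c
  refine ⟨fun d => ?_, fun d => ?_⟩
  · obtain ⟨y, hy, k, y3⟩ := h.lift e.1
    have c8 := h.card_dm e.1
    have nb := h.nor_C hb e.2
    rw [← k, h.C_eq hy y3] at c8 nb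
    have m := card_mod Nat.prime_three y3 (h.nor_C hy (k ▸ e.2.symm))
    have l1 : C (Φ b) ⊓ 𝐂₁(y) ≤ Q ⊓ 𝐂₁(y) := inf_le_inf_right _ (h.C_le _)
    have l2 : zpowers z ≤ C (Φ b) ⊓ 𝐂₁(y) := zpowers_le.2 ⟨h.z_C _, (h.z_c hy).2⟩
    have nz : ¬ Q ⊓ 𝐂₁(y) ≤ zpowers z := fun f => by
      have := card_le_of_le f
      rw [c8, d, h.card_z] at this
      omega
    obtain ⟨a, ha, k'⟩ := (Nat.dvd_prime_pow Nat.prime_two).1 (c8 ▸ card_dvd_of_le l1)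
    rw [le_antisymm l (h.le_W c bb), k'] at m
    have := odd_of_mod (a := 5) m
    obtain rfl | rfl : a = 1 ∨ a = 3 := by omega
    · exact h.exists_fix inf_le_left hb (bb ▸ one_mem _) nb nz fun x hx =>
        (Loc.eq_of_le_of_card_le l2 (by rw [k', h.card_z]; rfl)).ge ⟨hx.2, hx.1.2⟩
    · have := h.W64 c bb ((Loc.eq_of_le_of_card_le l1 (by rw [k', c8, d])).ge.trans inf_le_left) fun f =>
        nz fun x hx => h.C_inf_K hy (by decide) y3 hx (f hx)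
      omega
  · obtain ⟨S, y, s, k, k'⟩ := h.s8_of e.1 d
    have := h.W64 c bb (h.s_triv s hb (bb ▸ one_mem _) (k' b hb (h.nor_C hb e.2)) (k ▸ e.2.symm)) s.nab
    omega

section
variable (p : Pair Q P z t) (hT : ∀ b ∈ P ⊓ 𝐂₁(z), Φ b ∈ TL3)
include p hT

theorem E32 : Nat.card ↥(Q ⊓ P) = 32 := by
  have := h.B_le p hT
  have := h.E_le p
  simp only [TL3, List.length_map, List.length_cons, List.length_nil] at *
  omega

theorem sur_B {τ : Γ3} (hτ : τ ∈ TL3) : ∃ b ∈ P ⊓ H, Φ b = τ := by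
  by_contra! n
  have := h.B_le p (L := TL3.erase τ) fun b hb => (List.mem_erase_of_ne (n b hb)).2 (hT b hb)
  rw [List.length_erase_of_mem hτ, h.E32 p hT] at this
  simp [TL3] at this

theorem cen_E : P ⊓ 𝐂(Q ⊓ P) ≤ Q ⊓ P := (Loc.eq_of_le_of_card_le (le_inf inf_le_right (h.E_cen p)) (by
  have a := h.card_KP p (p.V_le p.tV) inf_le_right
  rw [h.E32 p hT] at a ⊢
  omega)).ge

theorem ex_comm {b : G} (hb : b ∈ P) (n : b ∉ Q) : ∃ e ∈ Q ⊓ P, e⁻¹ * (b⁻¹ * e * b) = t := by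
  by_contra! k
  exact n (h.cen_E p hT ⟨hb, fun e he => by
    have := (h.EB p he hb).resolve_right (k e he)
    rw [inv_mul_eq_one, mul_assoc, eq_inv_mul_iff_mul_eq] at this
    exact this.symm⟩).1

theorem sur_inv {τ : Γ3} (hτ : τ ∈ TL3) (n : τ ≠ 1) : ∃ b ∈ P ⊓ H, Φ b = τ ∧ b * b = 1 := by
  obtain ⟨b, hb, rfl⟩ := h.sur_B p hT hτ
  refine (p.r.sq b hb.1).elim (fun k => ⟨b, hb, rfl, k⟩) fun k => ?_
  obtain ⟨e, he, k'⟩ := h.ex_comm p hT hb.1 fun m => n (h.ΦQ m)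
  refine ⟨b * e, ⟨mul_mem hb.1 he.2, (H).mul_mem hb.2 (h.le_c1 he.1)⟩, h.Φmul hb.2 he.1, ?_⟩
  rw [show b * e * (b * e) = b * b * (e * (e⁻¹ * (b⁻¹ * e * b))) * e by group, k, k', p.r.zc he.2, ← mul_assoc,
    p.r.zz, one_mul, p.E_sq he]

theorem cen_t {w : G} (hw : w ∈ H) (c : w * t = t * w) : Φ w ∈ TL3 := by
  obtain ⟨b, hb, e⟩ := h.sur_B p hT (τ := sv 7) (by decide)
  have := hT _ (norm_mem' (h.nor_B p hw c) hb)
  rw [h.hom.conj hw hb.2, e] at this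
  exact (by decide +kernel : ∀ γ, γ * sv 7 * γ⁻¹ ∈ TL3 → γ ∈ TL3) _ this

theorem is_free {b : G} (hb : b ∈ P ⊓ H) (n : b ∉ Q) {i j : ℕ} (k : Ln i j (i + j) (i + j) ∧ yv i ∉ TL3 ∧ yv j ∉ TL3 ∧
    yv i * yv j ∉ TL3 ∧ yv i * (yv j)⁻¹ ∉ TL3) (c1 : yv i * Φ b = Φ b * yv i) (c2 : yv j * Φ b = Φ b * yv j) :
    Nat.card (C (Φ b)) ≤ 32 := by
  obtain ⟨⟨a3, b3, ab, ind, -⟩, n1, n2, n3, n4⟩ := k
  obtain ⟨x, hx, y, hy, ex, ey, x3, y3, yx⟩ := h.lifts2 a3 b3 ab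
  have c := h.card_K (h.z_C (Φ b)) (h.C_le _)
  have nx := h.nor_K hx (h.nor_C hx (ex ▸ c1))
  have ny := h.nor_K hy (h.nor_C hy (ey ▸ c2))
  have tU : t ∈ Q ⊓ 𝐂(C (Φ b)) := ⟨p.tQ, fun w hw => by
    obtain ⟨e, he, k⟩ := h.ex_comm p hT hb.1 n
    exact k ▸ h.comm_C hb.2 he.1 hw⟩
  have zU := h.z_K (h.C_le (Φ b))
  have lU : Q ⊓ 𝐂(C (Φ b)) ≤ Q := inf_le_left
  generalize Q ⊓ 𝐂(C (Φ b)) = U at *
  have f := nine_formula x3 y3 yx.symm (h.ind hx hy (by rwa [ex, ey])) nx ny (h.cop lU (by norm_num))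
  obtain ⟨u, hu, ku⟩ := h.lg lU
  have key : ∀ {w}, w ∈ H ∧ w ^ 3 = 1 → w ∈ 𝐍(U) → Φ w ∉ TL3 → ∃ a, Nat.card ↥(U ⊓ 𝐂₁(w)) = 2 ^ a ∧ 0 < a ∧ a < u ∧
      u % 2 = a % 2 := fun {w} hw nw m => by
    obtain ⟨a, -, ka⟩ := h.lg (inf_le_left.trans lU : U ⊓ 𝐂₁(w) ≤ Q)
    have l1 := card_le_of_le (zpowers_le.2 ⟨zU, (h.z_c hw.1).2⟩ : zpowers z ≤ U ⊓ 𝐂₁(w))
    have l2 := card_lt_card_of_lt (lt_of_le_not_ge (inf_le_left : U ⊓ 𝐂₁(w) ≤ U) fun l =>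
      m (h.cen_t p hT hw.1 (mem_c1.1 (l tU).2).symm))
    have l3 := card_mod Nat.prime_three hw.2 nw
    rw [ka, ku] at l2 l3
    rw [ka, h.card_z] at l1
    exact ⟨a, ka, Nat.pos_of_ne_zero (by rintro rfl; omega), (Nat.pow_lt_pow_iff_right one_lt_two).1 l2, odd_of_mod l3⟩
  obtain ⟨a1, k1, l1⟩ := key ⟨hx, x3⟩ nx (ex ▸ n1)
  obtain ⟨a2, k2, l2⟩ := key ⟨hy, y3⟩ ny (ey ▸ n2)
  obtain ⟨a3, k3, l3⟩ := key (Qt.mu ⟨hx, x3⟩ ⟨hy, y3⟩ yx) (mul_mem nx ny) (by rwa [h.hom _ hx _ hy, ex, ey])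
  obtain ⟨a4, k4, l4⟩ := key (Qt.mu ⟨hx, x3⟩ (Qt.iv ⟨hy, y3⟩) yx.inv_left) (mul_mem nx (inv_mem ny))
    (by rwa [h.hom _ hx _ (inv_mem hy), h.hom.inv hy, ex, ey])
  obtain ⟨e, -, ke⟩ := h.lg (inf_le_left.trans (inf_le_left.trans lU) : U ⊓ 𝐂₁(x) ⊓ 𝐂₁(y) ≤ Q)
  rw [k1, k2, k3, k4, ke, ku] at f
  simp only [← pow_add, ← pow_mul, Nat.pow_right_inj one_lt_two] at f
  have : 2 ^ 5 ≤ 2 ^ u := Nat.pow_le_pow_right two_pos (by omega)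
  rw [ku] at c
  nlinarith

theorem fpf3 : ∀ i ∈ [1, 2, 4], Nat.card (C (yv i)) = 2 := by
  have k : ∀ x ∈ [(1, 2, 4), (2, 1, 4), (4, 1, 2)], ∀ n ∈ [x.2.1, x.2.2, x.2.1 + x.2.2], D n ≠ 1 ∧ D n ≠ 3 := fun x hx n hn => by
    obtain ⟨a1, a2, a3, a4, a5, a6⟩ := (by decide +kernel : ∀ x ∈ [(1, 2, 4), (2, 1, 4), (4, 1, 2)], sv x.1 ∈ TL3 ∧
      sv x.1 ≠ 1 ∧ (Ln x.2.1 x.2.2 (x.2.1 + x.2.2) (x.2.1 + x.2.2) ∧ yv x.2.1 ∉ TL3 ∧ yv x.2.2 ∉ TL3 ∧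
      yv x.2.1 * yv x.2.2 ∉ TL3 ∧ yv x.2.1 * (yv x.2.2)⁻¹ ∉ TL3) ∧ yv x.2.1 * sv x.1 = sv x.1 * yv x.2.1 ∧
      yv x.2.2 * sv x.1 = sv x.1 * yv x.2.2 ∧ ∀ n ∈ [x.2.1, x.2.2, x.2.1 + x.2.2], yv n ^ 3 = 1 ∧
      sv x.1 * yv n = yv n * sv x.1) x hx
    obtain ⟨b, hb, e, bb⟩ := h.sur_inv p hT a1 a2
    exact h.free (mem_c1.1 hb.2) bb (h.is_free p hT hb (fun m => a2 (e ▸ h.ΦQ m)) a3 (e ▸ a4) (e ▸ a5)) (e ▸ a6 n hn)
  obtain ⟨_, a1, -⟩ := h.line (p := 1) (q := 2) (r := 3) (s := 3) (by decide +kernel)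
  obtain ⟨_, a2, -⟩ := h.line (p := 1) (q := 4) (r := 5) (s := 5) (by decide +kernel)
  obtain ⟨_, a3, -⟩ := h.line (p := 2) (q := 4) (r := 6) (s := 6) (by decide +kernel)
  obtain ⟨_, a4, -⟩ := h.line (p := 3) (q := 5) (r := 7) (s := 6) (by decide +kernel)
  have d := fun n (hn : n ∈ [1, 2, 3, 4, 5, 6, 7]) => (fun k => h.dm_lt k.1 k.2)
    ((by decide +kernel : ∀ n ∈ [1, 2, 3, 4, 5, 6, 7], yv n ^ 3 = 1 ∧ yv n ≠ 1) n hn)
  simp only [List.mem_cons, List.not_mem_nil, or_false, forall_eq_or_imp, forall_eq, Nat.reduceAdd] at k d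
  have : D 1 = 0 ∧ D 2 = 0 ∧ D 4 = 0 := by
    obtain ⟨⟨k2, k4, k6⟩, ⟨k1, -, k5⟩, -, -, k3⟩ := k
    obtain ⟨d1, d2, d3, d4, d5, d6, d7⟩ := d
    have u : ∀ {a}, a < 4 → a ≠ 1 ∧ a ≠ 3 → a = 0 ∨ a = 2 := fun _ _ => by omega
    rcases u d1 k1 with e1 | e1 <;> rcases u d2 k2 with e2 | e2 <;> rcases u d3 k3 with e3 | e3 <;>
      rcases u d4 k4 with e4 | e4 <;> rcases u d5 k5 with e5 | e5 <;> rcases u d6 k6 with e6 | e6 <;>
      clear k1 k2 k3 k4 k5 k6 <;> omega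
  simp only [List.mem_cons, List.not_mem_nil, or_false, forall_eq_or_imp, forall_eq]
  rw [h.card_dm (by decide), h.card_dm (by decide), h.card_dm (by decide), this.1, this.2.1, this.2.2]
  exact ⟨rfl, rfl, rfl⟩

theorem t_C {τ : Γ3} (hτ : τ ∈ TL3) : t ∈ C τ := by
  obtain ⟨b, hb, rfl⟩ := h.sur_B p hT hτ
  exact h.C_of hb.2 p.tQ (p.r.zc hb.1).symm

end

theorem exists_mt (p : Pair Q P z t) : ∃ Φ π, Mt Q z Φ π ∧ ∀ b ∈ P ⊓ H, Φ b ∈ TL3 := by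
  obtain ⟨k, hk, e⟩ := h.norm (inf_le_right : P ⊓ H ≤ H) (p.r.isPGroup.to_inf_left)
  obtain ⟨π, m⟩ := (h.tw hk).frame ((h.tw hk).fpf3 p e) p.tQ (fun m => (h.mem_z.1 m).elim p.r.z_ne p.ne)
    fun τ => (h.tw hk).t_C p e
  exact ⟨_, π, m, e⟩

end S33

end CF.LX4
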