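import Cfsg.Agent.LX4.O2
import Cfsg.Agent.ThR.Ex

/-! A reflection which interchanges two central involutions. -/

set_option autoImplicit false
set_option maxRecDepth 1000000
set_option synthInstance.maxSize 2000
set_option linter.unusedSectionVars false

namespace CF.LX4
open Cfsg Subgroup CF.Loc CF.Even CF.LX CF.J4 CF.Comp CF.Dce CF.MonU Equiv Equiv.Perm
open CF.ThR (q8 b8 el qm apq)

/-- the pure tensors -/
def pu (c : ℕ) : Bool := Nat.testBit 0x8000000000000008000000200040001700000200040001071000011301150116 c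

/-- the automorphisms induced by the root elements -/
noncomputable def AL : List ℕ := [0x4010848100c0100481, 0x411005010040500441, 0x421204010040102421,
  0x409004018040908401, 0x401044014140110401, 0x401004212242100401]

variable {G : Type*} [Group G]

/-- an exact frame -/
structure Ox (Q : Subgroup G) (z : G) (Φ : G → Γ3) (π : G → ℕ) (q α : ℕ → G) (n : G) : Prop extends Mt Q z Φ π where
  fq : ∀ i < 8, q i ∈ Q ∧ π (q i) = 2 ^ i
  nn : n * n = 1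
  nt : n * z * n⁻¹ = q 4
  br : q 0 * n * q 0 = n * q 0 * n
  nα : ∀ j < 3, n * q (7 - j) * n⁻¹ = α j
  nf : ∀ i < 3, n * q (i + 1) * n⁻¹ = q (i + 1)
  αH : ∀ j < 3, α j ∈ 𝐂₁(z) ∧ Φ (α j) = sv (2 ^ j)
  αa : ∀ j < 3, ∀ i < 8, α j * q i * (α j)⁻¹ = el q z (fld 9 (nth 0 AL j) i)

theorem dih {a b : G} (aa : a * a = 1) (bb : b * b = 1) (m : ℕ) :
    IsConj a (a * (a * b) ^ m) ∨ IsConj b (a * (a * b) ^ m) := by
  induction m using Nat.twoStepInduction with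
  | zero => exact .inl (by rw [pow_zero, mul_one])
  | one => exact .inr (by rw [pow_one, ← mul_assoc, aa, one_mul])
  | more m ih _ =>
    have : (a * b)⁻¹ * (a * (a * b) ^ m) * (a * b)⁻¹⁻¹ = a * (a * b) ^ (m + 2) := by
      rw [inv_inv, mul_inv_rev, inv_eq_of_mul_eq_one_right bb, pow_succ, pow_succ', mul_assoc b, inv_mul_cancel_left]
      simp only [← mul_assoc, aa, one_mul]
    exact ih.imp (·.trans (isConj_iff.2 ⟨_, this⟩)) (·.trans (isConj_iff.2 ⟨_, this⟩))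

theorem exists_inv {d : G} {k : ℕ} (h : d ^ 2 ^ k = 1) (n : d ≠ 1) : ∃ m, d ^ m ≠ 1 ∧ d ^ m * d ^ m = 1 := by
  induction k with
  | zero => exact absurd (by simpa using h) n
  | succ k ih => exact (em _).elim ih fun e => ⟨_, e, by rwa [← pow_add, ← two_mul, ← pow_succ']⟩

variable [Finite G] {Q P : Subgroup G} {z t : G} {Φ : G → Γ3} {π : G → ℕ}

local notation "H" => 𝐂₁(z)

namespace Mt
variable (m : Mt Q z Φ π)
include m

theorem fix {x g : G} (hx : x ∈ Q) (hg : g ∈ H) (e : x * g = g * x) : vm 8 (π x) (ν (Φ g)) = π x := by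
  rw [← (m.ac g hg).2 x hx, mul_assoc, e, inv_mul_cancel_left]

theorem fix16 {x : G} (hx : x ∈ Q) (n : x ∉ zpowers z) (f : ∀ τ ∈ TL3, ∃ b ∈ H, Φ b = τ ∧ x * b = b * x) : π x = 16 :=
  (by decide +kernel : ∀ c < 256, c ≠ 0 → (∀ τ ∈ TL3, vm 8 c (ν τ) = c) → c = 16) _ (m.lt _ hx) (mt (m.ker _ hx).1 n)
    fun τ hτ => by
      obtain ⟨b, hb, rfl, e⟩ := f τ hτ
      exact m.fix hx hb e

theorem pure_of {x : G} (c : IsConj z x) (hx : x ∈ Q) : x = z ∨ pu (π x) = true := by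
  refine (em _).imp_right fun n => ?_
  obtain ⟨g, rfl⟩ := isConj_iff.1 c
  have p := m.toLQ.pair (by rw [m.card]; norm_num) n hx
  obtain ⟨k, hk, e⟩ := m.norm (inf_le_right : cj[g] Q ⊓ H ≤ H) (p.r.isPGroup.to_inf_left)
  have h1 := m.cQ' hk hx
  have := m.fix16 h1 (fun k' => (m.mem_z.1 k').elim (by simpa using m.z_ne) fun k' => n (by
    rw [mul_inv_eq_iff_eq_mul, ← mem_c1.1 hk] at k'; exact mul_left_cancel k')) fun τ hτ => by
      obtain ⟨b, hb, e⟩ := (m.tw hk).sur_B p e hτ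
      exact ⟨_, mul_mem (mul_mem hk hb.2) (inv_mem hk), e, by rw [conj_mul, conj_mul, p.r.zc hb.1]⟩
  have e := (m.ac k hk).2 _ h1
  rw [this, show ∀ y, k⁻¹ * (k * y * k⁻¹) * k = y from fun y => by group] at e
  exact e ▸ (by decide +kernel : ∀ γ, pu (vm 8 16 (ν γ)) = true) _

theorem of_pure (ht : t ∈ Q) (e : π t = 16) {x : G} (hx : x ∈ Q) (u : pu (π x) = true) : ∃ k ∈ H, k⁻¹ * t * k = x := by
  obtain ⟨γ, e'⟩ := (by decide +kernel : ∀ c < 256, pu c = true → ∃ γ, vm 8 16 (ν γ) = c) _ (m.lt _ hx) u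
  obtain ⟨k, hk, rfl⟩ := m.sur γ
  rcases m.toFr.eq_or (m.cQ hk ht) hx (by rw [(m.ac k hk).2 _ ht, e, e']) with l | l
  · exact ⟨k, hk, l.symm⟩
  · obtain ⟨a, ha, ea⟩ := m.surj 1 (by norm_num)
    have := m.toFr.conj ht ha
    rw [e, ea, (by decide +kernel : b8 16 1 = 1), pow_one] at this
    exact ⟨a * k, mul_mem (m.le_c1 ha) hk, by
      rw [l, mul_assoc _ k z, mem_c1.1 hk, ← mul_assoc _ z k, mul_assoc k⁻¹ t z, ← this]; group⟩

variable (p : Pair Q P z t) (hT : ∀ b ∈ P ⊓ 𝐂₁(z), Φ b ∈ TL3)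
include p hT

theorem pt : π t = 16 := m.fix16 p.tQ (fun k => (m.mem_z.1 k).elim p.r.z_ne p.ne) fun τ hτ => by
  obtain ⟨b, hb, e⟩ := m.sur_B p hT hτ
  exact ⟨b, hb.2, e, (p.r.zc hb.1).symm⟩

theorem E_code {e : G} (he : e ∈ Q ⊓ P) : π e &&& 225 = 0 :=
  (by decide +kernel : ∀ c < 256, b8 c 16 = 0 → (∀ τ ∈ TL3, c ^^^ vm 8 c (ν τ) = 0 ∨ c ^^^ vm 8 c (ν τ) = 16) →
    c &&& 225 = 0) _ (m.lt _ he.1) (m.pt p hT ▸ (m.toFr.comm_iff he.1 p.tQ).1 (p.r.zc he.2)) fun τ hτ => by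
      obtain ⟨b, hb, rfl⟩ := m.sur_B p hT hτ
      rw [← (m.ac b hb.2).2 e he.1, ← m.inv he.1, ← m.mul _ (inv_mem he.1) _ (m.cQ hb.2 he.1)]
      exact (m.EB p he hb.1).imp (fun k => by rw [k, m.one]) fun k => by rw [k, m.pt p hT]

theorem mem_Q {a w : G} (ha : a ∈ Q) (e : π a = 1) (hw : w ∈ H) (c1 : w * t = t * w) (c2 : a * w = w * a) : w ∈ Q :=
  (m.kr w hw).1 ((by decide +kernel : ∀ τ ∈ TL3, vm 8 1 (ν τ) = 1 → τ = 1) _ (m.cen_t p hT hw c1) (e ▸ m.fix ha hw c2))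

theorem mem_zp {a w : G} (ha : a ∈ Q) (e : π a = 1) (hw : w ∈ Q ⊓ P) (c : a * w = w * a) (k : IsConj z (a * w)) :
    w ∈ zpowers z := by
  have l := m.mul a ha w hw.1
  refine (m.ker w hw.1).1 ((by decide +kernel : ∀ c < 256, c &&& 225 = 0 → b8 1 c = 0 → 1 ^^^ c = 0 ∨ pu (1 ^^^ c) = true →
    c = 0) _ (m.lt _ hw.1) (m.E_code p hT hw) (e ▸ (m.toFr.comm_iff ha hw.1).1 c) ?_)
  rw [← e, ← l]
  exact (m.pure_of k (mul_mem ha hw.1)).imp_left fun k => by rw [k, m.toFr.pz]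

theorem exists_n : ∃ a n, a ∈ Q ∧ π a = 1 ∧ n * n = 1 ∧ n * z * n⁻¹ = t ∧ a * n * a = n * a * n ∧ a * n * a ∈ P := by
  obtain ⟨a, ha, ea⟩ := m.surj 1 (by norm_num)
  obtain ⟨x, -, xz, xt⟩ := p.exists_swap
  have aa : a * a = 1 := (m.toFr.sq_iff ha).2 (by rw [ea]; decide +kernel)
  have az := conj_eq_iff.2 (m.zc ha)
  have at' := m.toFr.conj p.tQ (inv_mem ha)
  rw [m.inv ha, ea, m.pt p hT, (by decide +kernel : b8 16 1 = 1), pow_one, inv_inv] at at'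
  obtain ⟨k, hk, ek⟩ := m.of_pure p.tQ (m.pt p hT) ha (by rw [ea]; rfl)
  have ca : IsConj z a := isConj_iff.2 ⟨k⁻¹ * x, by rw [← ek, ← xz]; group⟩
  have tr : ∀ {w u v}, x * u * x⁻¹ = v → w * v = v * w → x⁻¹ * w * x * u = u * (x⁻¹ * w * x) := fun {w u v} e' e => by
    calc _ = x⁻¹ * (w * (x * u * x⁻¹)) * x := by group
      _ = _ := by rw [e', e, ← e']; group
  obtain ⟨b, eb⟩ : ∃ b, x * a * x⁻¹ = b := ⟨_, rfl⟩
  have cb : IsConj z b := ca.trans (isConj_iff.2 ⟨x, eb⟩)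
  have hb : b ∈ P := p.cjl x xz ▸ eb ▸ conj_mem_cj x ha
  have bb : b * b = 1 := by rw [← eb, conj_mul, aa]; group
  have bz : b * z * b⁻¹ = z * t := by
    rw [← xz, ← eb]; nth_rewrite 1 2 [← xt]; rw [conj_mul, conj_mul, ← at']; group
  have bt := conj_eq_iff.2 (p.r.zc hb)
  have c2 : ∀ u v y : G, u * v * y * (u * v)⁻¹ = u * (v * y * v⁻¹) * u⁻¹ := fun u v y => by group
  have dz : a * b * z * (a * b)⁻¹ = t := by rw [c2, bz, ← conj_mul, az, at', p.tz, ← mul_assoc, m.zz, one_mul]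
  have dt : a * b * t * (a * b)⁻¹ = t * z := by rw [c2, bt, at']
  have dtz : a * b * (t * z) * (a * b)⁻¹ = z := by rw [← conj_mul, dz, dt, p.tz, mul_assoc, p.r.zz, mul_one]
  have c3 : ∀ d y : G, d ^ 3 * y * (d ^ 3)⁻¹ = d * (d * (d * y * d⁻¹) * d⁻¹) * d⁻¹ := fun d y => by
    simp only [pow_succ, pow_zero, one_mul]; group
  have wz : Commute ((a * b) ^ 3) z := conj_eq_iff.1 (by rw [c3, dz, dt, dtz])
  have wt : Commute ((a * b) ^ 3) t := conj_eq_iff.1 (by rw [c3, dt, dtz, dz])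
  have d3 : (a * b) ^ 3 = 1 := by_contra fun n => by
    have hw := mem_c1.2 wz.eq
    obtain ⟨j, j1, jj⟩ := exists_inv (k := 3) (d := (a * b) ^ 3) (by
      rw [show 2 ^ 3 = 2 * 4 from rfl, pow_mul]
      exact m.q4 ((m.kr _ (pow_mem hw 2)).1 (by
        rw [m.hom.pow hw]; exact (by decide : ∀ τ ∈ TL3, τ ^ 2 = 1) _ (m.cen_t p hT hw wt.eq)))) n
    have wz := (wz.pow_left j).eq
    have wt := (wt.pow_left j).eq
    rw [← pow_mul] at j1 jj wz wt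
    have ia := inv_eq_of_mul_eq_one_right aa
    have ib := inv_eq_of_mul_eq_one_right bb
    have e : (b * a) ^ (3 * j) = (a * b) ^ (3 * j) := by
      rw [← ia, ← ib, ← mul_inv_rev, inv_pow, ia, ib, inv_eq_of_mul_eq_one_right jj]
    have wa : a * (a * b) ^ (3 * j) = (a * b) ^ (3 * j) * a := by
      nth_rewrite 1 [← e]; exact SemiconjBy.pow_right (mul_assoc a b a).symm _
    have wb : b * (a * b) ^ (3 * j) = (a * b) ^ (3 * j) * b := by
      nth_rewrite 2 [← e]; exact SemiconjBy.pow_right (mul_assoc b a b).symm _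
    have k1 := (dih aa bb (3 * j)).elim ca.trans cb.trans
    have k2 := (dih bb aa (3 * j)).elim cb.trans ca.trans
    rw [e] at k2
    generalize (a * b) ^ (3 * j) = w at *
    have q1 := m.mem_Q p hT ha ea (mem_c1.2 wz) wt wa
    have q2 := m.mem_Q p hT ha ea (mem_c1.2 (tr xz wt)) (tr xt wz) (tr eb wb.symm).symm
    have z1 := m.mem_zp p hT ha ea ⟨q1, p.cjl x xz ▸ mem_cj.2 q2⟩ wa k1
    have z2 := m.mem_zp p hT ha ea ⟨q2, mem_cj.1 ((p.symm.cjl x xt).ge q1)⟩ (tr eb wb.symm).symm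
      (k2.trans (isConj_iff.2 ⟨x⁻¹, by rw [← eb]; group⟩))
    obtain rfl := (m.mem_z.1 z1).resolve_left j1
    rw [← xt, show x⁻¹ * (x * t * x⁻¹) * x = t by group, xt] at z2
    exact (m.mem_z.1 z2).elim p.r.z_ne p.ne
  have br : a * b * a = b * a * b := by
    rw [← mul_left_inj (b * a * b)]
    calc _ = (a * b) ^ 3 := by simp only [pow_succ, pow_zero, one_mul, mul_assoc]
      _ = b * (a * (b * b) * a) * b := by rw [d3, bb, mul_one, aa, mul_one, bb]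
      _ = _ := by group
  have e1 : a * (a * b * a) * a = b := by rw [← mul_assoc, ← mul_assoc, aa, one_mul, mul_assoc, aa, mul_one]
  refine ⟨a, a * b * a, ha, ea, ?_, by rw [c2, az, dz], ?_, e1.symm ▸ hb⟩
  · rw [mul_assoc, ← mul_assoc a, ← mul_assoc a, aa, one_mul, mul_assoc, ← mul_assoc b, bb, one_mul, aa]
  · rw [e1, mul_assoc _ a a, aa, mul_one, br, mul_assoc, ← mul_assoc b, ← mul_assoc b, bb, one_mul, ← mul_assoc, aa, one_mul]

theorem root {a n e : G} (ha : a ∈ Q) (ea : π a = 1) (nn : n * n = 1) (nz : n * z * n⁻¹ = t)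
    (br : a * n * a = n * a * n) (hb : a * n * a ∈ P) {j : ℕ} (hj : j < 3) (he : e ∈ Q) (ee : π e = 2 ^ (7 - j)) :
    n * e * n⁻¹ ∈ P ⊓ H ∧ Φ (n * e * n⁻¹) = sv (2 ^ j) ∧ n * e * n⁻¹ * a * (n * e * n⁻¹)⁻¹ = a * e ∧
      n * e * n⁻¹ * e = e * (n * e * n⁻¹) := by
  have ni := inv_eq_of_mul_eq_one_right nn
  have n2 : ∀ x, n * (n * x * n⁻¹) * n⁻¹ = x := fun x => by
    rw [ni, ← mul_assoc, ← mul_assoc, nn, one_mul, mul_assoc, nn, mul_one]
  have nt : n * t * n⁻¹ = z := nz ▸ n2 z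
  obtain ⟨k1, k2, k3, k4⟩ := (by decide +kernel : ∀ j < 3, b8 (2 ^ (7 - j)) 16 = 0 ∧ b8 (2 ^ (7 - j)) 1 = 0 ∧
    q8 (2 ^ (7 - j)) = 0 ∧ ∀ τ ∈ TL3, b8 (1 ^^^ vm 8 1 (ν τ)) 16 = 0 ∧ ((1 ^^^ vm 8 1 (ν τ) ^^^ 2 ^ (7 - j)) &&& 225 = 0 →
      τ = sv (2 ^ j) ∧ 1 ^^^ vm 8 1 (ν τ) = 2 ^ (7 - j))) j hj
  have et := (m.toFr.comm_iff he p.tQ).2 (by rwa [ee, m.pt p hT])
  have e1 := (m.toFr.comm_iff he ha).2 (by rwa [ee, ea])
  have e2 := (m.toFr.sq_iff he).2 (by rwa [ee])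
  have aa : a * a = 1 := (m.toFr.sq_iff ha).2 (by rw [ea]; decide +kernel)
  have ai := inv_eq_of_mul_eq_one_right aa
  obtain ⟨β, eβ⟩ : ∃ β, n * e * n⁻¹ = β := ⟨_, rfl⟩
  obtain ⟨b, eb⟩ : ∃ b, a * n * a = b := ⟨_, rfl⟩
  have na : n * a * n⁻¹ = b := by rw [ni, ← br, eb]
  have nβ : n * β * n⁻¹ = e := eβ ▸ n2 e
  have βP : β ∈ P := p.cjl n nz ▸ eβ ▸ conj_mem_cj n he
  have βz : β * z = z * β := by rw [← eβ, ← nt, conj_mul, conj_mul, et]
  have βH := mem_c1.2 βz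
  have ββ : β * β = 1 := by rw [← eβ, conj_mul, e2]; group
  have βi := inv_eq_of_mul_eq_one_right ββ
  have βb : b * β * b⁻¹ = β := conj_eq_iff.2 (by rw [← eβ, ← na, conj_mul, conj_mul, e1])
  have bz : b * z * b⁻¹ = z * t := by
    have := m.toFr.conj p.tQ (inv_mem ha)
    rw [m.inv ha, ea, m.pt p hT, (by decide +kernel : b8 16 1 = 1), pow_one, inv_inv] at this
    rw [← na, ← nz]; nth_rewrite 1 2 [← nt]; rw [conj_mul, conj_mul, ← this]; group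
  have hu := mul_mem ha (m.cQ βH ha)
  have cu := m.mul a ha _ (m.cQ βH ha)
  rw [(m.ac β βH).2 a ha, ea] at cu
  obtain ⟨u, eu⟩ : ∃ u, a * (β⁻¹ * a * β) = u := ⟨_, rfl⟩
  rw [eu] at hu cu
  rw [eβ]
  rw [eb] at hb
  have u1 : a * β * a⁻¹ = u * β := by rw [← eu, ai, βi, mul_assoc, mul_assoc, mul_assoc, mul_assoc, ββ, mul_one]
  have u2 : b * (u * β) * b⁻¹ = e := by
    rw [← u1, ← eb, ← conj_eq_iff.2 e1.symm, ← nβ, mul_inv_rev, mul_inv_rev, ai]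
    calc _ = a * n * (a * a) * β * (a * a) * n⁻¹ * a := by group
      _ = _ := by rw [aa]; group
  have u3 : b * e * b⁻¹ = n * u * n⁻¹ * e := by rw [← na, ← nβ, conj_mul (a := u), ← u1]; group
  obtain ⟨l1, l2⟩ := k4 _ (hT β ⟨βP, βH⟩)
  rw [← cu, ← ee] at l2
  have := m.E_code p hT (e := u⁻¹ * e) ⟨Q.mul_mem (inv_mem hu) he, by
    rw [← u2, show u⁻¹ * (b * (u * β) * b⁻¹) = u⁻¹ * b * u * β * b⁻¹ by group]
    exact P.mul_mem (P.mul_mem (norm_mem (p.r.nor (mem_c1.2 ((m.toFr.comm_iff hu p.tQ).2 (by rwa [cu, m.pt p hT])))) hb) βP)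
      (P.inv_mem hb)⟩
  rw [m.mul _ (inv_mem hu) _ he, m.inv hu] at this
  obtain ⟨l3, l4⟩ := l2 this
  rcases m.toFr.eq_or he hu l4.symm with rfl | rfl
  · rw [← conj_mul, βb, u3, eβ] at u2
    exact ⟨⟨βP, βH⟩, l3, by rw [← eu, βi, ← mul_assoc a, aa, one_mul], by
      nth_rewrite 2 [← u2]; rw [mul_assoc _ β, ββ, mul_one]⟩
  · rw [← conj_mul, ← conj_mul, βb, u3, ← conj_mul, eβ, nz, bz, mul_assoc β, ← et, ← p.tz, mul_assoc β, mul_assoc e,
      ← mul_assoc t t, p.r.zz, one_mul] at u2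
    have u4 := congrArg (fun x => n * x * n⁻¹) u2
    simp only [← conj_mul, nβ, eβ, nz] at u4
    refine absurd ?_ p.ne
    rw [← inv_eq_of_mul_eq_one_right e2, mul_inv_eq_iff_eq_mul, inv_mul_eq_iff_eq_mul, ← eq_inv_mul_iff_mul_eq,
      βi, ← mul_assoc, ← mul_assoc] at u4
    rw [← βi, mul_inv_eq_iff_eq_mul, inv_mul_eq_iff_eq_mul, ← mul_assoc] at u2
    rw [u4, ← u2, m.zc he, mul_assoc, e2, mul_one]

theorem exists_ox : ∃ q α n, Ox Q z Φ π q α n := by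
  obtain ⟨a, n, ha, ea, nn, nz, br, hb⟩ := m.exists_n p hT
  choose e he ee using fun j => m.surj (2 ^ (7 - j)) (Nat.pow_lt_pow_right one_lt_two (by omega))
  have r := fun j (hj : j < 3) => m.root p hT ha ea nn nz br hb hj (he j) (ee j)
  obtain ⟨α, eα⟩ : ∃ α : ℕ → G, ∀ j, n * e j * n⁻¹ = α j := ⟨_, fun _ => rfl⟩
  simp only [eα] at r
  have ni := inv_eq_of_mul_eq_one_right nn
  have nα : ∀ j, n * α j * n⁻¹ = e j := fun j => by
    rw [← eα, ni, ← mul_assoc, ← mul_assoc, nn, one_mul, mul_assoc, nn, mul_one]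
  have ec : ∀ j < 3, ∀ k < 3, e j * e k = e k * e j := fun j hj k hk => (m.toFr.comm_iff (he j) (he k)).2 (by
    rw [ee, ee]; revert j k; decide +kernel)
  have e2 : ∀ j < 3, (e j)⁻¹ = e j := fun j hj => inv_eq_of_mul_eq_one_right ((m.toFr.sq_iff (he j)).2 (by
    rw [ee]; revert j; decide +kernel))
  have αi : ∀ j < 3, (α j)⁻¹ = α j := fun j hj => by rw [← eα, conj_inv, e2 j hj]
  have αc : ∀ j < 3, ∀ k < 3, α j * α k = α k * α j := fun j hj k hk => by rw [← eα, ← eα, conj_mul, conj_mul, ec j hj k hk]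
  obtain ⟨c, ec'⟩ : ∃ c : ℕ → ℕ → G, ∀ j k, α j * e k * (α j)⁻¹ * (e k)⁻¹ = c j k := ⟨_, fun _ _ => rfl⟩
  have cQ : ∀ j < 3, ∀ k < 3, c j k ∈ Q ∧ π (c j k) = vm 8 (2 ^ (7 - k)) (ν (sv (2 ^ j))) ^^^ 2 ^ (7 - k) :=
    fun j hj k hk => by
      have := m.cQ (r j hj).1.2 (he k)
      rw [← ec', ← (r j hj).2.1, ← ee, ← (m.ac _ (r j hj).1.2).2 _ (he k), ← m.mul _ this _ (he k), αi j hj, e2 k hk]
      exact ⟨mul_mem (by rwa [αi j hj] at this) (he k), rfl⟩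
  have cP : ∀ j < 3, ∀ k < 3, c j k ∈ P := fun j hj k hk => by
    rw [← ec', mul_assoc, mul_assoc, ← mul_assoc (e k)]
    exact mul_mem (r j hj).1.1 (norm_mem' (p.r.nor (mem_c1.2 ((m.toFr.comm_iff (he k) p.tQ).2 (by
      rw [ee, m.pt p hT]; revert k; decide +kernel)))) (inv_mem (r j hj).1.1))
  have F1 : ∀ j k, α j * e k * (α j)⁻¹ = c j k * e k := fun j k => by rw [← ec', inv_mul_cancel_right]
  have cs : ∀ j < 3, ∀ k < 3, c j k = c k j := fun j hj k hk => by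
    have : ∀ j < 3, ∀ k < 3, α j * α k * a * (α j * α k)⁻¹ = a * (e j * e k * c j k) := fun j hj k hk => by
      rw [show α j * α k * a * (α j * α k)⁻¹ = α j * (α k * a * (α k)⁻¹) * (α j)⁻¹ by group, (r k hk).2.2.1, ← conj_mul,
        (r j hj).2.2.1, F1, (m.toFr.comm_iff (cQ j hj k hk).1 (he k)).2 (by
          rw [(cQ j hj k hk).2, ee]; revert j k; decide +kernel)]
      group
    have l := this j hj k hk
    rw [αc j hj k hk, this k hk j hj, ec j hj k hk] at l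
    exact (mul_left_cancel (mul_left_cancel l)).symm
  have ci : ∀ j < 3, ∀ k < 3, (c j k)⁻¹ = c j k := fun j hj k hk => inv_eq_of_mul_eq_one_right
    ((m.toFr.sq_iff (cQ j hj k hk).1).2 (by rw [(cQ j hj k hk).2]; revert j k; decide +kernel))
  have cn : ∀ j < 3, ∀ k < 3, n * c j k * n⁻¹ = c j k := fun j hj k hk => by
    nth_rewrite 2 [cs j hj k hk]
    rw [← ci k hk j hj, ← ec', ← ec', ← conj_mul, ← conj_mul, ← conj_mul, ← conj_inv, ← conj_inv, nα, eα]; group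
  have F3 : ∀ j < 3, ∀ k < 3, ∀ l < 3, α l * c j k * (α l)⁻¹ = c j k * if j + k + l = 3 ∧ j ≠ k then t else 1 :=
    fun j hj k hk l hl => by
      have h1 := m.EB p ⟨(cQ j hj k hk).1, cP j hj k hk⟩ (r l hl).1.1
      have h2 := m.mul _ (inv_mem (cQ j hj k hk).1) _ (m.cQ (r l hl).1.2 (cQ j hj k hk).1)
      rw [m.inv (cQ j hj k hk).1, (m.ac _ (r l hl).1.2).2 _ (cQ j hj k hk).1, (cQ j hj k hk).2, (r l hl).2.1,
        (by decide +kernel : ∀ j < 3, ∀ k < 3, ∀ l < 3, vm 8 (2 ^ (7 - k)) (ν (sv (2 ^ j))) ^^^ 2 ^ (7 - k) ^^^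
          vm 8 (vm 8 (2 ^ (7 - k)) (ν (sv (2 ^ j))) ^^^ 2 ^ (7 - k)) (ν (sv (2 ^ l))) =
          if j + k + l = 3 ∧ j ≠ k then 16 else 0) j hj k hk l hl] at h2
      rw [← inv_mul_eq_iff_eq_mul, αi l hl]
      nth_rewrite 1 [← αi l hl]
      split_ifs at h2 ⊢
      · exact h1.resolve_left fun k => by simp [k, m.one] at h2
      · exact h1.resolve_right fun k => by simp [k, m.pt p hT] at h2
  refine ⟨fun i => [a, c 0 1, c 0 2, c 1 2, t, e 2, e 1, e 0].getD i 1, α, n, ?_⟩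
  refine ⟨m, fun i hi => ?_, nn, nz, br, fun j hj => ?_, fun i hi => ?_, fun j hj => ⟨(r j hj).1.2, (r j hj).2.1⟩, fun j hj i hi => ?_⟩
  · have k := fun j hj k hk => (cQ j hj k hk).1
    have l := fun j hj k hk => (cQ j hj k hk).2
    interval_cases i
    exacts [⟨ha, ea⟩, ⟨k 0 (by omega) 1 (by omega), (l 0 (by omega) 1 (by omega)).trans (by decide +kernel)⟩,
      ⟨k 0 (by omega) 2 (by omega), (l 0 (by omega) 2 (by omega)).trans (by decide +kernel)⟩,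
      ⟨k 1 (by omega) 2 (by omega), (l 1 (by omega) 2 (by omega)).trans (by decide +kernel)⟩,
      ⟨p.tQ, m.pt p hT⟩, ⟨he 2, ee 2⟩, ⟨he 1, ee 1⟩, ⟨he 0, ee 0⟩]
  · interval_cases j <;> exact eα _
  · interval_cases i <;> exact cn _ (by omega) _ (by omega)
  · have a1 := (r j hj).2.2.1
    have a2 := conj_eq_iff.2 (p.r.zc (r j hj).1.1)
    have a3 := F3 0 (by omega) 1 (by omega) j hj
    have a4 := F3 0 (by omega) 2 (by omega) j hj
    have a5 := F3 1 (by omega) 2 (by omega) j hj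
    have a6 : c j j = 1 := by rw [← ec', conj_eq_iff.2 (r j hj).2.2.2, mul_inv_cancel]
    have a7 := cs 1 (by omega) 0 (by omega)
    have a8 := cs 2 (by omega) 0 (by omega)
    have a9 := cs 2 (by omega) 1 (by omega)
    rw [el, (by decide +kernel : ∀ j < 3, ∀ i < 8, fld 9 (nth 0 AL j) i >>> 8 = 0) j hj i hi]
    interval_cases j <;> interval_cases i <;> simp +decide [chi_succ, F1, a1, a2, a3, a4, a5, a6, a7, a8, a9,
      show ∀ g c, chi (G := G) g 0 c = 1 from fun _ _ => rfl]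

end Mt

end CF.LX4
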