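import Cfsg.Agent.LX4.O3

/-! The Steinberg generators and their relations. -/

set_option autoImplicit false
set_option maxRecDepth 1000000
set_option synthInstance.maxSize 2000
set_option linter.unusedSectionVars false

namespace CF.LX4
open Cfsg Subgroup CF.Loc CF.Even CF.LX CF.J4 CF.Comp CF.Dce CF.MonU Equiv Equiv.Perm
open CF.ThR (q8 b8 el qm apq el_pow el_shl el_zero)

/-- the action of a word on the codes -/
noncomputable def aw (w : List ℕ) (c : ℕ) : ℕ := List.rec (motive := fun _ => ℕ) c (fun x _ r => apq (nth 0 AL x) r) w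

variable {G : Type*} [Group G]

theorem cyc3 {x u v w : G} (a : x * u * x⁻¹ = v) (b : x * v * x⁻¹ = w) (c : x * w * x⁻¹ = u) :
    x ^ 3 * u = u * x ^ 3 ∧ x ^ 3 * v = v * x ^ 3 ∧ x ^ 3 * w = w * x ^ 3 := by
  have k : ∀ y, x ^ 3 * y * (x ^ 3)⁻¹ = x * (x * (x * y * x⁻¹) * x⁻¹) * x⁻¹ := fun y => by
    simp only [pow_succ, pow_zero, one_mul]; group
  exact ⟨conj_eq_iff.1 (by rw [k, a, b, c]), conj_eq_iff.1 (by rw [k, b, c, a]), conj_eq_iff.1 (by rw [k, c, a, b])⟩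

/-- the opposite root elements -/
structure Oy (Q : Subgroup G) (z : G) (Φ : G → Γ3) (π : G → ℕ) (q α β : ℕ → G) (n : G) : Prop
    extends Ox Q z Φ π q α n where
  βH : ∀ j < 3, β j ∈ 𝐂₁(z) ∧ Φ (β j) = pv (swap 1 2) (2 ^ j)
  βa : ∀ j < 3, ∀ i < 8, β j * q i * (β j)⁻¹ = el q z (fld 9 (nth 0 AL (j + 3)) i)

/-- the relations -/
structure Rl (α β : ℕ → G) (a n : G) : Prop where
  aa : a * a = 1
  nn : n * n = 1
  br : a * n * a = n * a * n
  r1 : ∀ j < 3, α j * α j = 1 ∧ β j * β j = 1 ∧ (α j * β j) ^ 3 = 1 ∧ α j * (a * n * a) = a * n * a * α j ∧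
    β j * a = a * β j ∧ a * α j * a * α j = n * α j * n ∧ α j * β j * α j * a * (α j * β j * α j) = n * α j * n ∧
    (α j * β j * α j * n) ^ 3 = 1
  r2 : ∀ j < 3, ∀ k < 3, j ≠ k → α j * α k = α k * α j ∧ β j * β k = β k * β j ∧ α j * β k = β k * α j

variable [Finite G] {Q : Subgroup G} {z n : G} {Φ : G → Γ3} {π : G → ℕ} {q α β : ℕ → G}

local notation "H" => 𝐂₁(z)

theorem exact_lift (F : ThR.Fr Q z π) (hq : ∀ i < 8, q i ∈ Q ∧ π (q i) = 2 ^ i) {y : G} {M A : ℕ} (a : Ac 8 Q π y M)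
    (h1 : ∀ i < 8, fld 9 A i % 256 = vm 8 (2 ^ i) M)
    (h2 : ∀ l < 8, ∀ i < 8, b8 (vm 8 (2 ^ i) M) (vm 8 (2 ^ (l ^^^ 4)) M % 256) = if i = l then 1 else 0) :
    ∀ l ≤ 8, ∃ u ∈ Q, ∀ i < l, (y * u)⁻¹ * q i * (y * u) = el q z (fld 9 A i) := fun l => by
  induction l with
  | zero => exact fun _ => ⟨1, one_mem _, by simp⟩
  | succ l ih =>
    intro hl
    obtain ⟨u, hu, k⟩ := ih (by omega)
    have a := F.ac_mul a hu
    have m := fun i (hi : i < 8) => norm_mem a.1 (hq i hi).1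
    rcases F.eq_or (F.el_mem hq _) (m l hl) (by rw [F.π_el hq, a.2 _ (hq l hl).1, (hq l hl).2, h1 l hl]) with e | e
    · exact ⟨u, hu, fun i hi => (Nat.lt_succ_iff_lt_or_eq.1 hi).elim (k i) fun l => l ▸ e⟩
    · have d := F.el_mem hq (vm 8 (2 ^ (l ^^^ 4)) M)
      refine ⟨_, mul_mem hu d, fun i hi => ?_⟩
      have hi' : i < 8 := by omega
      rw [show ∀ v, (y * (u * v))⁻¹ * q i * (y * (u * v)) = v⁻¹ * ((y * u)⁻¹ * q i * (y * u)) * v from fun v => by group,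
        F.conj (m i hi') d, a.2 _ (hq i hi').1, (hq i hi').2, F.π_el hq, h2 l hl i hi']
      split_ifs with e'
      · rw [e', e, pow_one, mul_assoc, F.zz, mul_one]
      · rw [k i (by omega), pow_zero, mul_one]

theorem el_inj (F : ThR.Fr Q z π) (hq : ∀ i < 8, q i ∈ Q ∧ π (q i) = 2 ^ i) {c d : ℕ} (hc : c < 512) (hd : d < 512)
    (e : el q z c = el q z d) : c = d := by
  have k := congrArg π e
  have l : ∀ c < 512, el q z c = el q z (c % 256) * z ^ (c / 256) := fun c hc => by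
    rw [← el_shl q, F.el_mul hq, (by decide +kernel : ∀ c < 512, qm (c % 256) ((c / 256) <<< 8) = c) c hc]
  rw [F.π_el hq, F.π_el hq] at k
  rw [l c hc, l d hd, k] at e
  have := zp_inj F.zz F.z_ne (by omega) (by omega) (mul_left_cancel e)
  omega

theorem LQ.odd3 (l : LQ Q z) {y u : G} (y3 : y ^ 3 = 1) (u3 : u ^ 3 = 1) (hu : u ∈ H) (e : y = u ∨ y = u * z) : y = u :=
  e.resolve_right fun e => l.z_ne (by
    rwa [e, (show Commute u z from mem_c1.1 hu).mul_pow, u3, one_mul, pow_succ, sq, l.zz, one_mul] at y3)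

namespace Ox
variable (h : Ox Q z Φ π q α n)
include h

theorem ni : n⁻¹ = n := inv_eq_of_mul_eq_one_right h.nn

theorem n2 {x y : G} (e : n * x * n⁻¹ = y) : n * y * n⁻¹ = x := by
  rw [← e, h.ni, ← mul_assoc, ← mul_assoc, h.nn, one_mul, mul_assoc, h.nn, mul_one]

theorem qc {i j : ℕ} (hi : i < 8) (hj : j < 8) (e : i ^^^ j ≠ 4) : q i * q j = q j * q i :=
  (h.toFr.comm_iff (h.fq i hi).1 (h.fq j hj).1).2 (by
    rw [(h.fq i hi).2, (h.fq j hj).2]
    exact (by decide +kernel : ∀ i < 8, ∀ j < 8, i ^^^ j ≠ 4 → b8 (2 ^ i) (2 ^ j) = 0) i hi j hj e)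

theorem αα {j : ℕ} (hj : j < 3) : α j * α j = 1 := by
  rw [← h.nα j hj, conj_mul, h.toFr.qq h.fq (by omega)]; group

theorem αc {j k : ℕ} (hj : j < 3) (hk : k < 3) : α j * α k = α k * α j := by
  rw [← h.nα j hj, ← h.nα k hk, conj_mul, conj_mul, h.qc (by omega) (by omega)
    ((by decide : ∀ j < 3, ∀ k < 3, 7 - j ^^^ 7 - k ≠ 4) j hj k hk)]

theorem cl_of {x : G} (hx : x ∈ Q) (u : pu (π x) = true) : ∃ k ∈ H, k⁻¹ * n * z * (k⁻¹ * n)⁻¹ = x := by
  obtain ⟨k, hk, e⟩ := h.of_pure (h.fq 4 (by norm_num)).1 (h.fq 4 (by norm_num)).2 hx u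
  exact ⟨k, hk, by rw [← e, ← h.nt]; group⟩

theorem not_cl {j : ℕ} (hj : j < 3) : ¬ IsConj z (α j * z) := fun c => by
  have k := h.fq (7 - j) (by omega)
  have l := h.fq 4 (by norm_num)
  have e := h.mul _ k.1 _ l.1
  rw [k.2, l.2] at e
  have := (h.pure_of (c.trans (isConj_iff.2 ⟨n, by rw [← conj_mul, h.n2 (h.nα j hj), h.nt]⟩)) (mul_mem k.1 l.1)).imp_left
    fun k => (congrArg π k).trans h.toFr.pz
  rw [e] at this
  exact (by decide +kernel : ∀ j < 3, ¬ (2 ^ (7 - j) ^^^ 2 ^ 4 = 0 ∨ pu (2 ^ (7 - j) ^^^ 2 ^ 4) = true)) j hj this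

theorem exists_oy : ∃ β, Oy Q z Φ π q α β n := by
  have : ∀ j < 3, ∃ b, (b ∈ H ∧ Φ b = pv (swap 1 2) (2 ^ j)) ∧
      ∀ i < 8, b * q i * b⁻¹ = el q z (fld 9 (nth 0 AL (j + 3)) i) := fun j hj => by
    obtain ⟨y, hy, e⟩ := h.sur (pv (swap 1 2) (2 ^ j))
    obtain ⟨u, hu, k⟩ := exact_lift h.toFr h.fq (h.ac y hy) (A := nth 0 AL (j + 3))
      (by rw [e]; interval_cases j <;> decide +kernel) (by rw [e]; interval_cases j <;> decide +kernel) 8 le_rfl
    have m := mul_mem hy (h.le_c1 hu)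
    exact ⟨(y * u)⁻¹, ⟨inv_mem m, by rw [h.hom.inv m, h.Φmul hy hu, e]; interval_cases j <;> decide⟩,
      by simpa only [inv_inv] using k⟩
  choose! β h1 h2 using this
  exact ⟨β, h, h1, h2⟩

end Ox

/-- the value of a word -/
def pw (α β : ℕ → G) (w : List ℕ) : G := (w.map fun x => if x < 3 then α x else β (x - 3)).prod

namespace Oy
variable (h : Oy Q z Φ π q α β n)
include h

theorem conj_w {w : List ℕ} (hw : ∀ x ∈ w, x < 6) (c : ℕ) :
    pw α β w ∈ H ∧ pw α β w * el q z c * (pw α β w)⁻¹ = el q z (aw w c) := by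
  induction w with
  | nil => exact ⟨one_mem _, by simp [pw, aw]⟩
  | cons x w ih =>
    obtain ⟨a, b⟩ := ih fun y hy => hw y (List.mem_cons_of_mem _ hy)
    have hx := hw x List.mem_cons_self
    have : (if x < 3 then α x else β (x - 3)) ∈ H ∧ ∀ i < 8, (if x < 3 then α x else β (x - 3)) * q i *
        (if x < 3 then α x else β (x - 3))⁻¹ = el q z (fld 9 (nth 0 AL x) i) := by
      split_ifs with e
      · exact ⟨(h.αH x e).1, h.αa x e⟩
      · have := h.βa (x - 3) (by omega)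
        rw [Nat.sub_add_cancel (by omega)] at this
        exact ⟨(h.βH _ (by omega)).1, this⟩
    rw [show pw α β (x :: w) = (if x < 3 then α x else β (x - 3)) * pw α β w from List.prod_cons]
    exact ⟨mul_mem this.1 a, by
      rw [show aw (x :: w) c = apq (nth 0 AL x) (aw w c) from rfl, ← h.toFr.conj_el h.fq this.1 this.2, ← b]; group⟩

theorem same {u w : List ℕ} (k : (∀ x ∈ u, x < 6) ∧ (∀ x ∈ w, x < 6) ∧ ∀ i < 8, aw u (2 ^ i) = aw w (2 ^ i)) :
    pw α β u = pw α β w ∨ pw α β u = pw α β w * z :=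
  (h.toFr.cent_of h.fq (mul_mem (inv_mem (h.conj_w k.2.1 0).1) (h.conj_w k.1 0).1) fun i hi => by
    have a := (h.conj_w k.1 (2 ^ i)).2
    rw [k.2.2 i hi, ← (h.conj_w k.2.1 (2 ^ i)).2, el_pow q z hi] at a
    calc _ = (pw α β w)⁻¹ * (pw α β u * q i * (pw α β u)⁻¹) * pw α β w := by group
      _ = _ := by rw [a]; group).imp (fun e => (inv_mul_eq_one.1 e).symm) inv_mul_eq_iff_eq_mul.1

theorem exists_cube : ∃ β, Oy Q z Φ π q α β n ∧ ∀ j < 3, (α j * β j) ^ 3 = 1 := by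
  have : ∀ j < 3, ∃ b, (b = β j ∨ b = β j * z) ∧ (α j * b) ^ 3 = 1 := fun j hj => by
    have := h.same (u := [j, j + 3, j, j + 3, j, j + 3]) (w := []) (by revert j; decide +kernel)
    simp only [pw, List.map_cons, List.map_nil, List.prod_cons, List.prod_nil, hj, if_true, mul_one, one_mul,
      Nat.add_sub_cancel, show ¬ j + 3 < 3 by omega, if_false] at this
    rw [show α j * (β j * (α j * (β j * (α j * β j)))) = (α j * β j) ^ 3 by simp [pow_succ, mul_assoc]] at this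
    refine this.elim (fun e => ⟨_, .inl rfl, e⟩) fun e => ⟨_, .inr rfl, ?_⟩
    rw [← mul_assoc, (show Commute (α j * β j) z from mem_c1.1 (mul_mem (h.αH j hj).1 (h.βH j hj).1)).mul_pow, e,
      pow_succ z, sq, h.zz, one_mul, h.zz]
  choose! b h1 h2 using this
  refine ⟨b, ⟨h.toOx, fun j hj => ?_, fun j hj i hi => ?_⟩, h2⟩ <;> rcases h1 j hj with e | e <;> rw [e]
  exacts [h.βH j hj, ⟨mul_mem (h.βH j hj).1 (mem_c1.2 rfl), (h.Φmul (h.βH j hj).1 h.mem).trans (h.βH j hj).2⟩,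
    h.βa j hj i hi, by rw [← h.βa j hj i hi, mul_assoc (β j), ← h.zc (h.fq i hi).1]; group]

variable (c3 : ∀ j < 3, (α j * β j) ^ 3 = 1)
include c3

theorem ββ {j : ℕ} (hj : j < 3) : β j * β j = 1 := by
  have := h.same (u := [j + 3, j]) (w := [j, j + 3, j, j + 3]) (by revert j; decide +kernel)
  simp only [pw, List.map_cons, List.map_nil, List.prod_cons, List.prod_nil, hj, if_true, mul_one,
    Nat.add_sub_cancel, show ¬ j + 3 < 3 by omega, if_false] at this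
  have m := mul_mem (h.αH j hj).1 (h.βH j hj).1
  have c := c3 j hj
  have := LQ.odd3 h.toLQ (by rw [show β j * α j = (α j)⁻¹ * (α j * β j) * (α j)⁻¹⁻¹ by group, conj_pow, c]; group)
    (by rw [← mul_assoc, ← sq, ← pow_mul, mul_comm, pow_mul, c, one_pow]) (by rw [← mul_assoc]; exact mul_mem m m) this
  rw [pow_succ, pow_two, mul_assoc (α j) (β j), ← this, mul_assoc, ← mul_assoc (α j), h.αα hj, one_mul] at c
  exact c

theorem fixy {j x : ℕ} (hj : j < 3) (hx : x < 6) (e : x % 3 ≠ j) :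
    pw α β [x] * (α j * β j) = α j * β j * pw α β [x] := by
  have i : pw α β [x] * pw α β [x] = 1 := by
    simp only [pw, List.map_cons, List.map_nil, List.prod_cons, List.prod_nil, mul_one]
    split_ifs with l
    exacts [h.αα l, h.ββ c3 (by omega)]
  have := h.same (u := [x, j, j + 3, x]) (w := [j, j + 3])
    (by interval_cases j <;> interval_cases x <;> first | omega | decide +kernel)
  simp only [pw, List.map_cons, List.map_nil, List.prod_cons, List.prod_nil, hj, if_true, mul_one,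
    Nat.add_sub_cancel, show ¬ j + 3 < 3 by omega, if_false] at this i ⊢
  rw [← mul_assoc (α j), ← mul_assoc] at this
  nth_rewrite 2 4 [← inv_eq_of_mul_eq_one_right i] at this
  exact conj_eq_iff.1 (LQ.odd3 h.toLQ (by rw [conj_pow, c3 j hj]; group) (c3 j hj)
    (mul_mem (h.αH j hj).1 (h.βH j hj).1) this)

theorem r2 {j k : ℕ} (hj : j < 3) (hk : k < 3) (e : j ≠ k) : β j * β k = β k * β j ∧ α j * β k = β k * α j := by
  have l : ∀ {j k}, j < 3 → k < 3 → j ≠ k → α j * β k = β k * α j := fun {j k} hj hk e => by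
    have := h.fixy c3 hk (x := j) (by omega) (by omega)
    simp only [pw, List.map_cons, List.map_nil, List.prod_cons, List.prod_nil, hj, if_true, mul_one] at this
    rw [← mul_assoc, h.αc hj hk, mul_assoc, mul_assoc] at this
    exact mul_left_cancel this
  have := h.fixy c3 hk (x := j + 3) (by omega) (by omega)
  simp only [pw, List.map_cons, List.map_nil, List.prod_cons, List.prod_nil, mul_one, Nat.add_sub_cancel,
    show ¬ j + 3 < 3 by omega, if_false] at this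
  rw [← mul_assoc, ← l hk hj e.symm, mul_assoc, mul_assoc] at this
  exact ⟨mul_left_cancel this, l hj hk e⟩

theorem braid {j : ℕ} (hj : j < 3) : (α j * β j * α j * n) ^ 3 = 1 := by
  obtain ⟨m, em⟩ : ∃ m, α j * β j * α j = m := ⟨_, rfl⟩
  have a := fun c => h.conj_w (w := [j, j + 3, j]) (by simp; omega) c
  simp only [pw, List.map_cons, List.map_nil, List.prod_cons, List.prod_nil, hj, if_true, mul_one,
    Nat.add_sub_cancel, show ¬ j + 3 < 3 by omega, if_false, ← mul_assoc, em] at a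
  have mH := (a 0).1
  have mq : ∀ {i k}, i < 8 ∧ k < 8 ∧ aw [j, j + 3, j] (2 ^ i) = 2 ^ k → m * q i * m⁻¹ = q k := fun {i k} e => by
    rw [← el_pow q z e.1, (a _).2, e.2.2, el_pow q z e.2.1]
  have x : ∀ {u v w}, n * u * n⁻¹ = v → m * v * m⁻¹ = w → m * n * u * (m * n)⁻¹ = w := fun e e' => by
    rw [← e', ← e]; group
  have nf : ∀ i < 4, i ≠ 0 → n * q i * n⁻¹ = q i := fun i hi e => by
    simpa only [Nat.sub_add_cancel (Nat.pos_of_ne_zero e)] using h.nf (i - 1) (by omega)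
  have m1 : m * q 4 * m⁻¹ = q (3 - j) := mq (by interval_cases j <;> decide +kernel)
  have m2 : m * q (3 - j) * m⁻¹ = q 4 := mq (by interval_cases j <;> decide +kernel)
  have t1 := cyc3 (x h.nt m1) (x (nf _ (by omega) (by omega)) m2) (x (h.n2 h.nt) (conj_eq_iff.2 (mem_c1.1 mH)))
  have t0 := (by decide +kernel : ∀ j < 3, ∀ k < 3, j ≠ k → (7 - k < 8 ∧ j + k < 8 ∧
    aw [j, j + 3, j] (2 ^ (7 - k)) = 2 ^ (j + k)) ∧ j + k < 8 ∧ 7 - k < 8 ∧ aw [j, j + 3, j] (2 ^ (j + k)) = 2 ^ (7 - k)) j hj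
  have t2 := fun k (hk : k < 3) (e : j ≠ k) => cyc3 (x (h.n2 (h.nα k hk)) (mq (t0 k hk e).1))
    (x (nf _ (by omega) (by omega)) (mq (t0 k hk e).2)) (x (h.nα k hk) (conj_eq_iff.2 (by
      rw [← em, mul_assoc, h.αc hj hk, mul_assoc, ← mul_assoc (β j), ← (h.r2 c3 hk hj e.symm).2, ← mul_assoc, ← mul_assoc,
        h.αc hj hk]; group)))
  have mm : m * m = 1 := by
    rw [← em, mul_assoc, mul_assoc, ← mul_assoc (α j) (α j * _), ← mul_assoc (α j) (α j), h.αα hj, one_mul,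
      ← mul_assoc (β j), h.ββ c3 hj, one_mul, h.αα hj]
  have mi := inv_eq_of_mul_eq_one_right mm
  rw [em]
  obtain ⟨w, ew⟩ : ∃ w, (m * n) ^ 3 = w := ⟨_, rfl⟩
  have wn : n * w * n⁻¹ = w⁻¹ := by rw [← ew, ← conj_pow, ← inv_pow, mul_inv_rev, mi, h.ni, mul_assoc, mul_assoc, h.nn, mul_one]
  have wm : m * w * m⁻¹ = w⁻¹ := by
    rw [← ew, ← conj_pow, ← inv_pow, mul_inv_rev, ← mul_assoc, mm, one_mul, h.ni]
  have cw : IsConj n (m * w) := isConj_iff.2 ⟨n * m, by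
    rw [← ew, mul_inv_rev, mi, h.ni, pow_succ', ← mul_assoc, ← mul_assoc m, ← mul_assoc m, mm, one_mul, sq]; group⟩
  rw [ew] at t1 t2 ⊢
  have wH := mem_c1.2 t1.1
  have wq : ∀ i < 8, i ≠ 0 → i ≠ 7 - j → q i * w = w * q i := fun i hi a b => by
    rcases (by decide : ∀ j < 3, ∀ i < 8, i ≠ 0 → i ≠ 7 - j → i = 3 - j ∨ i = 4 ∨ ∃ k < 3, j ≠ k ∧ (i = j + k ∨ i = 7 - k))
      j hj i hi a b with rfl | rfl | ⟨k, hk, e, rfl | rfl⟩
    exacts [t1.2.1.symm, t1.2.2.symm, (t2 k hk e).2.1.symm, (t2 k hk e).2.2.symm]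
  have wQ : w ∈ Q := (h.kr w wH).1 ((by decide +kernel : ∀ j < 3, ∀ γ, (∀ i < 8, i ≠ 0 → i ≠ 7 - j →
    vm 8 (2 ^ i) (ν γ) = 2 ^ i) → γ = 1) j hj _ fun i hi a b => (h.fq i hi).2 ▸ h.fix (h.fq i hi).1 wH (wq i hi a b))
  obtain ⟨c, hc, rfl⟩ := h.toFr.el_surj h.fq wQ
  have k := (by decide +kernel : ∀ j < 3, ∀ c < 512, (∀ i < 8, i ≠ 0 → i ≠ 7 - j → b8 (2 ^ i) (c % 256) = 0) →
    q8 (c % 256) = 0 ∧ (aw [j, j + 3, j] c = c → c = 0 ∨ c = 1 <<< 8 ∨ c = qm (2 ^ (3 - j)) (2 ^ 4) ∨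
      c = qm (qm (2 ^ (3 - j)) (2 ^ 4)) (1 <<< 8)) ∧ aw [j, j + 3, j] c < 512) j hj c hc fun i hi a b => by
      rw [← (h.fq i hi).2, ← h.toFr.π_el h.fq]; exact (h.toFr.comm_iff (h.fq i hi).1 wQ).1 (wq i hi a b)
  rw [inv_eq_of_mul_eq_one_right ((h.toFr.sq_iff wQ).2 (by rw [h.toFr.π_el h.fq, k.1]))] at wn wm
  have tz : q 4 ≠ z := fun e => by simpa [e, h.toFr.pz] using (h.fq 4 (by norm_num)).2
  rcases k.2.1 (el_inj h.toFr h.fq k.2.2 hc ((a c).2.symm.trans wm)) with rfl | rfl | rfl | rfl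
  · exact el_zero q z
  · rw [el_shl, pow_one, h.nt] at wn
    exact absurd wn tz
  · rw [← h.toFr.el_mul h.fq, el_pow q z (by omega), el_pow q z (by omega), ← conj_mul, nf _ (by omega) (by omega),
      h.n2 h.nt] at wn
    exact absurd (mul_left_cancel wn).symm tz
  · rw [← h.toFr.el_mul h.fq, ← h.toFr.el_mul h.fq, el_pow q z (by omega), el_pow q z (by omega), el_shl, pow_one] at cw
    obtain ⟨k, -, e⟩ := h.cl_of (h.fq 0 (by norm_num)).1 (by rw [(h.fq 0 (by norm_num)).2]; rfl)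
    have aa := h.toFr.qq h.fq (i := 0) (by norm_num)
    refine absurd ((isConj_iff.2 ⟨_, e⟩).trans ((isConj_iff.2 ⟨q 0 * n, ?_⟩).trans (cw.trans
      (isConj_iff.2 ⟨α j * β j * q 4, ?_⟩)))) (h.not_cl hj)
    · rw [mul_inv_rev, h.ni, mul_assoc (q 0), ← mul_assoc, mul_assoc (q 0), ← h.br, ← mul_assoc, ← mul_assoc, aa]; group
    · have l := h.fq 4 (by norm_num)
      calc _ = α j * β j * (q 4 * (m * q (3 - j) * m⁻¹) * m * (q 4 * z * (q 4)⁻¹)) * (α j * β j)⁻¹ := by group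
        _ = α j * β j * m * (α j * β j)⁻¹ * z := by
          rw [m2, h.toFr.qq h.fq (by norm_num), conj_eq_iff.2 (h.zc l.1), mul_assoc _ (α j * β j)⁻¹ z,
            mem_c1.1 (inv_mem (mul_mem (h.αH j hj).1 (h.βH j hj).1))]; group
        _ = (α j * β j) ^ 3 * α j * z := by
          rw [← em, mul_inv_rev, inv_eq_of_mul_eq_one_right (h.αα hj), inv_eq_of_mul_eq_one_right (h.ββ c3 hj)]
          simp only [pow_succ, pow_zero, one_mul, mul_assoc]
        _ = _ := by rw [c3 j hj, one_mul]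

theorem rl : Rl α β (q 0) n := by
  have aa := h.toFr.qq h.fq (i := 0) (by norm_num)
  refine ⟨aa, h.nn, h.br, fun j hj => ?_, fun j hj k hk e => ⟨h.αc hj hk, h.r2 c3 hj hk e⟩⟩
  have e := h.n2 (h.nα j hj)
  have a := (h.conj_w (w := [j, j + 3, j]) (by simp; omega) (2 ^ 0)).2
  have b := h.αa j hj 0 (by norm_num)
  have c := h.βa j hj 0 (by norm_num)
  obtain ⟨k1, k2, k3⟩ := (by decide +kernel : ∀ j < 3, aw [j, j + 3, j] (2 ^ 0) = 2 ^ (7 - j) ∧
    fld 9 (nth 0 AL j) 0 = qm (2 ^ 0) (2 ^ (7 - j)) ∧ fld 9 (nth 0 AL (j + 3)) 0 = 2 ^ 0) j hj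
  simp only [pw, List.map_cons, List.map_nil, List.prod_cons, List.prod_nil, hj, if_true, mul_one, Nat.add_sub_cancel,
    show ¬ j + 3 < 3 by omega, if_false, k1, el_pow q z (show 0 < 8 by omega), el_pow q z (show 7 - j < 8 by omega),
    mul_inv_rev, inv_eq_of_mul_eq_one_right (h.αα hj), inv_eq_of_mul_eq_one_right (h.ββ c3 hj), ← mul_assoc] at a
  rw [k2, ← h.toFr.el_mul h.fq, el_pow q z (by omega), el_pow q z (by omega), inv_eq_of_mul_eq_one_right (h.αα hj)] at b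
  rw [k3, el_pow q z (by omega)] at c
  rw [h.ni] at e
  refine ⟨h.αα hj, h.ββ c3 hj, c3 j hj, ?_, conj_eq_iff.1 c, ?_, by simpa only [e, ← mul_assoc] using a, h.braid c3 hj⟩
  · rw [h.br, ← h.nα j hj]
    nth_rewrite 4 6 [← h.ni]
    rw [conj_mul, conj_mul, h.qc (by omega) (by omega) (by interval_cases j <;> decide)]
  · rw [e, mul_assoc, mul_assoc, ← mul_assoc (α j), b, ← mul_assoc, aa, one_mul]

end Oy

end CF.LX4
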