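import Cfsg.Agent.LX4.O4
import Cfsg.Agent.LX4.O5
import Cfsg.Agent.XT.Top2
import Cfsg.Agent.LX4.Iso

/-! Recognition of the orthogonal group. -/

set_option autoImplicit false
set_option maxRecDepth 1000000
set_option synthInstance.maxSize 2000
set_option linter.unusedSectionVars false

namespace CF.LX4

section
open Cfsg Subgroup MulAction CF.ZD CF.BG CF.Bender CF.LX CF.XT

theorem cent_le' {G : Type*} [Group G] [Finite G] {K A : Subgroup G} {z u x : G} (h : ZC z K) (AH : A ≤ K)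
    (sq : ∀ x ∈ A, x * x = 1) (hu : u ∈ A) (nA : ∀ g ∈ K, g * u = u * g → g ∈ normalizer (A : Set G)) (hx : x ∈ A)
    (c1 : IsConj z x) (c2 : IsConj z (x * u)) (ar : ∀ E ≤ A, u ∈ E → (∀ e ∈ E, ¬ IsConj z e) →
      ¬ ∀ y ∈ A, IsConj z y → ∃ e ∈ E, IsConj z (y * e) ∧ IsConj z (y * e * u)) : centralizer {u} ≤ K := by
  intro g hg
  by_contra ng
  obtain ⟨E, ⟨EA, uE, q, nq, hq⟩, mE⟩ := Set.Finite.exists_maximal (Set.toFinite
    {E : Subgroup G | E ≤ A ∧ u ∈ E ∧ ∃ q ≠ pt K, E ≤ stabilizer G q}) ⟨zpowers u, zpowers_le.2 hu, mem_zpowers u,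
      g • pt K, mt smul_pt.1 ng, zpowers_le.2 (comm_smul (mem_c1.1 hg) (smul_pt.2 (AH hu)))⟩
  have mx : ∀ y ∈ A, y ∉ E → ∀ q, E ≤ stabilizer G q → y • q = q → q = pt K := fun y hy n q k l => by_contra fun c =>
    n (mE ⟨sup_le EA (zpowers_le.2 hy), mem_sup_left uE, q, c, sup_le k (zpowers_le.2 l)⟩ le_sup_left
      (mem_sup_right (mem_zpowers y)))
  obtain ⟨d, hd, dE⟩ := h.exists_cent (piGrp_of_isPGroup Nat.prime_two (fun x => ⟨1, Subtype.ext (by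
    simpa [pow_two] using sq _ (EA x.2))⟩ : IsPGroup 2 E)) hq
  have zE : ∀ x ∈ E, ¬ IsConj z x := fun x k hx => nq (h.uniq hx (smul_pt.2 (AH (EA k))) q (hq k))
  refine ar E EA uE zE fun y hy c => ?_
  obtain ⟨g, k, -, e⟩ := trans_cos sq EA (stab_pt.ge.trans' AH) (fun g hg e => nA g (smul_pt.1 e) (hg u uE).symm) mx dE
    (fun e => nq (h.uniq hd.mem e q hd.fix)) hx (fun k => zE _ k c1) hy fun k => zE _ k c
  refine ⟨_, inv_mem e, ?_⟩
  rw [mul_inv_rev, inv_inv, mul_inv_cancel_left]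
  exact ⟨cl_conj c1 g, by rw [← conj_eq_iff.2 (k u uE).symm, conj_mul]; exact cl_conj c2 g⟩

end

open Cfsg Subgroup CF.Loc CF.Even CF.LX CF.J4 CF.Comp CF.Dce CF.MonU Equiv Equiv.Perm
open CF.ThR (q8 b8 el qm apq el_pow el_shl el_zero conj_chi)

/-- the codes of the elements of an elementary abelian group -/
noncomputable def ix (j s : ℕ) : ℕ := vm 10 s (nth 0 [0x801000400400880, 0x801000400800840, 0x801000400801020] j)

/-- the singular vectors -/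
def sg6 (s : ℕ) : Bool := Nat.testBit 0x6ac0953f953f953e s

variable {G : Type*} [Group G]

/-- the generators -/
def gf (α β : ℕ → G) (a n : G) (i j k x : ℕ) : G := [α i, β i, a, a * n * a, α j, β j, α k, β k].getD x 1

theorem Rl.rels {α β : ℕ → G} {a n : G} (h : Rl α β a n) {i j k : ℕ} (hi : i < 3) (hj : j < 3) (hk : k < 3) (e1 : i ≠ j)
    (e2 : i ≠ k) (e3 : j ≠ k) : ∀ r ∈ Om.RO, ev (gf α β a n i j k) r = 1 := by
  generalize e : gf α β a n i j k = f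
  have f2 : evL f 5 = a := (evL_odd f 2).trans (e ▸ rfl)
  have f3 : evL f 7 = a * n * a := (evL_odd f 3).trans (e ▸ rfl)
  have i2 : ∀ {x : G}, x * x = 1 → ∀ y, x * (x * y) = y := fun e y => by rw [← mul_assoc, e, one_mul]
  have bb : a * n * a * (a * n * a) = 1 := by simp only [mul_assoc, i2 h.aa, i2 h.nn, h.aa]
  have cm : ∀ {x y : G}, x * x = 1 → y * y = 1 → x * y = y * x → x * (y * (x * y)) = 1 := fun a b c => by
    rw [c, i2 b, a]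
  have r1 : ∀ {x l}, l < 3 → f x = α l → f (x + 1) = β l → ∀ r ∈ Om.R1 x, ev f r = 1 := fun {x l} hl a b => by
    obtain ⟨k1, k2, k3, k4, k5, k6, k7, k8⟩ := h.r1 l hl
    simp only [Om.R1, List.forall_mem_cons, List.not_mem_nil, false_imp_iff, implies_true, and_true, ev_cons, ev_nil,
      evL_odd, a, b, f2, f3, mul_one]
    have s : n * α l * n * (n * α l * n) = 1 := by simp only [mul_assoc, i2 k1, i2 h.nn, h.nn]
    refine ⟨k1, k2, by simpa only [pow_succ, pow_zero, one_mul, mul_assoc] using k3, cm k1 bb k4, cm k2 h.aa k5, ?_, ?_,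
      by simpa only [pow_succ, pow_zero, one_mul, mul_assoc, i2 h.aa, h.aa, mul_one] using k8⟩
    · nth_rewrite 1 [← k6] at s
      simpa only [mul_assoc, i2 h.aa, h.aa, mul_one] using s
    · nth_rewrite 1 [← k6, ← k7] at s
      simpa only [mul_assoc] using s
  have r2 : ∀ {x y l m}, l < 3 → m < 3 → l ≠ m → f x = α l → f (x + 1) = β l → f y = α m → f (y + 1) = β m →
      ∀ r ∈ Om.R2 x y, ev f r = 1 := fun {x y l m} hl hm e a b c d => by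
    simp only [Om.R2, List.forall_mem_cons, List.not_mem_nil, false_imp_iff, implies_true, and_true, ev_cons, ev_nil,
      evL_odd, a, b, c, d, mul_one]
    exact ⟨cm (h.r1 l hl).1 (h.r1 m hm).1 (h.r2 l hl m hm e).1, cm (h.r1 l hl).2.1 (h.r1 m hm).2.1 (h.r2 l hl m hm e).2.1,
      cm (h.r1 l hl).1 (h.r1 m hm).2.1 (h.r2 l hl m hm e).2.2, cm (h.r1 m hm).1 (h.r1 l hl).2.1 (h.r2 m hm l hl e.symm).2.2⟩
  simp only [Om.RO, List.forall_mem_append]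
  refine ⟨⟨⟨⟨⟨⟨?_, r1 hi (e ▸ rfl) (e ▸ rfl)⟩, r1 hj (e ▸ rfl) (e ▸ rfl)⟩, r1 hk (e ▸ rfl) (e ▸ rfl)⟩,
    r2 hi hj e1 (e ▸ rfl) (e ▸ rfl) (e ▸ rfl) (e ▸ rfl)⟩, r2 hi hk e2 (e ▸ rfl) (e ▸ rfl) (e ▸ rfl) (e ▸ rfl)⟩,
    r2 hj hk e3 (e ▸ rfl) (e ▸ rfl) (e ▸ rfl) (e ▸ rfl)⟩
  simp only [List.forall_mem_cons, List.not_mem_nil, false_imp_iff, implies_true, and_true, ev_cons, ev_nil, f2, f3,
    mul_one]
  refine ⟨h.aa, bb, ?_⟩
  nth_rewrite 2 [h.br]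
  simp only [mul_assoc, i2 h.aa, i2 h.nn, h.nn, mul_one, h.aa]

theorem Rl.clo_gf {α β : ℕ → G} {a n : G} (h : Rl α β a n) {i j k : ℕ} (hi : i < 3) (hj : j < 3) (hk : k < 3)
    (e : ∀ l < 3, l = i ∨ l = j ∨ l = k) :
    clo (gf α β a n i j k) (gensW 8) = closure {x | x = a ∨ x = n ∨ ∃ l < 3, x = α l ∨ x = β l} := by
  refine le_antisymm (clo_le.2 fun w _ => ev_mem (fun x => ?_) w) ((closure_le _).2 ?_)
  · have := fun x hx => subset_closure (k := {x | x = a ∨ x = n ∨ ∃ l < 3, x = α l ∨ x = β l}) (a := x) hx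
    have a1 := fun l hl => this _ (.inr (.inr ⟨l, hl, .inl rfl⟩))
    have a2 := fun l hl => this _ (.inr (.inr ⟨l, hl, .inr rfl⟩))
    have a3 := this _ (.inl rfl)
    rcases x with _ | _ | _ | _ | _ | _ | _ | _ | x
    exacts [a1 i hi, a2 i hi, a3, mul_mem (mul_mem a3 (this _ (.inr (.inl rfl)))) a3, a1 j hj, a2 j hj, a1 k hk, a2 k hk,
      one_mem _]
  · have := fun x (hx : x < 8) => ev_single (gf α β a n i j k) x ▸ ev_mem_clo (gf α β a n i j k) (mem_gensW hx)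
    rintro _ (rfl | rfl | ⟨l, hl, k⟩)
    · exact this 2 (by norm_num)
    · have m := mul_mem (mul_mem (this 2 (by norm_num)) (this 3 (by norm_num))) (this 2 (by norm_num))
      rwa [show ∀ u, gf α β a u i j k 2 * gf α β a u i j k 3 * gf α β a u i j k 2 = a * a * u * (a * a) from
        fun u => by simp [gf, mul_assoc], h.aa, one_mul, mul_one] at m
    · rcases e l hl with rfl | rfl | rfl <;> rcases k with rfl | rfl
      exacts [this 0 (by norm_num), this 1 (by norm_num), this 4 (by norm_num), this 5 (by norm_num),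
        this 6 (by norm_num), this 7 (by norm_num)]

variable [Finite G] {Q K : Subgroup G} {z n : G} {Φ : G → Γ3} {π : G → ℕ} {q α β : ℕ → G}

local notation "H" => 𝐂₁(z)

theorem two_zp {x : G} (h : x * x = 1) : IsPGroup 2 (zpowers x) := isPGroup_iff_forall.2 fun y ⟨m, e⟩ =>
  ⟨1, by rw [← e, pow_one, ← zpow_natCast, ← zpow_mul, mul_comm, zpow_mul, zpow_natCast, sq, h, one_zpow]⟩

theorem cen_cj {x g : G} (hg : g ∈ K) (h : 𝐂₁(x) ≤ K) : 𝐂₁(g * x * g⁻¹) ≤ K := fun y hy => by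
  refine (mul_mem_cancel_left (inv_mem hg)).1 ((mul_mem_cancel_right hg).1 (h (mem_c1.2 ?_)))
  calc _ = g⁻¹ * (y * (g * x * g⁻¹)) * g := by group
    _ = _ := by rw [mem_c1.1 hy]; group

namespace Ox
variable (h : Ox Q z Φ π q α n)
include h

theorem cmq {j i l : ℕ} (k : j < 3 ∧ i < 8 ∧ l < 8 ∧ fld 9 (nth 0 AL j) i = qm (2 ^ i) (2 ^ l) ∧ i ^^^ l ≠ 4) :
    α j * q i * α j * q i = q l := by
  have := h.αa j k.1 i k.2.1
  rw [k.2.2.2.1, ← h.toFr.el_mul h.fq, el_pow q z k.2.1, el_pow q z k.2.2.1, inv_eq_of_mul_eq_one_right (h.αα k.1)] at this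
  rw [this, h.qc k.2.1 k.2.2.1 k.2.2.2.2, mul_assoc, h.toFr.qq h.fq k.2.1, mul_one]

theorem red {x : G} (hx : x ∈ H) (xx : x * x = 1) :
    ∃ k ∈ H, k * x * k⁻¹ ∈ Q ∨ ∃ τ < 8, τ ≠ 0 ∧ ∃ ε < 2, k * x * k⁻¹ = chi α 3 τ * z ^ ε := by
  obtain ⟨k, hk, e⟩ := h.norm (zpowers_le.2 hx) (two_zp xx)
  have hy := mul_mem (mul_mem hk hx) (inv_mem hk)
  obtain ⟨τ, hτ, e⟩ := (by decide : ∀ γ ∈ TL3, ∃ τ < 8, γ = sv τ) _ (e x (mem_zpowers x))
  rcases eq_or_ne τ 0 with rfl | n0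
  · exact ⟨k, hk, .inl ((h.kr _ hy).1 e)⟩
  have C : Cd Nat.xor 0 (fun _ => false) fun g c => g ∈ H ∧ c < 8 ∧ Φ g = sv c :=
    ⟨⟨one_mem _, by norm_num, h.hom.one⟩, fun a b => ⟨mul_mem a.1 b.1, Nat.xor_lt_two_pow (n := 3) a.2.1 b.2.1, by
      rw [h.hom _ a.1 _ b.1, a.2.2, b.2.2]
      exact (by decide : ∀ a < 8, ∀ b < 8, sv a * sv b = sv (Nat.xor a b)) _ a.2.1 _ b.2.1⟩, fun _ k => by simp at k⟩
  obtain ⟨s1, -, s2⟩ := C.chi (E := (2 ^ ·)) (fun j hj => ⟨(h.αH j hj).1, Nat.pow_lt_pow_right one_lt_two hj, (h.αH j hj).2⟩) τ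
  rw [(by decide +kernel : ∀ τ < 8, chiC Nat.xor 0 (2 ^ ·) 3 τ = τ) τ hτ] at s2
  have si : (chi α 3 τ)⁻¹ = chi α 3 τ := inv_eq_of_mul_eq_one_right (by
    rw [← chi_xor (fun i hi => h.αα hi) fun i hi j hj => h.αc hi hj, Nat.xor_self, chi_zero])
  have hr := h.div_mem s1 hy (s2.trans e.symm)
  have yy : k * x * k⁻¹ * (k * x * k⁻¹) = 1 := by rw [conj_mul, xx]; group
  obtain ⟨r, er⟩ : ∃ r, (chi α 3 τ)⁻¹ * (k * x * k⁻¹) = r := ⟨_, rfl⟩
  rw [er] at hr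
  rw [inv_mul_eq_iff_eq_mul] at er
  have c := (h.ac _ s1).2
  rw [s2] at c
  obtain ⟨d, hd, e⟩ := (by decide +kernel : ∀ τ < 8, τ ≠ 0 → ∀ c < 256, vm 8 c (ν (sv τ)) = c →
    ∃ d < 256, vm 8 d (ν (sv τ)) ^^^ c ^^^ d = 0) τ hτ n0 _ (h.lt r hr) (by
      rw [← c r hr, si, eq_inv_of_mul_eq_one_left (by rw [← yy, er]; group : chi α 3 τ * r * chi α 3 τ * r = 1), h.inv hr])
  obtain ⟨u, hu, rfl⟩ := h.surj d hd
  have m := h.cQ s1 hu
  rw [← c u hu, ← h.mul _ m _ hr, ← h.inv hu, ← h.mul _ (mul_mem m hr) _ (inv_mem hu),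
    h.ker _ (mul_mem (mul_mem m hr) (inv_mem hu)), h.mem_z] at e
  refine ⟨u * k, mul_mem (h.le_c1 hu) hk, .inr ⟨τ, hτ, n0, ?_⟩⟩
  rw [show u * k * x * (u * k)⁻¹ = chi α 3 τ * ((chi α 3 τ)⁻¹ * u * (k * x * k⁻¹) * u⁻¹) by group, er, ← mul_assoc _ _ r]
  exact e.elim (fun e => ⟨0, two_pos, by rw [e, pow_zero]⟩) fun e => ⟨1, one_lt_two, by rw [e, pow_one]⟩

theorem red2 {x : G} (hx : x ∈ H) (c : IsConj z x) :
    ∃ k ∈ H, k * x * k⁻¹ = z ∨ k * x * k⁻¹ = q 4 ∨ ∃ j < 3, k * x * k⁻¹ = α j := by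
  have l := h.fq 4 (by norm_num)
  obtain ⟨k, hk, e | ⟨τ, hτ, n0, ε, hε, e⟩⟩ := h.red hx (by
    obtain ⟨g, rfl⟩ := isConj_iff.1 c
    rw [conj_mul, h.zz]; group)
  · refine (h.pure_of (c.trans (isConj_iff.2 ⟨k, rfl⟩)) e).elim (fun e => ⟨k, hk, .inl e⟩) fun u => ?_
    obtain ⟨g, hg, e⟩ := h.of_pure l.1 l.2 e u
    exact ⟨g * k, mul_mem hg hk, .inr (.inl (by rw [← mul_left_inj g, ← mul_right_inj g⁻¹, ← mul_assoc g⁻¹ (q 4), e]; group))⟩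
  obtain ⟨s1, s2⟩ := h.toFr.cdx.chi (g := fun j => n * α j * n⁻¹) (n := 3) (E := fun j => 2 ^ (7 - j))
    (fun j hj => h.n2 (h.nα j hj) ▸ h.fq _ (by omega)) τ
  have m : q 4 ^ ε ∈ Q ∧ π (q 4 ^ ε) = 16 * ε := by interval_cases ε <;> simp [h.one, l]
  have := h.pure_of (c.trans (isConj_iff.2 ⟨n * k, by
    rw [← conj_chi, ← h.nt, conj_pow, conj_mul, ← e]; group⟩)) (mul_mem s1 m.1)
  replace this := this.imp_left fun k => (congrArg π k).trans h.toFr.pz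
  rw [h.mul _ s1 _ m.1, s2, m.2] at this
  obtain ⟨rfl, j, hj, rfl⟩ := (by decide +kernel : ∀ τ < 8, τ ≠ 0 → ∀ ε < 2,
    chiC Nat.xor 0 (fun j => 2 ^ (7 - j)) 3 τ ^^^ 16 * ε = 0 ∨ pu (chiC Nat.xor 0 (fun j => 2 ^ (7 - j)) 3 τ ^^^ 16 * ε) = true →
    ε = 0 ∧ ∃ j < 3, τ = 2 ^ j) τ hτ n0 ε hε this
  exact ⟨k, hk, .inr (.inr ⟨j, hj, by rw [e, chi_pow α hj, pow_zero, mul_one]⟩)⟩

theorem fus (hK : H ≤ K) (hn : n ∈ K) {x : G} (hx : x ∈ K) (c : IsConj z x) : ∃ m ∈ K, m * z * m⁻¹ = x := by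
  obtain ⟨T, hT⟩ := exists_isSyl 2 H
  obtain ⟨g, hg, e⟩ := ((h.isSyl_top hT).mono (hT.le.trans hK) le_top).exists_cj_le (two_zp (by
    obtain ⟨g, rfl⟩ := isConj_iff.1 c
    rw [conj_mul, h.zz]; group)) (zpowers_le.2 hx)
  obtain ⟨k, hk, e⟩ := h.red2 (hT.le (e (conj_mem_cj g (mem_zpowers x)))) (c.trans (isConj_iff.2 ⟨g, rfl⟩))
  obtain ⟨m, hm, e⟩ : ∃ m ∈ K, m * z * m⁻¹ = k * (g * x * g⁻¹) * k⁻¹ := by
    rcases e with e | e | ⟨j, hj, e⟩ <;> rw [e]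
    · exact ⟨1, one_mem _, by simp⟩
    · exact ⟨n, hn, h.nt⟩
    · have l := h.fq (7 - j) (by omega)
      obtain ⟨u, hu, e⟩ := h.cl_of l.1 (by rw [l.2]; interval_cases j <;> rfl)
      exact ⟨n * (u⁻¹ * n), mul_mem hn (mul_mem (inv_mem (hK hu)) hn), by rw [← h.nα j hj, ← e]; group⟩
  exact ⟨g⁻¹ * k⁻¹ * m, mul_mem (mul_mem (inv_mem hg) (inv_mem (hK hk))) hm, by
    rw [← mul_left_inj (k * g)⁻¹, ← mul_right_inj (k * g)]
    calc _ = m * z * m⁻¹ := by group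
      _ = _ := by rw [e]; group⟩

section
variable {j : ℕ} (hj : j < 3)
include hj

local notation "ea" s:max => el q z (ix j s % 512) * α j ^ (ix j s / 512)

theorem ea_α {s : ℕ} (hs : s < 64) : α j * el q z (ix j s % 512) = el q z (ix j s % 512) * α j := conj_eq_iff.1 (by
  rw [h.toFr.conj_el h.fq (h.αH j hj).1 (h.αa j hj), (by decide +kernel : ∀ j < 3, ∀ s < 64,
    apq (nth 0 AL j) (ix j s % 512) = ix j s % 512) j hj s hs])

theorem ea_mul {s u : ℕ} (hs : s < 64) (hu : u < 64) : ea s * ea u = ea (s ^^^ u) := by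
  obtain ⟨a, b⟩ := (by decide +kernel : ∀ j < 3, ∀ s < 64, ∀ u < 64, ix j (s ^^^ u) % 512 = qm (ix j s % 512) (ix j u % 512) ∧
    ix j (s ^^^ u) / 512 = (ix j s / 512) ^^^ (ix j u / 512)) j hj s hs u hu
  rw [a, b, ← h.toFr.el_mul h.fq, zp_xor (h.αα hj), mul_assoc, ← mul_assoc (α j ^ _),
    ((show Commute _ _ from h.ea_α hj hu).pow_left _).eq]
  group

theorem ea_cl {s : ℕ} (hs : s < 64) : IsConj z (ea s) ↔ sg6 s = true := by
  have m := h.toFr.el_mem h.fq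
  rcases (by decide +kernel : ∀ j < 3, ∀ s < 64, ix j s / 512 = 0 ∧ (sg6 s = true ↔ ix j s % 512 = 1 <<< 8 ∨
    pu (ix j s % 512 % 256) = true) ∨ ix j s / 512 = 1 ∧ ∃ r < 256, qm r (ix j s % 512) =
      qm ((if sg6 s = true then 0 else 1) <<< 8) (apq (nth 0 AL j) r)) j hj s hs with ⟨a, b⟩ | ⟨a, r, -, b⟩
  · rw [a, b, pow_zero, mul_one, ← h.toFr.π_el h.fq]
    refine ⟨fun c => (h.pure_of c (m _)).imp_left fun e => el_inj h.toFr h.fq (Nat.mod_lt _ (by norm_num)) (by decide)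
      (by rw [e, el_shl, pow_one]), fun e => e.elim (fun e => by rw [e, el_shl, pow_one]) fun e => ?_⟩
    obtain ⟨k, -, e⟩ := h.cl_of (m _) e
    exact isConj_iff.2 ⟨_, e⟩
  · have e := congrArg (el q z) b
    rw [← h.toFr.el_mul h.fq, ← h.toFr.el_mul h.fq, ← h.toFr.conj_el h.fq (h.αH j hj).1 (h.αa j hj), el_shl] at e
    have : IsConj (ea s) (α j * z ^ if sg6 s = true then 0 else 1) := isConj_iff.2 ⟨el q z r, by
      rw [a, pow_one, ← mul_assoc, e, ← h.toFr.zpc (h.αH j hj).1]; group⟩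
    split_ifs at this with c
    · have l := h.fq (7 - j) (by omega)
      obtain ⟨u, -, e⟩ := h.cl_of l.1 (by rw [l.2]; interval_cases j <;> rfl)
      exact iff_of_true ((isConj_iff.2 ⟨n * (u⁻¹ * n), by rw [← h.nα j hj, ← e]; group⟩).trans this.symm) c
    · exact iff_of_false (fun k => h.not_cl hj (by simpa using k.trans this)) c

theorem mem_A {x : G} : x ∈ centralizer {y | ∃ i < 6, y = ea (2 ^ i)} ↔ ∃ s < 64, x = ea s := by
  refine ⟨fun hx => ?_, ?_⟩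
  · have k := fun i hi => hx _ ⟨i, hi, rfl⟩
    have k0 := (by decide +kernel : ∀ j < 3, ∀ i < 5, ix j (2 ^ i) / 512 = 0) j hj
    have xH : x ∈ H := mem_c1.2 (by
      have := k 4 (by norm_num)
      rwa [k0 4 (by norm_num), pow_zero, mul_one, (by decide +kernel : ∀ j < 3, ix j (2 ^ 4) % 512 = 1 <<< 8) j hj, el_shl,
        pow_one, eq_comm] at this)
    replace k : ∀ i < 4, el q z (ix j (2 ^ i) % 512) * x = x * el q z (ix j (2 ^ i) % 512) := fun i hi => by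
      simpa only [k0 i (by omega), pow_zero, mul_one] using k i (by omega)
    have m := h.toFr.el_mem h.fq
    obtain ⟨b, hb, e⟩ := (by decide +kernel : ∀ j < 3, ∀ γ, (∀ i < 4, vm 8 (ix j (2 ^ i) % 512 % 256) (ν γ) =
      ix j (2 ^ i) % 512 % 256) → ∃ b < 2, γ = sv (2 ^ j) ^ b) j hj (Φ x) fun i hi => by
        rw [← h.toFr.π_el h.fq]; exact h.fix (m _) xH (k i hi)
    have aH := pow_mem (h.αH j hj).1 b
    obtain ⟨c, hc, e⟩ := h.toFr.el_surj h.fq ((h.kr _ (mul_mem xH (inv_mem aH))).1 (by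
      rw [h.hom _ xH _ (inv_mem aH), h.hom.inv aH, h.hom.pow (h.αH j hj).1, (h.αH j hj).2, e, mul_inv_cancel]))
    obtain ⟨s, hs, e1, e2⟩ := (by decide +kernel : ∀ j < 3, ∀ c < 512, (∀ i < 4, b8 (ix j (2 ^ i) % 512 % 256) (c % 256) = 0) →
      ∀ b < 2, ∃ s < 64, ix j s % 512 = c ∧ ix j s / 512 = b) j hj c hc (fun i hi => by
        rw [← h.toFr.π_el h.fq, ← h.toFr.π_el h.fq c, ← h.toFr.comm_iff (m _) (m _), ← e]
        exact (show Commute _ x from k i hi).mul_right ((show Commute _ _ from h.ea_α hj (Nat.pow_lt_pow_right one_lt_two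
          (show i < 6 by omega))).symm.pow_right b).inv_right) b hb
    exact ⟨s, hs, by rw [e1, e2, ← e, inv_mul_cancel_right]⟩
  · rintro ⟨s, hs, rfl⟩ _ ⟨i, hi, rfl⟩
    have l := Nat.pow_lt_pow_right one_lt_two hi
    rw [h.ea_mul hj l hs, h.ea_mul hj hs l, Nat.xor_comm]

theorem cent_u (zc : ZD.ZC z K) (hK : H ≤ K) (nA : ∀ g ∈ K, g * (α j * z) = α j * z * g → ∀ i < 6, ∀ l < 6,
    g * ea (2 ^ i) * g⁻¹ * ea (2 ^ l) = ea (2 ^ l) * (g * ea (2 ^ i) * g⁻¹)) : 𝐂₁(α j * z) ≤ K := by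
  have e0 : ∀ {s c b}, ix j s % 512 = c <<< 8 ∧ ix j s / 512 = b → ea s = α j ^ b * z ^ c := fun e => by
    rw [e.1, e.2, el_shl, h.toFr.zpc (pow_mem (h.αH j hj).1 _)]
  have eu : ea 48 = α j * z := by simpa using e0 (s := 48) (c := 1) (b := 1) (by interval_cases j <;> decide +kernel)
  have sq : ∀ x ∈ centralizer {y | ∃ i < 6, y = ea (2 ^ i)}, x * x = 1 := fun x hx => by
    obtain ⟨s, hs, rfl⟩ := (h.mem_A hj).1 hx
    rw [h.ea_mul hj hs hs, Nat.xor_self]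
    simpa using e0 (s := 0) (c := 0) (b := 0) (by interval_cases j <;> decide +kernel)
  have x6 := fun {a b : ℕ} => Nat.xor_lt_two_pow (x := a) (y := b) (n := 6)
  have m := fun s hs => (h.mem_A hj).2 ⟨s, hs, rfl⟩
  refine cent_le' zc (fun x hx => ?_) sq (eu ▸ m 48 (by norm_num)) (fun g hg c => mem_normalizer_fintype fun x hx => ?_)
    (m 16 (by norm_num)) ((h.ea_cl hj (by norm_num)).2 rfl) ?_ fun E EA uE n k => ?_
  · obtain ⟨s, -, rfl⟩ := (h.mem_A hj).1 hx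
    exact hK (mul_mem (h.le_c1 (h.toFr.el_mem h.fq _)) (pow_mem (h.αH j hj).1 _))
  · rintro _ ⟨i, hi, rfl⟩
    have := Invol.commute_of_forall_mul_self sq hx (y := g⁻¹ * ea (2 ^ i) * g⁻¹⁻¹) (by
      rintro _ ⟨l, hl, rfl⟩
      exact (nA _ (inv_mem hg) (Commute.inv_left c) i hi l hl).symm)
    calc _ = g * (g⁻¹ * ea (2 ^ i) * g⁻¹⁻¹ * x) * g⁻¹ := by group
      _ = _ := by rw [← this.eq]; group
  · rw [← eu, h.ea_mul hj (by norm_num) (by norm_num)]; exact (h.ea_cl hj (by decide)).2 rfl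
  · rw [← eu] at uE k
    have k' : ∀ y < 64, sg6 y = true → ∃ e < 64, ea e ∈ E ∧ sg6 (y ^^^ e) = true ∧ sg6 (y ^^^ e ^^^ 48) = true :=
      fun y hy c => by
        obtain ⟨e, he, c⟩ := k _ (m y hy) ((h.ea_cl hj hy).2 c)
        obtain ⟨s, hs, rfl⟩ := (h.mem_A hj).1 (EA he)
        rw [h.ea_mul hj hy hs, h.ea_mul hj (x6 hy hs) (by norm_num), h.ea_cl hj (x6 hy hs),
          h.ea_cl hj (x6 (x6 hy hs) (by norm_num))] at c
        exact ⟨s, hs, he, c⟩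
    have n' : ∀ {e}, e < 64 → ea e ∈ E → ¬ sg6 e = true ∧ ¬ sg6 (e ^^^ 48) = true := fun he k =>
      ⟨fun c => n _ k ((h.ea_cl hj he).2 c), fun c => n _ (mul_mem k uE) (by
        rwa [h.ea_mul hj he (by norm_num), h.ea_cl hj (x6 he (by norm_num))])⟩
    obtain ⟨b, hb, b1, b2⟩ := k' 8 (by norm_num) rfl
    obtain ⟨y, hy, y1, y2⟩ := (by decide +kernel : ∀ b < 64, ¬ sg6 b = true ∧ ¬ sg6 (b ^^^ 48) = true →
      sg6 (8 ^^^ b) = true ∧ sg6 (8 ^^^ b ^^^ 48) = true → ∃ y < 64, sg6 y = true ∧ ∀ e < 64,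
        sg6 (y ^^^ e) = true ∧ sg6 (y ^^^ e ^^^ 48) = true → ¬ sg6 e = true ∧ ¬ sg6 (e ^^^ 48) = true →
        ¬ (¬ sg6 (e ^^^ b) = true ∧ ¬ sg6 (e ^^^ b ^^^ 48) = true)) b hb (n' hb b1) b2
    obtain ⟨e, he, e1, e2⟩ := k' y hy y1
    exact y2 e he e2 (n' he e1) (n' (x6 he hb) (h.ea_mul hj he hb ▸ mul_mem e1 b1))

end

end Ox

theorem Oy.H_le (h : Oy Q z Φ π q α β n) (ha : q 0 ∈ K) (hn : n ∈ K) (hα : ∀ j < 3, α j ∈ K ∧ β j ∈ K) : H ≤ K := by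
  have a : ∀ j < 3, q (7 - j) ∈ K := fun j hj => h.n2 (h.nα j hj) ▸ mul_mem (mul_mem hn (hα j hj).1) (inv_mem hn)
  have b : ∀ {j i l}, j < 3 ∧ i < 8 ∧ l < 8 ∧ fld 9 (nth 0 AL j) i = qm (2 ^ i) (2 ^ l) ∧ i ^^^ l ≠ 4 → q i ∈ K → q l ∈ K :=
    fun k m => h.cmq k ▸ mul_mem (mul_mem (mul_mem (hα _ k.1).1 m) (hα _ k.1).1) m
  have q3 : q 3 ∈ K := b (j := 1) (by decide +kernel) (a 2 (by norm_num))
  have q4 : q 4 ∈ K := b (j := 0) (by decide +kernel) q3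
  have hq : ∀ i < 8, q i ∈ K := fun i hi => by
    interval_cases i
    exacts [ha, b (j := 0) (by decide +kernel) (a 1 (by norm_num)), b (j := 0) (by decide +kernel) (a 2 (by norm_num)), q3,
      q4, a 2 (by norm_num), a 1 (by norm_num), a 0 (by norm_num)]
  intro g hg
  obtain ⟨k, hk, e⟩ := h.hom.mem_im.1 (mem_of_gn (S := h.hom.im (K ⊓ H) inf_le_right) (fun j hj => h.hom.mem_im.2 (by
    obtain ⟨l, hl, e | e⟩ := (by decide : ∀ j < 6, ∃ l < 3, gn j = sv (2 ^ l) ∨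
      gn j = sv (2 ^ l) * pv (swap 1 2) (2 ^ l)) j hj
    · exact ⟨_, ⟨(hα l hl).1, (h.αH l hl).1⟩, (h.αH l hl).2.trans e.symm⟩
    · exact ⟨_, ⟨K.mul_mem (hα l hl).1 (hα l hl).2, (H).mul_mem (h.αH l hl).1 (h.βH l hl).1⟩, by
        rw [h.hom _ (h.αH l hl).1 _ (h.βH l hl).1, (h.αH l hl).2, (h.βH l hl).2, e]⟩)) (Φ g))
  obtain ⟨c, -, e⟩ := h.toFr.el_surj h.fq (h.div_mem hk.2 hg e)
  exact (K.mul_mem_cancel_left (K.inv_mem hk.1)).1 (e ▸ mul_mem (mul_mem (chi_mem (fun i hi => hq i (by omega)) _)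
    (chi_mem (fun i hi => hq _ (by omega)) _)) (pow_mem (h.n2 h.nt ▸ mul_mem (mul_mem hn q4) (inv_mem hn)) _))

theorem Oy.iso (h : Oy Q z Φ π q α β n) (c3 : ∀ j < 3, (α j * β j) ^ 3 = 1) : Nonempty (G ≃* Om.M8) := by
  have R := h.rl c3
  have a1 : ∀ j < 3, α j ≠ 1 := fun j hj e => by
    have := (h.αH j hj).2
    rw [e, h.hom.one] at this
    interval_cases j <;> exact absurd this (by decide)
  obtain ⟨K, eK⟩ : ∃ K, closure {x | x = q 0 ∨ x = n ∨ ∃ l < 3, x = α l ∨ x = β l} = K := ⟨_, rfl⟩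
  have hn : n ∈ K := eK ▸ subset_closure (.inr (.inl rfl))
  have hK : H ≤ K := h.H_le (eK ▸ subset_closure (.inl rfl)) hn fun j hj =>
    eK ▸ ⟨subset_closure (.inr (.inr ⟨j, hj, .inl rfl⟩)), subset_closure (.inr (.inr ⟨j, hj, .inr rfl⟩))⟩
  obtain ⟨φ, i, e, -⟩ := Om.exists_emb (R.rels (i := 0) (j := 1) (k := 2) (by omega) (by omega) (by omega) (by omega)
    (by omega) (by omega)) (a1 0 (by omega))
  rw [R.clo_gf (by omega) (by omega) (by omega) (by omega), eK] at e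
  refine ⟨(MulEquiv.ofBijective φ ⟨i, MonoidHom.range_eq_top.1 (e.trans (by_contra fun ne => ?_))⟩).symm⟩
  have zc := XT.zc_of h.toLQ hK (fun x => h.fus hK hn) ne
  have := Bt.simple_O8p
  have : IsSimpleGroup K := e ▸ (MonoidHom.ofInjective i).symm.isSimpleGroup
  have m := mul_mem (h.αH 0 (by omega)).1 (mem_c1.2 rfl)
  refine h.not_cl (j := 0) (by omega) (XT.conj_of_zc zc (fun x c n1 c1 => ?_) ?_ ⟨fun e => h.not_cl (j := 0) (by omega) ?_, ?_⟩)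
  · obtain ⟨k, hk, e⟩ := h.red2 (mem_c1.2 c1.symm) c
    rw [show z * x = k⁻¹ * (k * x * k⁻¹ * z) * k⁻¹⁻¹ by rw [mul_assoc _ k⁻¹, mem_c1.1 (inv_mem hk), c1]; group]
    refine cen_cj (inv_mem (hK hk)) ?_
    rcases e with e | e | ⟨j, hj, e⟩ <;> rw [e]
    · exact absurd (by rwa [mul_inv_eq_iff_eq_mul, ← mem_c1.1 hk, mul_right_inj] at e) n1
    · have l := h.fq 4 (by norm_num)
      obtain ⟨u, hu, e⟩ := h.cl_of (mul_mem l.1 h.mem) (by rw [h.mul _ l.1 _ h.mem, l.2, h.toFr.pz]; rfl)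
      exact e ▸ cen_cj (mul_mem (inv_mem (hK hu)) hn) hK
    refine h.cent_u hj zc hK fun g hg c => ?_
    obtain ⟨a, ha, b, hb, k1, k2, k3, k4, k5⟩ := (by decide +kernel : ∀ j < 3, ∃ a < 3, ∃ b < 3, (a ≠ b ∧ a ≠ j ∧ b ≠ j ∧
      ∀ l < 3, l = a ∨ l = b ∨ l = j) ∧ (a < 3 ∧ 7 - j < 8 ∧ a + j < 8 ∧ fld 9 (nth 0 AL a) (7 - j) = qm (2 ^ (7 - j)) (2 ^ (a + j)) ∧
      7 - j ^^^ a + j ≠ 4) ∧ (b < 3 ∧ 7 - j < 8 ∧ b + j < 8 ∧ fld 9 (nth 0 AL b) (7 - j) = qm (2 ^ (7 - j)) (2 ^ (b + j)) ∧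
      7 - j ^^^ b + j ≠ 4) ∧ (a < 3 ∧ b + j < 8 ∧ 4 < 8 ∧ fld 9 (nth 0 AL a) (b + j) = qm (2 ^ (b + j)) (2 ^ 4) ∧
      b + j ^^^ 4 ≠ 4) ∧ ∀ i < 6, ix j (2 ^ i) % 512 = 0 ∧ ix j (2 ^ i) / 512 = 1 ∨ ix j (2 ^ i) / 512 = 0 ∧
        (ix j (2 ^ i) % 512 = 1 <<< 8 ∨ ∃ l ∈ [7 - j, a + j, b + j, 4], l < 8 ∧ ix j (2 ^ i) % 512 = 2 ^ l)) j hj
    obtain ⟨-, -, -, k⟩ := Om.exists_emb (R.rels ha hb hj k1.1 k1.2.1 k1.2.2.1) (a1 a ha)
    rw [R.clo_gf ha hb hj k1.2.2.2, eK] at k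
    generalize e : gf α β (q 0) n a b j = f at k
    have f0 : evL f 1 = α a := (evL_odd f 0).trans (e ▸ rfl)
    have f4 : evL f 9 = α b := (evL_odd f 4).trans (e ▸ rfl)
    have f6 : evL f 13 = α j := (evL_odd f 6).trans (e ▸ rfl)
    have w1 : ev f Om.wn = n := by
      rw [Om.wn, ev_cons, ev_cons, ev_cons, show evL f 5 = q 0 from (evL_odd f 2).trans (e ▸ rfl),
        show evL f 7 = q 0 * n * q 0 from (evL_odd f 3).trans (e ▸ rfl), ev_nil, mul_one, mul_assoc _ _ (q 0), R.aa, mul_one,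
        ← mul_assoc, R.aa, one_mul]
    have w2 : ev f Om.we = q (7 - j) := by rw [Om.we, ev_append, ev_cons, w1, f6, ← h.n2 (h.nα j hj), h.ni, mul_assoc]
    have w0 : ∀ x w, ev f (Om.wc x w) = evL f x * ev f w * evL f x * ev f w := fun x w => by
      simp only [Om.wc, List.cons_append, ev_cons, ev_append, mul_assoc]
    have w3 : ev f (Om.wc 9 Om.we) = q (b + j) := by rw [w0, f4, w2, h.cmq k3]
    have w4 : ev f (Om.wc 1 (Om.wc 9 Om.we)) = q 4 := by rw [w0, f0, w3, h.cmq k4]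
    have w5 : ev f Om.wz = z := by rw [Om.wz, ev_append, ev_append, w1, w4, ← h.n2 h.nt, h.ni]
    have w : ∀ i < 6, ∃ x ∈ Om.WA, el q z (ix j (2 ^ i) % 512) * α j ^ (ix j (2 ^ i) / 512) = ev f x := fun i hi => by
      rcases k5 i hi with ⟨a, b⟩ | ⟨a, b | ⟨l, hl, c, b⟩⟩ <;> rw [a, b]
      · exact ⟨[13], by simp [Om.WA], by simp [el_zero, f6]⟩
      · exact ⟨Om.wz, by simp [Om.WA], by rw [el_shl, w5]; simp⟩
      rw [el_pow q z c, pow_zero, mul_one]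
      simp only [List.mem_cons, List.not_mem_nil, or_false] at hl
      rcases hl with rfl | rfl | rfl | rfl
      exacts [⟨_, by simp [Om.WA], w2.symm⟩, ⟨Om.wc 1 Om.we, by simp [Om.WA], by rw [w0, f0, w2, h.cmq k2]⟩,
        ⟨_, by simp [Om.WA], w3.symm⟩, ⟨_, by simp [Om.WA], w4.symm⟩]
    intro i hi l hl
    obtain ⟨x, hx, e1⟩ := w i hi
    obtain ⟨y, hy, e2⟩ := w l hl
    rw [e1, e2]
    exact k g hg (by rwa [ev_cons, f6, w5]) x hx y hy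
  · exact mem_subgroupOf.1 ((((normalClosure_normal (s := {z})).subgroupOf K).eq_bot_or_eq_top.resolve_left fun k =>
      h.z_ne (congrArg Subtype.val (mem_bot.1 (k.le (show (⟨z, hK (mem_c1.2 rfl)⟩ : K) ∈ _ from
        subset_normalClosure rfl))))).ge (mem_top (⟨_, hK m⟩ : K)))
  · have := h.Φmul (h.αH 0 (by omega)).1 h.mem
    rw [e, h.hom.one, (h.αH 0 (by omega)).2] at this
    exact absurd this (by decide)
  · rw [mul_assoc, ← mul_assoc z, ← mem_c1.1 (h.αH 0 (by omega)).1, mul_assoc, h.zz, mul_one, h.αα (by omega)]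

theorem S33.main (h : S33 Q z Φ) : IsIsolatedInvolution z ∨ Nonempty (G ≃* Om.M8) := by
  refine or_iff_not_imp_right.2 fun n => h.toQt.isolated (fun P t p => n ?_) fun g => h.not_wc (h.cj g)
  obtain ⟨Φ, π, m, hT⟩ := h.exists_mt p
  obtain ⟨q, α, n, a⟩ := m.exists_ox p hT
  obtain ⟨β, b⟩ := a.exists_oy
  obtain ⟨β, b, c⟩ := b.exists_cube
  exact b.iso c

end CF.LX4
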