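import Cfsg.Agent.Comp.MatG
import Cfsg.Agent.Comp.Pres

/-! A presentation and a model of the orthogonal group. -/

set_option autoImplicit false
set_option maxRecDepth 1000000
set_option maxHeartbeats 0
set_option Elab.async false

namespace CF.LX4.Om

open CF.Comp

/-- the relators for one end node -/
def R1 (i : Nat) : List (List Nat) := let A := 2 * i + 1; let B := 2 * (i + 1) + 1
  [[A, A], [B, B], [A, B, A, B, A, B], [A, 7, A, 7], [B, 5, B, 5], [5, A, 5, A, 5, 7, 5, A, 5, 7, 5],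
    [5, A, 5, A, A, B, A, 5, A, B, A], [A, B, A, 5, 7, 5, A, B, A, 5, 7, 5, A, B, A, 5, 7, 5]]

/-- the relators for two end nodes -/
def R2 (i j : Nat) : List (List Nat) := let A := 2 * i + 1; let B := 2 * (i + 1) + 1
  let C := 2 * j + 1; let D := 2 * (j + 1) + 1
  [[A, C, A, C], [B, D, B, D], [A, D, A, D], [C, B, C, B]]

/-- the relators -/
def RO : List (List Nat) := [[5, 5], [7, 7], [5, 7, 5, 7, 5, 7]] ++ R1 0 ++ R1 4 ++ R1 6 ++ R2 0 4 ++ R2 0 6 ++ R2 4 6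

/-- the relators in the first generators -/
def RK (k : Nat) : List (List Nat) := RO.filter fun r => r.all fun x => Nat.ble x (2 * k)

noncomputable def e2_c0 : BT (Bx Nat) := (BT.leaf (Bx.mk (nat_lit 0x0)))
noncomputable def e2_c1 : BT (Bx Nat) := (BT.leaf (Bx.mk (nat_lit 0x391c70e86b861400)))
noncomputable def e2_c2 : BT (Bx Nat) := (BT.leaf (Bx.mk (nat_lit 0x2d4dcea74c321600)))
noncomputable def e2_p : BT (Bx Nat) := (BT.leaf (Bx.mk (nat_lit 0x1c0660c8248490400000)))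
noncomputable def e2_e : BT Nat := BT.leaf (nat_lit 0)
noncomputable def e2_cols : List (BT (Bx Nat)) := [e2_c0, e2_c1, e2_c2]
noncomputable def e2_ch (x j : Nat) : Bx Nat := chunkG e2_cols (nat_lit 1) x j
noncomputable def e2_L (x : Nat) : Bx (Nat → Nat) := lookG e2_ch (nat_lit 8) (nat_lit 255) (nat_lit 9) (nat_lit 511) x
noncomputable def e2_pc (_ j : Nat) : Bx Nat := e2_p.get j
noncomputable def e2_pb : Bx (Nat → Nat) := lookG e2_pc (nat_lit 8) (nat_lit 255) (nat_lit 11) (nat_lit 2047) (nat_lit 0)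
noncomputable def e2_rots : BT CW := (BT.node (nat_lit 3) (BT.node (nat_lit 1) (BT.leaf ⟨[], (nat_lit 1000000), (nat_lit 0), (nat_lit 0), (nat_lit 0)⟩) (BT.node (nat_lit 2) (BT.leaf ⟨[], (nat_lit 1000000), (nat_lit 0), (nat_lit 0), (nat_lit 1)⟩) (BT.leaf ⟨[], (nat_lit 1000000), (nat_lit 0), (nat_lit 0), (nat_lit 2)⟩))) (BT.node (nat_lit 4) (BT.leaf ⟨[(nat_lit 1), (nat_lit 1)], (nat_lit 0), (nat_lit 0), (nat_lit 0), (nat_lit 3)⟩) (BT.node (nat_lit 5) (BT.leaf ⟨[(nat_lit 2), (nat_lit 2)], (nat_lit 1), (nat_lit 0), (nat_lit 0), (nat_lit 3)⟩) (BT.leaf ⟨[(nat_lit 2), (nat_lit 1), (nat_lit 2), (nat_lit 1), (nat_lit 2), (nat_lit 1)], (nat_lit 2), (nat_lit 1), (nat_lit 0), (nat_lit 3)⟩))))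
noncomputable def e2_hcs : List CW := []
noncomputable def e2_H (x j : Nat) : Bx (Nat → Nat → Nat) := mkH e2_L e2_pb.1 e2_e.get (lmap CW.w e2_hcs) (nat_lit 6) (nat_lit 7) (nat_lit 3) (nat_lit 8) (nat_lit 64) (nat_lit 511) x (e2_rots.get j)
noncomputable def e2_F (x b : Nat) : Bool := blkOK e2_H e2_ch (nat_lit 7) (nat_lit 8) (nat_lit 8) (nat_lit 8) (nat_lit 255) (nat_lit 9) (nat_lit 511) x b

theorem e2_k0_0 : allFrom (e2_F (nat_lit 0)) (nat_lit 0) (nat_lit 4) = true := by decide +kernel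
theorem e2_k1_0 : allFrom (e2_F (nat_lit 1)) (nat_lit 0) (nat_lit 4) = true := by decide +kernel
theorem e2_k2_0 : allFrom (e2_F (nat_lit 2)) (nat_lit 0) (nat_lit 4) = true := by decide +kernel

noncomputable def e3_c0 : BT (Bx Nat) := (BT.leaf (Bx.mk (nat_lit 0x0)))
noncomputable def e3_c1 : BT (Bx Nat) := (BT.leaf (Bx.mk (nat_lit 0x1c4aab0bc6400)))
noncomputable def e3_c2 : BT (Bx Nat) := (BT.leaf (Bx.mk (nat_lit 0x2b3c323ac6400)))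
noncomputable def e3_c3 : BT (Bx Nat) := (BT.leaf (Bx.mk (nat_lit 0x14b292a1c2800)))
noncomputable def e3_p : BT (Bx Nat) := (BT.leaf (Bx.mk (nat_lit 0x6c290290c00000)))
noncomputable def e3_e0 : BT Nat := (BT.node (nat_lit 66) (BT.leaf (nat_lit 262146)) (BT.leaf (nat_lit 2)))
noncomputable def e3_e : BT Nat := e3_e0
noncomputable def e3_cols : List (BT (Bx Nat)) := [e3_c0, e3_c1, e3_c2, e3_c3]
noncomputable def e3_ch (x j : Nat) : Bx Nat := chunkG e3_cols (nat_lit 1) x j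
noncomputable def e3_L (x : Nat) : Bx (Nat → Nat) := lookG e3_ch (nat_lit 8) (nat_lit 255) (nat_lit 10) (nat_lit 1023) x
noncomputable def e3_pc (_ j : Nat) : Bx Nat := e3_p.get j
noncomputable def e3_pb : Bx (Nat → Nat) := lookG e3_pc (nat_lit 8) (nat_lit 255) (nat_lit 11) (nat_lit 2047) (nat_lit 0)
noncomputable def e3_rots : BT CW := (BT.node (nat_lit 4) (BT.node (nat_lit 2) (BT.node (nat_lit 1) (BT.leaf ⟨[], (nat_lit 1000000), (nat_lit 0), (nat_lit 0), (nat_lit 0)⟩) (BT.leaf ⟨[], (nat_lit 1000000), (nat_lit 0), (nat_lit 0), (nat_lit 1)⟩)) (BT.node (nat_lit 3) (BT.leaf ⟨[], (nat_lit 1000000), (nat_lit 0), (nat_lit 0), (nat_lit 2)⟩) (BT.leaf ⟨[(nat_lit 3), (nat_lit 3)], (nat_lit 0), (nat_lit 0), (nat_lit 0), (nat_lit 3)⟩))) (BT.node (nat_lit 6) (BT.node (nat_lit 5) (BT.leaf ⟨[(nat_lit 1), (nat_lit 1)], (nat_lit 1), (nat_lit 0), (nat_lit 0), (nat_lit 3)⟩)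 (BT.leaf ⟨[(nat_lit 2), (nat_lit 2)], (nat_lit 2), (nat_lit 0), (nat_lit 0), (nat_lit 3)⟩)) (BT.node (nat_lit 7) (BT.leaf ⟨[(nat_lit 2), (nat_lit 3), (nat_lit 2), (nat_lit 3)], (nat_lit 4), (nat_lit 0), (nat_lit 0), (nat_lit 3)⟩) (BT.node (nat_lit 8) (BT.leaf ⟨[(nat_lit 1), (nat_lit 2), (nat_lit 1), (nat_lit 2), (nat_lit 1), (nat_lit 2)], (nat_lit 3), (nat_lit 0), (nat_lit 0), (nat_lit 3)⟩) (BT.leaf ⟨[(nat_lit 3), (nat_lit 1), (nat_lit 3), (nat_lit 1), (nat_lit 1), (nat_lit 2), (nat_lit 1), (nat_lit 3), (nat_lit 1), (nat_lit 2), (nat_lit 1)], (nat_lit 5), (nat_lit 0), (nat_lit 0), (nat_lit 3)⟩)))))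
noncomputable def e3_hcs : List CW := [⟨[(nat_lit 2)], (nat_lit 0), (nat_lit 0), (nat_lit 0), (nat_lit 0)⟩, ⟨[(nat_lit 1)], (nat_lit 1), (nat_lit 0), (nat_lit 0), (nat_lit 0)⟩, ⟨[(nat_lit 2)], (nat_lit 2), (nat_lit 0), (nat_lit 0), (nat_lit 0)⟩, ⟨[(nat_lit 1)], (nat_lit 3), (nat_lit 0), (nat_lit 0), (nat_lit 0)⟩]
noncomputable def e3_H (x j : Nat) : Bx (Nat → Nat → Nat) := mkH e3_L e3_pb.1 e3_e.get (lmap CW.w e3_hcs) (nat_lit 4) (nat_lit 5) (nat_lit 4) (nat_lit 8) (nat_lit 128) (nat_lit 511) x (e3_rots.get j)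
noncomputable def e3_F (x b : Nat) : Bool := blkOK e3_H e3_ch (nat_lit 5) (nat_lit 8) (nat_lit 16) (nat_lit 8) (nat_lit 255) (nat_lit 10) (nat_lit 1023) x b

theorem e3_k0_0 : allFrom (e3_F (nat_lit 0)) (nat_lit 0) (nat_lit 4) = true := by decide +kernel
theorem e3_k1_0 : allFrom (e3_F (nat_lit 1)) (nat_lit 0) (nat_lit 4) = true := by decide +kernel
theorem e3_k2_0 : allFrom (e3_F (nat_lit 2)) (nat_lit 0) (nat_lit 4) = true := by decide +kernel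
theorem e3_k3_0 : allFrom (e3_F (nat_lit 3)) (nat_lit 0) (nat_lit 4) = true := by decide +kernel

noncomputable def e4_c0 : BT (Bx Nat) := (BT.leaf (Bx.mk (nat_lit 0x0)))
noncomputable def e4_c1 : BT (Bx Nat) := (BT.leaf (Bx.mk (nat_lit 0x73e80f73b66480d64a819000)))
noncomputable def e4_c2 : BT (Bx Nat) := (BT.leaf (Bx.mk (nat_lit 0x45f64455d52e72a80b819000)))
noncomputable def e4_c3 : BT (Bx Nat) := (BT.leaf (Bx.mk (nat_lit 0x46f73356d73280e80c819000)))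
noncomputable def e4_c4 : BT (Bx Nat) := (BT.leaf (Bx.mk (nat_lit 0x37727e12365428572180a000)))
noncomputable def e4_p : BT (Bx Nat) := (BT.leaf (Bx.mk (nat_lit 0x9816c36c1483482244000000)))
noncomputable def e4_e0 : BT Nat := (BT.node (nat_lit 66) (BT.leaf (nat_lit 524290)) (BT.node (nat_lit 67) (BT.leaf (nat_lit 262146)) (BT.leaf (nat_lit 2))))
noncomputable def e4_e : BT Nat := e4_e0
noncomputable def e4_cols : List (BT (Bx Nat)) := [e4_c0, e4_c1, e4_c2, e4_c3, e4_c4]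
noncomputable def e4_ch (x j : Nat) : Bx Nat := chunkG e4_cols (nat_lit 1) x j
noncomputable def e4_L (x : Nat) : Bx (Nat → Nat) := lookG e4_ch (nat_lit 8) (nat_lit 255) (nat_lit 12) (nat_lit 4095) x
noncomputable def e4_pc (_ j : Nat) : Bx Nat := e4_p.get j
noncomputable def e4_pb : Bx (Nat → Nat) := lookG e4_pc (nat_lit 8) (nat_lit 255) (nat_lit 12) (nat_lit 4095) (nat_lit 0)
noncomputable def e4_rots : BT CW := (BT.node (nat_lit 8) (BT.node (nat_lit 4) (BT.node (nat_lit 2) (BT.node (nat_lit 1) (BT.leaf ⟨[], (nat_lit 1000000), (nat_lit 0), (nat_lit 0), (nat_lit 0)⟩) (BT.leaf ⟨[], (nat_lit 1000000), (nat_lit 0), (nat_lit 0), (nat_lit 1)⟩)) (BT.node (nat_lit 3) (BT.leaf ⟨[], (nat_lit 1000000), (nat_lit 0), (nat_lit 0), (nat_lit 2)⟩) (BT.leaf ⟨[(nat_lit 4), (nat_lit 4)], (nat_lit 1), (nat_lit 0), (nat_lit 0), (nat_lit 3)⟩))) (BT.node (nat_lit 6) (BT.node (nat_lit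 5) (BT.leaf ⟨[(nat_lit 2), (nat_lit 2)], (nat_lit 4), (nat_lit 0), (nat_lit 0), (nat_lit 3)⟩) (BT.leaf ⟨[(nat_lit 3), (nat_lit 3)], (nat_lit 0), (nat_lit 0), (nat_lit 0), (nat_lit 3)⟩)) (BT.node (nat_lit 7) (BT.leaf ⟨[(nat_lit 1), (nat_lit 1)], (nat_lit 3), (nat_lit 0), (nat_lit 0), (nat_lit 3)⟩) (BT.leaf ⟨[(nat_lit 2), (nat_lit 3), (nat_lit 2), (nat_lit 3)], (nat_lit 7), (nat_lit 0), (nat_lit 0), (nat_lit 3)⟩)))) (BT.node (nat_lit 12) (BT.node (nat_lit 10) (BT.node (nat_lit 9) (BT.leaf ⟨[(nat_lit 1), (nat_lit 4), (nat_lit 1), (nat_lit 4)], (nat_lit 6), (nat_lit 0), (nat_lit 0), (nat_lit 3)⟩) (BT.leaf ⟨[(nat_lit 4), (nat_lit 3), (nat_lit 4), (nat_lit 3), (nat_lit 4), (nat_lit 3)], (nat_lit 2), (nat_lit 1), (nat_lit 0), (nat_lit 3)⟩)) (BT.node (nat_lit 11) (BT.leaf ⟨[(nat_lit 2), (nat_lit 1), (nat_lit 2), (nat_lit 1), (nat_lit 2), (nat_lit 1)], (nat_lit 5),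 (nat_lit 1), (nat_lit 0), (nat_lit 3)⟩) (BT.leaf ⟨[(nat_lit 1), (nat_lit 3), (nat_lit 4), (nat_lit 3), (nat_lit 3), (nat_lit 1), (nat_lit 3), (nat_lit 1), (nat_lit 3), (nat_lit 4), (nat_lit 3)], (nat_lit 8), (nat_lit 7), (nat_lit 0), (nat_lit 3)⟩))) (BT.node (nat_lit 14) (BT.node (nat_lit 13) (BT.leaf ⟨[(nat_lit 3), (nat_lit 1), (nat_lit 2), (nat_lit 1), (nat_lit 3), (nat_lit 1), (nat_lit 3), (nat_lit 1), (nat_lit 1), (nat_lit 2), (nat_lit 1)], (nat_lit 9), (nat_lit 7), (nat_lit 0), (nat_lit 3)⟩) (BT.leaf ⟨[(nat_lit 4), (nat_lit 3), (nat_lit 1), (nat_lit 2), (nat_lit 1), (nat_lit 3), (nat_lit 4), (nat_lit 3), (nat_lit 1), (nat_lit 2), (nat_lit 1), (nat_lit 3), (nat_lit 4), (nat_lit 3), (nat_lit 1), (nat_lit 2), (nat_lit 1), (nat_lit 3)], (nat_lit 10), (nat_lit 4), (nat_lit 0), (nat_lit 3)⟩)) (BT.node (nat_lit 15) (BT.leaf ⟨[(nat_lit 4), (nat_lit 1), (nat_lit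 4), (nat_lit 1)], (nat_lit 6), (nat_lit 1), (nat_lit 0), (nat_lit 3)⟩) (BT.leaf ⟨[(nat_lit 4), (nat_lit 3), (nat_lit 3), (nat_lit 1), (nat_lit 3), (nat_lit 1), (nat_lit 3), (nat_lit 4), (nat_lit 3), (nat_lit 1), (nat_lit 3)], (nat_lit 8), (nat_lit 9), (nat_lit 0), (nat_lit 3)⟩)))))
noncomputable def e4_hcs : List CW := [⟨[(nat_lit 3)], (nat_lit 0), (nat_lit 0), (nat_lit 0), (nat_lit 0)⟩, ⟨[(nat_lit 2)], (nat_lit 1), (nat_lit 0), (nat_lit 0), (nat_lit 0)⟩, ⟨[(nat_lit 1)], (nat_lit 2), (nat_lit 0), (nat_lit 0), (nat_lit 0)⟩, ⟨[(nat_lit 3)], (nat_lit 3), (nat_lit 0), (nat_lit 0), (nat_lit 0)⟩, ⟨[(nat_lit 2)], (nat_lit 4), (nat_lit 0), (nat_lit 0), (nat_lit 0)⟩, ⟨[(nat_lit 1)], (nat_lit 5), (nat_lit 0), (nat_lit 0), (nat_lit 0)⟩]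
noncomputable def e4_H (x j : Nat) : Bx (Nat → Nat → Nat) := mkH e4_L e4_pb.1 e4_e.get (lmap CW.w e4_hcs) (nat_lit 7) (nat_lit 8) (nat_lit 5) (nat_lit 8) (nat_lit 256) (nat_lit 511) x (e4_rots.get j)
noncomputable def e4_F (x b : Nat) : Bool := blkOK e4_H e4_ch (nat_lit 8) (nat_lit 8) (nat_lit 32) (nat_lit 8) (nat_lit 255) (nat_lit 12) (nat_lit 4095) x b

theorem e4_k0_0 : allFrom (e4_F (nat_lit 0)) (nat_lit 0) (nat_lit 4) = true := by decide +kernel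
theorem e4_k1_0 : allFrom (e4_F (nat_lit 1)) (nat_lit 0) (nat_lit 4) = true := by decide +kernel
theorem e4_k2_0 : allFrom (e4_F (nat_lit 2)) (nat_lit 0) (nat_lit 4) = true := by decide +kernel
theorem e4_k3_0 : allFrom (e4_F (nat_lit 3)) (nat_lit 0) (nat_lit 4) = true := by decide +kernel
theorem e4_k4_0 : allFrom (e4_F (nat_lit 4)) (nat_lit 0) (nat_lit 4) = true := by decide +kernel

noncomputable def e5_c0 : BT (Bx Nat) := (BT.leaf (Bx.mk (nat_lit 0x0)))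
noncomputable def e5_c1 : BT (Bx Nat) := (BT.leaf (Bx.mk (nat_lit 0x8c874aabd98cf06390a3b0a462000)))
noncomputable def e5_c2 : BT (Bx Nat) := (BT.leaf (Bx.mk (nat_lit 0x48735c4210d6b216669baca462000)))
noncomputable def e5_c3 : BT (Bx Nat) := (BT.leaf (Bx.mk (nat_lit 0x3582a3a4919ca656829484e462000)))
noncomputable def e5_c4 : BT (Bx Nat) := (BT.leaf (Bx.mk (nat_lit 0x2a883a14da0e721790aba8a462000)))
noncomputable def e5_c5 : BT (Bx Nat) := (BT.leaf (Bx.mk (nat_lit 0x10463224861606917422c106424000)))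
noncomputable def e5_p : BT (Bx Nat) := (BT.leaf (Bx.mk (nat_lit 0x15858824409988cc14419114000000)))
noncomputable def e5_e0 : BT Nat := (BT.node (nat_lit 67) (BT.node (nat_lit 66) (BT.leaf (nat_lit 786434)) (BT.leaf (nat_lit 524290))) (BT.node (nat_lit 68) (BT.leaf (nat_lit 262146)) (BT.leaf (nat_lit 2))))
noncomputable def e5_e : BT Nat := e5_e0
noncomputable def e5_cols : List (BT (Bx Nat)) := [e5_c0, e5_c1, e5_c2, e5_c3, e5_c4, e5_c5]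
noncomputable def e5_ch (x j : Nat) : Bx Nat := chunkG e5_cols (nat_lit 1) x j
noncomputable def e5_L (x : Nat) : Bx (Nat → Nat) := lookG e5_ch (nat_lit 8) (nat_lit 255) (nat_lit 13) (nat_lit 8191) x
noncomputable def e5_pc (_ j : Nat) : Bx Nat := e5_p.get j
noncomputable def e5_pb : Bx (Nat → Nat) := lookG e5_pc (nat_lit 8) (nat_lit 255) (nat_lit 13) (nat_lit 8191) (nat_lit 0)
noncomputable def e5_rots : BT CW := (BT.node (nat_lit 10) (BT.node (nat_lit 5) (BT.node (nat_lit 2) (BT.node (nat_lit 1) (BT.leaf ⟨[], (nat_lit 1000000), (nat_lit 0), (nat_lit 0), (nat_lit 0)⟩) (BT.leaf ⟨[], (nat_lit 1000000), (nat_lit 0), (nat_lit 0), (nat_lit 1)⟩)) (BT.node (nat_lit 3) (BT.leaf ⟨[], (nat_lit 1000000), (nat_lit 0), (nat_lit 0), (nat_lit 2)⟩) (BT.node (nat_lit 4) (BT.leaf ⟨[(nat_lit 5), (nat_lit 5)], (nat_lit 11), (nat_lit 0), (nat_lit 0), (nat_lit 3)⟩) (BT.leaf ⟨[(nat_lit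 3), (nat_lit 3)], (nat_lit 0), (nat_lit 0), (nat_lit 0), (nat_lit 3)⟩)))) (BT.node (nat_lit 7) (BT.node (nat_lit 6) (BT.leaf ⟨[(nat_lit 1), (nat_lit 1)], (nat_lit 3), (nat_lit 0), (nat_lit 0), (nat_lit 3)⟩) (BT.leaf ⟨[(nat_lit 4), (nat_lit 4)], (nat_lit 1), (nat_lit 0), (nat_lit 0), (nat_lit 3)⟩)) (BT.node (nat_lit 8) (BT.leaf ⟨[(nat_lit 2), (nat_lit 2)], (nat_lit 4), (nat_lit 0), (nat_lit 0), (nat_lit 3)⟩) (BT.node (nat_lit 9) (BT.leaf ⟨[(nat_lit 1), (nat_lit 4), (nat_lit 1), (nat_lit 4)], (nat_lit 6), (nat_lit 0), (nat_lit 0), (nat_lit 3)⟩) (BT.leaf ⟨[(nat_lit 4), (nat_lit 5), (nat_lit 4), (nat_lit 5)], (nat_lit 12), (nat_lit 1), (nat_lit 0), (nat_lit 3)⟩))))) (BT.node (nat_lit 15) (BT.node (nat_lit 12) (BT.node (nat_lit 11) (BT.leaf ⟨[(nat_lit 2), (nat_lit 5), (nat_lit 2), (nat_lit 5)], (nat_lit 15), (nat_lit 1), (nat_lit 0), (nat_lit 3)⟩) (BT.leaf ⟨[(nat_lit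 1), (nat_lit 5), (nat_lit 1), (nat_lit 5)], (nat_lit 14), (nat_lit 0), (nat_lit 0), (nat_lit 3)⟩)) (BT.node (nat_lit 13) (BT.leaf ⟨[(nat_lit 2), (nat_lit 3), (nat_lit 2), (nat_lit 3)], (nat_lit 7), (nat_lit 0), (nat_lit 0), (nat_lit 3)⟩) (BT.node (nat_lit 14) (BT.leaf ⟨[(nat_lit 3), (nat_lit 4), (nat_lit 3), (nat_lit 4), (nat_lit 3), (nat_lit 4)], (nat_lit 2), (nat_lit 0), (nat_lit 0), (nat_lit 3)⟩) (BT.leaf ⟨[(nat_lit 1), (nat_lit 2), (nat_lit 1), (nat_lit 2), (nat_lit 1), (nat_lit 2)], (nat_lit 5), (nat_lit 0), (nat_lit 0), (nat_lit 3)⟩)))) (BT.node (nat_lit 18) (BT.node (nat_lit 16) (BT.leaf ⟨[(nat_lit 5), (nat_lit 3), (nat_lit 5), (nat_lit 3), (nat_lit 4), (nat_lit 3), (nat_lit 5), (nat_lit 3), (nat_lit 4), (nat_lit 3), (nat_lit 3)], (nat_lit 13), (nat_lit 1), (nat_lit 0), (nat_lit 3)⟩) (BT.node (nat_lit 17) (BT.leaf ⟨[(nat_lit 5), (nat_lit 1), (nat_lit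 5), (nat_lit 1)], (nat_lit 14), (nat_lit 1), (nat_lit 0), (nat_lit 3)⟩) (BT.leaf ⟨[(nat_lit 3), (nat_lit 1), (nat_lit 3), (nat_lit 1), (nat_lit 1), (nat_lit 2), (nat_lit 1), (nat_lit 3), (nat_lit 1), (nat_lit 2), (nat_lit 1)], (nat_lit 9), (nat_lit 0), (nat_lit 0), (nat_lit 3)⟩))) (BT.node (nat_lit 19) (BT.leaf ⟨[(nat_lit 4), (nat_lit 3), (nat_lit 1), (nat_lit 3), (nat_lit 4), (nat_lit 3), (nat_lit 3), (nat_lit 1), (nat_lit 3), (nat_lit 1), (nat_lit 3)], (nat_lit 8), (nat_lit 5), (nat_lit 0), (nat_lit 3)⟩) (BT.node (nat_lit 20) (BT.leaf ⟨[(nat_lit 3), (nat_lit 4), (nat_lit 3), (nat_lit 3), (nat_lit 1), (nat_lit 3), (nat_lit 1), (nat_lit 3), (nat_lit 4), (nat_lit 3), (nat_lit 1)], (nat_lit 8), (nat_lit 8), (nat_lit 0), (nat_lit 3)⟩) (BT.leaf ⟨[(nat_lit 3), (nat_lit 2), (nat_lit 3), (nat_lit 2)], (nat_lit 7), (nat_lit 1), (nat_lit 0), (nat_lit 3)⟩))))))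
noncomputable def e5_hcs : List CW := [⟨[(nat_lit 4)], (nat_lit 0), (nat_lit 0), (nat_lit 0), (nat_lit 0)⟩, ⟨[(nat_lit 3)], (nat_lit 1), (nat_lit 0), (nat_lit 0), (nat_lit 0)⟩, ⟨[(nat_lit 2)], (nat_lit 2), (nat_lit 0), (nat_lit 0), (nat_lit 0)⟩, ⟨[(nat_lit 1)], (nat_lit 3), (nat_lit 0), (nat_lit 0), (nat_lit 0)⟩, ⟨[(nat_lit 4)], (nat_lit 4), (nat_lit 0), (nat_lit 0), (nat_lit 0)⟩, ⟨[(nat_lit 3)], (nat_lit 5), (nat_lit 0), (nat_lit 0), (nat_lit 0)⟩, ⟨[(nat_lit 2)], (nat_lit 6), (nat_lit 0), (nat_lit 0), (nat_lit 0)⟩, ⟨[(nat_lit 1)], (nat_lit 7), (nat_lit 0), (nat_lit 0), (nat_lit 0)⟩]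
noncomputable def e5_H (x j : Nat) : Bx (Nat → Nat → Nat) := mkH e5_L e5_pb.1 e5_e.get (lmap CW.w e5_hcs) (nat_lit 8) (nat_lit 9) (nat_lit 6) (nat_lit 16) (nat_lit 512) (nat_lit 1023) x (e5_rots.get j)
noncomputable def e5_F (x b : Nat) : Bool := blkOK e5_H e5_ch (nat_lit 9) (nat_lit 16) (nat_lit 32) (nat_lit 8) (nat_lit 255) (nat_lit 13) (nat_lit 8191) x b

theorem e5_k0_0 : allFrom (e5_F (nat_lit 0)) (nat_lit 0) (nat_lit 4) = true := by decide +kernel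
theorem e5_k1_0 : allFrom (e5_F (nat_lit 1)) (nat_lit 0) (nat_lit 4) = true := by decide +kernel
theorem e5_k2_0 : allFrom (e5_F (nat_lit 2)) (nat_lit 0) (nat_lit 4) = true := by decide +kernel
theorem e5_k3_0 : allFrom (e5_F (nat_lit 3)) (nat_lit 0) (nat_lit 4) = true := by decide +kernel
theorem e5_k4_0 : allFrom (e5_F (nat_lit 4)) (nat_lit 0) (nat_lit 4) = true := by decide +kernel
theorem e5_k5_0 : allFrom (e5_F (nat_lit 5)) (nat_lit 0) (nat_lit 4) = true := by decide +kernel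

noncomputable def e6_c0 : BT (Bx Nat) := (BT.leaf (Bx.mk (nat_lit 0x0)))
noncomputable def e6_c1 : BT (Bx Nat) := (BT.leaf (Bx.mk (nat_lit 0x793d007d084b8da62d6d270e4ebc9561aed59a00c34d46a26e40a0188000)))
noncomputable def e6_c2 : BT (Bx Nat) := (BT.leaf (Bx.mk (nat_lit 0x5a9ec1ed67eaccc697ce31dc5b314868f4d1e5e39b4c4802ae3ca0188000)))
noncomputable def e6_c3 : BT (Bx Nat) := (BT.leaf (Bx.mk (nat_lit 0x5b5ef229676adac790f0079e42b1a88036f20e00cb954802ce38a0188000)))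
noncomputable def e6_c4 : BT (Bx Nat) := (BT.leaf (Bx.mk (nat_lit 0xc5e24f8d0e90aa62763170b1490557148d4d8b1c345778a5004e0188000)))
noncomputable def e6_c5 : BT (Bx Nat) := (BT.leaf (Bx.mk (nat_lit 0x533eb638efebc6862f6f1958c4c01c78c6d5da00d3c62802f00520188000)))
noncomputable def e6_c6 : BT (Bx Nat) := (BT.leaf (Bx.mk (nat_lit 0x4bdea779e2421ec5b7697692eac01d538e910d024b924540cf1060090000)))
noncomputable def e6_p : BT (Bx Nat) := (BT.leaf (Bx.mk (nat_lit 0xdc0da0ec0d6058e1c516287141662b30d9848854421118000000)))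
noncomputable def e6_e0 : BT Nat := (BT.node (nat_lit 67) (BT.node (nat_lit 66) (BT.leaf (nat_lit 1048578)) (BT.leaf (nat_lit 786434))) (BT.node (nat_lit 68) (BT.leaf (nat_lit 524290)) (BT.node (nat_lit 69) (BT.leaf (nat_lit 262146)) (BT.leaf (nat_lit 2)))))
noncomputable def e6_e : BT Nat := e6_e0
noncomputable def e6_cols : List (BT (Bx Nat)) := [e6_c0, e6_c1, e6_c2, e6_c3, e6_c4, e6_c5, e6_c6]
noncomputable def e6_ch (x j : Nat) : Bx Nat := chunkG e6_cols (nat_lit 1) x j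
noncomputable def e6_L (x : Nat) : Bx (Nat → Nat) := lookG e6_ch (nat_lit 8) (nat_lit 255) (nat_lit 15) (nat_lit 32767) x
noncomputable def e6_pc (_ j : Nat) : Bx Nat := e6_p.get j
noncomputable def e6_pb : Bx (Nat → Nat) := lookG e6_pc (nat_lit 8) (nat_lit 255) (nat_lit 13) (nat_lit 8191) (nat_lit 0)
noncomputable def e6_rots : BT CW := (BT.node (nat_lit 17) (BT.node (nat_lit 8) (BT.node (nat_lit 4) (BT.node (nat_lit 2) (BT.node (nat_lit 1) (BT.leaf ⟨[], (nat_lit 1000000), (nat_lit 0), (nat_lit 0), (nat_lit 0)⟩) (BT.leaf ⟨[], (nat_lit 1000000), (nat_lit 0), (nat_lit 0), (nat_lit 1)⟩)) (BT.node (nat_lit 3) (BT.leaf ⟨[], (nat_lit 1000000), (nat_lit 0), (nat_lit 0), (nat_lit 2)⟩) (BT.leaf ⟨[(nat_lit 6), (nat_lit 6)], (nat_lit 12), (nat_lit 0), (nat_lit 0), (nat_lit 3)⟩))) (BT.node (nat_lit 6) (BT.node (nat_lit 5) (BT.leaf ⟨[(nat_lit 4), (nat_lit 4)], (nat_lit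 1), (nat_lit 0), (nat_lit 0), (nat_lit 3)⟩) (BT.leaf ⟨[(nat_lit 5), (nat_lit 5)], (nat_lit 11), (nat_lit 0), (nat_lit 0), (nat_lit 3)⟩)) (BT.node (nat_lit 7) (BT.leaf ⟨[(nat_lit 2), (nat_lit 2)], (nat_lit 4), (nat_lit 0), (nat_lit 0), (nat_lit 3)⟩) (BT.leaf ⟨[(nat_lit 3), (nat_lit 3)], (nat_lit 0), (nat_lit 0), (nat_lit 0), (nat_lit 3)⟩)))) (BT.node (nat_lit 12) (BT.node (nat_lit 10) (BT.node (nat_lit 9) (BT.leaf ⟨[(nat_lit 1), (nat_lit 1)], (nat_lit 3), (nat_lit 0), (nat_lit 0), (nat_lit 3)⟩) (BT.leaf ⟨[(nat_lit 4), (nat_lit 5), (nat_lit 4), (nat_lit 5)], (nat_lit 14), (nat_lit 1), (nat_lit 0), (nat_lit 3)⟩)) (BT.node (nat_lit 11) (BT.leaf ⟨[(nat_lit 2), (nat_lit 3), (nat_lit 2), (nat_lit 3)], (nat_lit 7), (nat_lit 0), (nat_lit 0), (nat_lit 3)⟩) (BT.leaf ⟨[(nat_lit 2), (nat_lit 5), (nat_lit 2), (nat_lit 5)], (nat_lit 22), (nat_lit 1), (nat_lit 0), (nat_lit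 3)⟩))) (BT.node (nat_lit 14) (BT.node (nat_lit 13) (BT.leaf ⟨[(nat_lit 1), (nat_lit 5), (nat_lit 1), (nat_lit 5)], (nat_lit 19), (nat_lit 0), (nat_lit 0), (nat_lit 3)⟩) (BT.leaf ⟨[(nat_lit 3), (nat_lit 6), (nat_lit 3), (nat_lit 6)], (nat_lit 15), (nat_lit 1), (nat_lit 0), (nat_lit 3)⟩)) (BT.node (nat_lit 15) (BT.leaf ⟨[(nat_lit 2), (nat_lit 6), (nat_lit 2), (nat_lit 6)], (nat_lit 20), (nat_lit 0), (nat_lit 0), (nat_lit 3)⟩) (BT.node (nat_lit 16) (BT.leaf ⟨[(nat_lit 1), (nat_lit 6), (nat_lit 1), (nat_lit 6)], (nat_lit 21), (nat_lit 0), (nat_lit 0), (nat_lit 3)⟩) (BT.leaf ⟨[(nat_lit 1), (nat_lit 4), (nat_lit 1), (nat_lit 4)], (nat_lit 6), (nat_lit 0), (nat_lit 0), (nat_lit 3)⟩)))))) (BT.node (nat_lit 26) (BT.node (nat_lit 21) (BT.node (nat_lit 19) (BT.node (nat_lit 18) (BT.leaf ⟨[(nat_lit 6), (nat_lit 5), (nat_lit 6), (nat_lit 5), (nat_lit 6), (nat_lit 5)],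 (nat_lit 13), (nat_lit 1), (nat_lit 0), (nat_lit 3)⟩) (BT.leaf ⟨[(nat_lit 4), (nat_lit 3), (nat_lit 4), (nat_lit 3), (nat_lit 4), (nat_lit 3)], (nat_lit 2), (nat_lit 1), (nat_lit 0), (nat_lit 3)⟩)) (BT.node (nat_lit 20) (BT.leaf ⟨[(nat_lit 2), (nat_lit 1), (nat_lit 2), (nat_lit 1), (nat_lit 2), (nat_lit 1)], (nat_lit 5), (nat_lit 1), (nat_lit 0), (nat_lit 3)⟩) (BT.leaf ⟨[(nat_lit 3), (nat_lit 5), (nat_lit 6), (nat_lit 5), (nat_lit 3), (nat_lit 5), (nat_lit 3), (nat_lit 5), (nat_lit 5), (nat_lit 6), (nat_lit 5)], (nat_lit 17), (nat_lit 7), (nat_lit 0), (nat_lit 3)⟩))) (BT.node (nat_lit 23) (BT.node (nat_lit 22) (BT.leaf ⟨[(nat_lit 1), (nat_lit 3), (nat_lit 4), (nat_lit 3), (nat_lit 3), (nat_lit 1), (nat_lit 3), (nat_lit 1), (nat_lit 3), (nat_lit 4), (nat_lit 3)], (nat_lit 8), (nat_lit 7), (nat_lit 0), (nat_lit 3)⟩) (BT.leaf ⟨[(nat_lit 5), (nat_lit 3), (nat_lit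 4), (nat_lit 3), (nat_lit 3), (nat_lit 5), (nat_lit 3), (nat_lit 5), (nat_lit 3), (nat_lit 4), (nat_lit 3)], (nat_lit 16), (nat_lit 7), (nat_lit 0), (nat_lit 3)⟩)) (BT.node (nat_lit 24) (BT.leaf ⟨[(nat_lit 5), (nat_lit 2), (nat_lit 5), (nat_lit 2)], (nat_lit 22), (nat_lit 0), (nat_lit 0), (nat_lit 3)⟩) (BT.node (nat_lit 25) (BT.leaf ⟨[(nat_lit 5), (nat_lit 1), (nat_lit 5), (nat_lit 1)], (nat_lit 19), (nat_lit 1), (nat_lit 0), (nat_lit 3)⟩) (BT.leaf ⟨[(nat_lit 3), (nat_lit 1), (nat_lit 2), (nat_lit 1), (nat_lit 3), (nat_lit 1), (nat_lit 3), (nat_lit 1), (nat_lit 1), (nat_lit 2), (nat_lit 1)], (nat_lit 9), (nat_lit 7), (nat_lit 0), (nat_lit 3)⟩))))) (BT.node (nat_lit 30) (BT.node (nat_lit 28) (BT.node (nat_lit 27) (BT.leaf ⟨[(nat_lit 6), (nat_lit 5), (nat_lit 3), (nat_lit 4), (nat_lit 3), (nat_lit 5), (nat_lit 6), (nat_lit 5), (nat_lit 3), (nat_lit 4), (nat_lit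 3), (nat_lit 5), (nat_lit 6), (nat_lit 5), (nat_lit 3), (nat_lit 4), (nat_lit 3), (nat_lit 5)], (nat_lit 18), (nat_lit 1), (nat_lit 0), (nat_lit 3)⟩) (BT.leaf ⟨[(nat_lit 6), (nat_lit 3), (nat_lit 6), (nat_lit 3)], (nat_lit 15), (nat_lit 0), (nat_lit 0), (nat_lit 3)⟩)) (BT.node (nat_lit 29) (BT.leaf ⟨[(nat_lit 6), (nat_lit 2), (nat_lit 6), (nat_lit 2)], (nat_lit 20), (nat_lit 1), (nat_lit 0), (nat_lit 3)⟩) (BT.leaf ⟨[(nat_lit 6), (nat_lit 1), (nat_lit 6), (nat_lit 1)], (nat_lit 21), (nat_lit 1), (nat_lit 0), (nat_lit 3)⟩))) (BT.node (nat_lit 32) (BT.node (nat_lit 31) (BT.leaf ⟨[(nat_lit 5), (nat_lit 6), (nat_lit 5), (nat_lit 6), (nat_lit 5), (nat_lit 6)], (nat_lit 13), (nat_lit 0), (nat_lit 0), (nat_lit 3)⟩) (BT.leaf ⟨[(nat_lit 6), (nat_lit 5), (nat_lit 3), (nat_lit 5), (nat_lit 3), (nat_lit 5), (nat_lit 5), (nat_lit 6), (nat_lit 5), (nat_lit 3), (nat_lit 5)],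 (nat_lit 17), (nat_lit 9), (nat_lit 0), (nat_lit 3)⟩)) (BT.node (nat_lit 33) (BT.leaf ⟨[(nat_lit 4), (nat_lit 3), (nat_lit 1), (nat_lit 2), (nat_lit 1), (nat_lit 3), (nat_lit 4), (nat_lit 3), (nat_lit 1), (nat_lit 2), (nat_lit 1), (nat_lit 3), (nat_lit 4), (nat_lit 3), (nat_lit 1), (nat_lit 2), (nat_lit 1), (nat_lit 3)], (nat_lit 10), (nat_lit 4), (nat_lit 0), (nat_lit 3)⟩) (BT.node (nat_lit 34) (BT.leaf ⟨[(nat_lit 4), (nat_lit 1), (nat_lit 4), (nat_lit 1)], (nat_lit 6), (nat_lit 1), (nat_lit 0), (nat_lit 3)⟩) (BT.leaf ⟨[(nat_lit 4), (nat_lit 3), (nat_lit 3), (nat_lit 1), (nat_lit 3), (nat_lit 1), (nat_lit 3), (nat_lit 4), (nat_lit 3), (nat_lit 1), (nat_lit 3)], (nat_lit 8), (nat_lit 9), (nat_lit 0), (nat_lit 3)⟩)))))))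
noncomputable def e6_hcs : List CW := [⟨[(nat_lit 5)], (nat_lit 0), (nat_lit 0), (nat_lit 0), (nat_lit 0)⟩, ⟨[(nat_lit 4)], (nat_lit 1), (nat_lit 0), (nat_lit 0), (nat_lit 0)⟩, ⟨[(nat_lit 3)], (nat_lit 2), (nat_lit 0), (nat_lit 0), (nat_lit 0)⟩, ⟨[(nat_lit 2)], (nat_lit 3), (nat_lit 0), (nat_lit 0), (nat_lit 0)⟩, ⟨[(nat_lit 1)], (nat_lit 4), (nat_lit 0), (nat_lit 0), (nat_lit 0)⟩, ⟨[(nat_lit 5)], (nat_lit 5), (nat_lit 0), (nat_lit 0), (nat_lit 0)⟩, ⟨[(nat_lit 4)], (nat_lit 6), (nat_lit 0), (nat_lit 0), (nat_lit 0)⟩, ⟨[(nat_lit 3)], (nat_lit 7), (nat_lit 0), (nat_lit 0), (nat_lit 0)⟩, ⟨[(nat_lit 2)], (nat_lit 8), (nat_lit 0), (nat_lit 0), (nat_lit 0)⟩, ⟨[(nat_lit 1)], (nat_lit 9), (nat_lit 0), (nat_lit 0), (nat_lit 0)⟩]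
noncomputable def e6_H (x j : Nat) : Bx (Nat → Nat → Nat) := mkH e6_L e6_pb.1 e6_e.get (lmap CW.w e6_hcs) (nat_lit 15) (nat_lit 16) (nat_lit 7) (nat_lit 16) (nat_lit 1024) (nat_lit 1023) x (e6_rots.get j)
noncomputable def e6_F (x b : Nat) : Bool := blkOK e6_H e6_ch (nat_lit 16) (nat_lit 16) (nat_lit 64) (nat_lit 8) (nat_lit 255) (nat_lit 15) (nat_lit 32767) x b

theorem e6_k0_0 : allFrom (e6_F (nat_lit 0)) (nat_lit 0) (nat_lit 4) = true := by decide +kernel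
theorem e6_k1_0 : allFrom (e6_F (nat_lit 1)) (nat_lit 0) (nat_lit 4) = true := by decide +kernel
theorem e6_k2_0 : allFrom (e6_F (nat_lit 2)) (nat_lit 0) (nat_lit 4) = true := by decide +kernel
theorem e6_k3_0 : allFrom (e6_F (nat_lit 3)) (nat_lit 0) (nat_lit 4) = true := by decide +kernel
theorem e6_k4_0 : allFrom (e6_F (nat_lit 4)) (nat_lit 0) (nat_lit 4) = true := by decide +kernel
theorem e6_k5_0 : allFrom (e6_F (nat_lit 5)) (nat_lit 0) (nat_lit 4) = true := by decide +kernel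
theorem e6_k6_0 : allFrom (e6_F (nat_lit 6)) (nat_lit 0) (nat_lit 4) = true := by decide +kernel

noncomputable def e7_c0 : BT (Bx Nat) := (BT.leaf (Bx.mk (nat_lit 0x0)))
noncomputable def e7_c1 : BT (Bx Nat) := (BT.leaf (Bx.mk (nat_lit 0xa33c416ddeabef0cc4c640d8cc28abaa16e4e63238cfd0ab640caf6329f0c94c338f82f78abbeaa8ba9a1aaab6a9ac4ded68aa4e2ad12628eaa77a59bf82ce632aeaa67832fe0cbbc315b5e7f0a9ee0c9e8318e0c9bc312e0c8ea61cf0c3f2311f82832a94ca64fe09ad265b298bf825f630ad2a37460cc0c43860ee981ba585db81f8309e0c23c303f8213aa82f86040000)))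
noncomputable def e7_c2 : BT (Bx Nat) := (BT.leaf (Bx.mk (nat_lit 0x24bd692f0e83e12d01c83f9acee84b032ce46733a20c7ab29a20c90b34112e264b5992deab3aa2cbe892eb2c8ac921b92960b23e12dbc49ba12912726c20aeab27792aaa4ada92b2b820b1256c496c92660497f82a2c818d2c76a49a89c72e91eba07f070ed9243648fba4478913e204ae494c1223a709d202f070ae12332b0df12136706cac17e087e200fab02f86040000)))
noncomputable def e7_c3 : BT (Bx Nat) := (BT.leaf (Bx.mk (nat_lit 0x62bd7b6ebc2b427b03c2b04b6bdc2bf936e4beb8a8ab4e2a9f0a9fe0be0d4cfc2a4f0a8be0bc40aee88aeb70dfc29ef0a75552a436dab528f82d6b6a6f0a67e0b25b68fe0b1ea25ab3a0f0a53e0acf82ae1917b366ec293f8297a89078a7382a1f0a3be09fbce6bc28cd22478298f0a27e095bd437e092f0a1b728af823f1488d4e13e08be36172287f0a0be083f86040000)))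
noncomputable def e7_c4 : BT (Bx Nat) := (BT.leaf (Bx.mk (nat_lit 0x3a6b8f0ed5e3babd8f6da3288ec20bbef0eb383c0f0ead2badf82ffaba7bd8cea3bcc6ac64bbb50e92742140edbe0b9f82dd63a2eae75239fe0ed3c39ac68956baf6ae658baa90eb99618576a26b9ee0ea5b715f0e4be0a660e8d63a068e3ecb9660e72cb94a5c4fe09bbae46f61076c5fa689bae36e68ce482fa686e0e3bc384c501f838af0e0fe088f8217ab82f86040000)))
noncomputable def e7_c5 : BT (Bx Nat) := (BT.leaf (Bx.mk (nat_lit 0x3c437466f1e7be110c4e43f91eeea7baae6e7c42bf8301242d410c9242f23a9538b519ef667b051ed271ae51edad8acf82e3a79d59e896f1fa109179a0190cea7a789e654429a3c854426510a3079ee10abc41259056d8988108ea41a8903ec7966666fa78dcbc4fe09cac6474e9093a5fc408e1053c407dcc2fc405f1013e08ef8233c403f822be089f821ba782f86040000)))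
noncomputable def e7_c6 : BT (Bx Nat) := (BT.leaf (Bx.mk (nat_lit 0xacbd694dcec3e215036531ea8bf252d328e4a533730fd0a36a30ad0a34332e36525e30f3aa22e14efc520d28eb651f994d645234a8a52d28a14752ca6e30cbaa199a8ab8530f1457e0aee30b3aa14aa89e8c9756e6ecc12e1493c50f99473c50ef8287851ef1432a51af142bc509f8263e096ca837e093d561be091f82430a08d341f250bca8176c84e300faa02f86040000)))
noncomputable def e7_c7 : BT (Bx Nat) := (BT.leaf (Bx.mk (nat_lit 0x270b86f4d63e39888ce2232f08bbc22c808fa4240988afc228608ffc226940f6513c9f497c221f0883e0bbf087fe0baa72dfc21cf086fe0b6f086be0b4908c7c218f085fc215f82c3e0aff82b7c213f084be0aaf82a7e0a7f083fe0a4f828ee210f828bc20cf827be09dcc42f1116f82673089f081fe094c08472206c083b2204f8237508adbe0f5008d0817c201f82080000)))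
noncomputable def e7_p : BT (Bx Nat) := (BT.leaf (Bx.mk (nat_lit 0x14dc5a6a25340e58832c0395c3cac1e56092ac595624a81e5387298784a0c240e110708478403c201a0f8f078383a1c1c1e0d8f06c28343c1a11cc86e60772e3b951dca8ce5417281b931dc90ee485724239205878ec3c661e0b0e198706c307618330c0d450ca2465121a8815438ea1c540c1a0515020a8104408118314c18860c120418811c00000000)))
noncomputable def e7_e0 : BT Nat := (BT.node (nat_lit 68) (BT.node (nat_lit 66) (BT.leaf (nat_lit 1310722)) (BT.node (nat_lit 67) (BT.leaf (nat_lit 1048578)) (BT.leaf (nat_lit 786434)))) (BT.node (nat_lit 69) (BT.leaf (nat_lit 524290)) (BT.node (nat_lit 70) (BT.leaf (nat_lit 262146)) (BT.leaf (nat_lit 2)))))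
noncomputable def e7_e : BT Nat := e7_e0
noncomputable def e7_cols : List (BT (Bx Nat)) := [e7_c0, e7_c1, e7_c2, e7_c3, e7_c4, e7_c5, e7_c6, e7_c7]
noncomputable def e7_ch (x j : Nat) : Bx Nat := chunkG e7_cols (nat_lit 1) x j
noncomputable def e7_L (x : Nat) : Bx (Nat → Nat) := lookG e7_ch (nat_lit 8) (nat_lit 255) (nat_lit 18) (nat_lit 262143) x
noncomputable def e7_pc (_ j : Nat) : Bx Nat := e7_p.get j
noncomputable def e7_pb : Bx (Nat → Nat) := lookG e7_pc (nat_lit 8) (nat_lit 255) (nat_lit 17) (nat_lit 131071) (nat_lit 0)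
noncomputable def e7_rots : BT CW := (BT.node (nat_lit 30) (BT.node (nat_lit 15) (BT.node (nat_lit 7) (BT.node (nat_lit 3) (BT.node (nat_lit 1) (BT.leaf ⟨[], (nat_lit 1000000), (nat_lit 0), (nat_lit 0), (nat_lit 0)⟩) (BT.node (nat_lit 2) (BT.leaf ⟨[], (nat_lit 1000000), (nat_lit 0), (nat_lit 0), (nat_lit 1)⟩) (BT.leaf ⟨[], (nat_lit 1000000), (nat_lit 0), (nat_lit 0), (nat_lit 2)⟩))) (BT.node (nat_lit 5) (BT.node (nat_lit 4) (BT.leaf ⟨[(nat_lit 7), (nat_lit 7)], (nat_lit 19), (nat_lit 0), (nat_lit 0), (nat_lit 3)⟩) (BT.leaf ⟨[(nat_lit 3), (nat_lit 3)], (nat_lit 0), (nat_lit 0), (nat_lit 0), (nat_lit 3)⟩)) (BT.node (nat_lit 6) (BT.leaf ⟨[(nat_lit 1), (nat_lit 1)], (nat_lit 3), (nat_lit 0), (nat_lit 0), (nat_lit 3)⟩) (BT.leaf ⟨[(nat_lit 4), (nat_lit 4)], (nat_lit 1), (nat_lit 0), (nat_lit 0), (nat_lit 3)⟩)))) (BT.node (nat_lit 11) (BT.node (nat_lit 9) (BT.node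 (nat_lit 8) (BT.leaf ⟨[(nat_lit 5), (nat_lit 5)], (nat_lit 11), (nat_lit 0), (nat_lit 0), (nat_lit 3)⟩) (BT.leaf ⟨[(nat_lit 2), (nat_lit 2)], (nat_lit 4), (nat_lit 0), (nat_lit 0), (nat_lit 3)⟩)) (BT.node (nat_lit 10) (BT.leaf ⟨[(nat_lit 6), (nat_lit 6)], (nat_lit 12), (nat_lit 0), (nat_lit 0), (nat_lit 3)⟩) (BT.leaf ⟨[(nat_lit 1), (nat_lit 4), (nat_lit 1), (nat_lit 4)], (nat_lit 6), (nat_lit 0), (nat_lit 0), (nat_lit 3)⟩))) (BT.node (nat_lit 13) (BT.node (nat_lit 12) (BT.leaf ⟨[(nat_lit 1), (nat_lit 5), (nat_lit 1), (nat_lit 5)], (nat_lit 22), (nat_lit 0), (nat_lit 0), (nat_lit 3)⟩) (BT.leaf ⟨[(nat_lit 4), (nat_lit 5), (nat_lit 4), (nat_lit 5)], (nat_lit 14), (nat_lit 1), (nat_lit 0), (nat_lit 3)⟩)) (BT.node (nat_lit 14) (BT.leaf ⟨[(nat_lit 2), (nat_lit 5), (nat_lit 2), (nat_lit 5)], (nat_lit 25), (nat_lit 1), (nat_lit 0), (nat_lit 3)⟩) (BT.leaf ⟨[(nat_lit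 5), (nat_lit 7), (nat_lit 5), (nat_lit 7)], (nat_lit 28), (nat_lit 0), (nat_lit 0), (nat_lit 3)⟩))))) (BT.node (nat_lit 22) (BT.node (nat_lit 18) (BT.node (nat_lit 16) (BT.leaf ⟨[(nat_lit 2), (nat_lit 3), (nat_lit 2), (nat_lit 3)], (nat_lit 7), (nat_lit 0), (nat_lit 0), (nat_lit 3)⟩) (BT.node (nat_lit 17) (BT.leaf ⟨[(nat_lit 3), (nat_lit 6), (nat_lit 3), (nat_lit 6)], (nat_lit 15), (nat_lit 1), (nat_lit 0), (nat_lit 3)⟩) (BT.leaf ⟨[(nat_lit 2), (nat_lit 6), (nat_lit 2), (nat_lit 6)], (nat_lit 23), (nat_lit 0), (nat_lit 0), (nat_lit 3)⟩))) (BT.node (nat_lit 20) (BT.node (nat_lit 19) (BT.leaf ⟨[(nat_lit 1), (nat_lit 6), (nat_lit 1), (nat_lit 6)], (nat_lit 24), (nat_lit 0), (nat_lit 0), (nat_lit 3)⟩) (BT.leaf ⟨[(nat_lit 6), (nat_lit 7), (nat_lit 6), (nat_lit 7)], (nat_lit 29), (nat_lit 1), (nat_lit 0), (nat_lit 3)⟩)) (BT.node (nat_lit 21) (BT.leaf ⟨[(nat_lit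 1), (nat_lit 7), (nat_lit 1), (nat_lit 7)], (nat_lit 26), (nat_lit 0), (nat_lit 0), (nat_lit 3)⟩) (BT.leaf ⟨[(nat_lit 2), (nat_lit 7), (nat_lit 2), (nat_lit 7)], (nat_lit 27), (nat_lit 1), (nat_lit 0), (nat_lit 3)⟩)))) (BT.node (nat_lit 26) (BT.node (nat_lit 24) (BT.node (nat_lit 23) (BT.leaf ⟨[(nat_lit 4), (nat_lit 7), (nat_lit 4), (nat_lit 7)], (nat_lit 20), (nat_lit 1), (nat_lit 0), (nat_lit 3)⟩) (BT.leaf ⟨[(nat_lit 6), (nat_lit 3), (nat_lit 6), (nat_lit 3)], (nat_lit 15), (nat_lit 0), (nat_lit 0), (nat_lit 3)⟩)) (BT.node (nat_lit 25) (BT.leaf ⟨[(nat_lit 6), (nat_lit 1), (nat_lit 6), (nat_lit 1)], (nat_lit 24), (nat_lit 1), (nat_lit 0), (nat_lit 3)⟩) (BT.leaf ⟨[(nat_lit 6), (nat_lit 2), (nat_lit 6), (nat_lit 2)], (nat_lit 23), (nat_lit 1), (nat_lit 0), (nat_lit 3)⟩))) (BT.node (nat_lit 28) (BT.node (nat_lit 27) (BT.leaf ⟨[(nat_lit 3), (nat_lit 4), (nat_lit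 3), (nat_lit 4), (nat_lit 3), (nat_lit 4)], (nat_lit 2), (nat_lit 0), (nat_lit 0), (nat_lit 3)⟩) (BT.leaf ⟨[(nat_lit 1), (nat_lit 2), (nat_lit 1), (nat_lit 2), (nat_lit 1), (nat_lit 2)], (nat_lit 5), (nat_lit 0), (nat_lit 0), (nat_lit 3)⟩)) (BT.node (nat_lit 29) (BT.leaf ⟨[(nat_lit 5), (nat_lit 6), (nat_lit 5), (nat_lit 6), (nat_lit 5), (nat_lit 6)], (nat_lit 13), (nat_lit 0), (nat_lit 0), (nat_lit 3)⟩) (BT.leaf ⟨[(nat_lit 5), (nat_lit 2), (nat_lit 5), (nat_lit 2)], (nat_lit 25), (nat_lit 0), (nat_lit 0), (nat_lit 3)⟩)))))) (BT.node (nat_lit 45) (BT.node (nat_lit 37) (BT.node (nat_lit 33) (BT.node (nat_lit 31) (BT.leaf ⟨[(nat_lit 7), (nat_lit 3), (nat_lit 7), (nat_lit 3), (nat_lit 4), (nat_lit 3), (nat_lit 7), (nat_lit 3), (nat_lit 4), (nat_lit 3), (nat_lit 3)], (nat_lit 21), (nat_lit 1), (nat_lit 0), (nat_lit 3)⟩) (BT.node (nat_lit 32) (BT.leaf ⟨[(nat_lit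 7), (nat_lit 1), (nat_lit 7), (nat_lit 1)], (nat_lit 26), (nat_lit 1), (nat_lit 0), (nat_lit 3)⟩) (BT.leaf ⟨[(nat_lit 7), (nat_lit 5), (nat_lit 7), (nat_lit 5)], (nat_lit 28), (nat_lit 1), (nat_lit 0), (nat_lit 3)⟩))) (BT.node (nat_lit 35) (BT.node (nat_lit 34) (BT.leaf ⟨[(nat_lit 7), (nat_lit 6), (nat_lit 7), (nat_lit 6)], (nat_lit 29), (nat_lit 0), (nat_lit 0), (nat_lit 3)⟩) (BT.leaf ⟨[(nat_lit 5), (nat_lit 1), (nat_lit 5), (nat_lit 1)], (nat_lit 22), (nat_lit 1), (nat_lit 0), (nat_lit 3)⟩)) (BT.node (nat_lit 36) (BT.leaf ⟨[(nat_lit 4), (nat_lit 3), (nat_lit 5), (nat_lit 3), (nat_lit 4), (nat_lit 3), (nat_lit 3), (nat_lit 5), (nat_lit 3), (nat_lit 5), (nat_lit 3)], (nat_lit 16), (nat_lit 5), (nat_lit 0), (nat_lit 3)⟩) (BT.leaf ⟨[(nat_lit 3), (nat_lit 4), (nat_lit 3), (nat_lit 3), (nat_lit 5), (nat_lit 3), (nat_lit 5), (nat_lit 3), (nat_lit 4), (nat_lit 3),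 (nat_lit 5)], (nat_lit 16), (nat_lit 8), (nat_lit 0), (nat_lit 3)⟩)))) (BT.node (nat_lit 41) (BT.node (nat_lit 39) (BT.node (nat_lit 38) (BT.leaf ⟨[(nat_lit 5), (nat_lit 3), (nat_lit 5), (nat_lit 3), (nat_lit 4), (nat_lit 3), (nat_lit 5), (nat_lit 3), (nat_lit 4), (nat_lit 3), (nat_lit 3)], (nat_lit 16), (nat_lit 1), (nat_lit 0), (nat_lit 3)⟩) (BT.leaf ⟨[(nat_lit 3), (nat_lit 1), (nat_lit 3), (nat_lit 1), (nat_lit 1), (nat_lit 2), (nat_lit 1), (nat_lit 3), (nat_lit 1), (nat_lit 2), (nat_lit 1)], (nat_lit 9), (nat_lit 0), (nat_lit 0), (nat_lit 3)⟩)) (BT.node (nat_lit 40) (BT.leaf ⟨[(nat_lit 4), (nat_lit 3), (nat_lit 1), (nat_lit 3), (nat_lit 4), (nat_lit 3), (nat_lit 3), (nat_lit 1), (nat_lit 3), (nat_lit 1), (nat_lit 3)], (nat_lit 8), (nat_lit 5), (nat_lit 0), (nat_lit 3)⟩) (BT.leaf ⟨[(nat_lit 3), (nat_lit 4), (nat_lit 3), (nat_lit 3), (nat_lit 1), (nat_lit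 3), (nat_lit 1), (nat_lit 3), (nat_lit 4), (nat_lit 3), (nat_lit 1)], (nat_lit 8), (nat_lit 8), (nat_lit 0), (nat_lit 3)⟩))) (BT.node (nat_lit 43) (BT.node (nat_lit 42) (BT.leaf ⟨[(nat_lit 3), (nat_lit 2), (nat_lit 3), (nat_lit 2)], (nat_lit 7), (nat_lit 1), (nat_lit 0), (nat_lit 3)⟩) (BT.leaf ⟨[(nat_lit 6), (nat_lit 5), (nat_lit 3), (nat_lit 5), (nat_lit 3), (nat_lit 5), (nat_lit 5), (nat_lit 6), (nat_lit 5), (nat_lit 3), (nat_lit 5)], (nat_lit 17), (nat_lit 9), (nat_lit 0), (nat_lit 3)⟩)) (BT.node (nat_lit 44) (BT.leaf ⟨[(nat_lit 4), (nat_lit 1), (nat_lit 4), (nat_lit 1)], (nat_lit 6), (nat_lit 1), (nat_lit 0), (nat_lit 3)⟩) (BT.leaf ⟨[(nat_lit 3), (nat_lit 1), (nat_lit 3), (nat_lit 4), (nat_lit 3), (nat_lit 1), (nat_lit 3), (nat_lit 4), (nat_lit 3), (nat_lit 3), (nat_lit 1)], (nat_lit 8), (nat_lit 2), (nat_lit 0), (nat_lit 3)⟩))))) (BT.node (nat_lit 53)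 (BT.node (nat_lit 49) (BT.node (nat_lit 47) (BT.node (nat_lit 46) (BT.leaf ⟨[(nat_lit 4), (nat_lit 3), (nat_lit 4), (nat_lit 3), (nat_lit 4), (nat_lit 3)], (nat_lit 2), (nat_lit 1), (nat_lit 0), (nat_lit 3)⟩) (BT.leaf ⟨[(nat_lit 1), (nat_lit 3), (nat_lit 1), (nat_lit 1), (nat_lit 2), (nat_lit 1), (nat_lit 3), (nat_lit 1), (nat_lit 2), (nat_lit 1), (nat_lit 3)], (nat_lit 9), (nat_lit 1), (nat_lit 0), (nat_lit 3)⟩)) (BT.node (nat_lit 48) (BT.leaf ⟨[(nat_lit 2), (nat_lit 1), (nat_lit 2), (nat_lit 1), (nat_lit 2), (nat_lit 1)], (nat_lit 5), (nat_lit 1), (nat_lit 0), (nat_lit 3)⟩) (BT.leaf ⟨[(nat_lit 5), (nat_lit 3), (nat_lit 5), (nat_lit 5), (nat_lit 6), (nat_lit 5), (nat_lit 3), (nat_lit 5), (nat_lit 6), (nat_lit 5), (nat_lit 3)], (nat_lit 17), (nat_lit 1), (nat_lit 0), (nat_lit 3)⟩))) (BT.node (nat_lit 51) (BT.node (nat_lit 50) (BT.leaf ⟨[(nat_lit 3), (nat_lit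 5), (nat_lit 6), (nat_lit 5), (nat_lit 3), (nat_lit 5), (nat_lit 3), (nat_lit 5), (nat_lit 5), (nat_lit 6), (nat_lit 5)], (nat_lit 17), (nat_lit 7), (nat_lit 0), (nat_lit 3)⟩) (BT.leaf ⟨[(nat_lit 5), (nat_lit 4), (nat_lit 5), (nat_lit 4)], (nat_lit 14), (nat_lit 0), (nat_lit 0), (nat_lit 3)⟩)) (BT.node (nat_lit 52) (BT.leaf ⟨[(nat_lit 4), (nat_lit 3), (nat_lit 7), (nat_lit 3), (nat_lit 4), (nat_lit 3), (nat_lit 3), (nat_lit 7), (nat_lit 3), (nat_lit 7), (nat_lit 3)], (nat_lit 21), (nat_lit 5), (nat_lit 0), (nat_lit 3)⟩) (BT.leaf ⟨[(nat_lit 4), (nat_lit 3), (nat_lit 7), (nat_lit 3), (nat_lit 7), (nat_lit 3), (nat_lit 3), (nat_lit 4), (nat_lit 3), (nat_lit 7), (nat_lit 3)], (nat_lit 58), (nat_lit 5), (nat_lit 0), (nat_lit 3)⟩)))) (BT.node (nat_lit 57) (BT.node (nat_lit 55) (BT.node (nat_lit 54) (BT.leaf ⟨[(nat_lit 4), (nat_lit 3), (nat_lit 3), (nat_lit 1), (nat_lit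 3), (nat_lit 1), (nat_lit 3), (nat_lit 4), (nat_lit 3), (nat_lit 1), (nat_lit 3)], (nat_lit 8), (nat_lit 9), (nat_lit 0), (nat_lit 3)⟩) (BT.leaf ⟨[(nat_lit 6), (nat_lit 5), (nat_lit 6), (nat_lit 5), (nat_lit 6), (nat_lit 5)], (nat_lit 13), (nat_lit 1), (nat_lit 0), (nat_lit 3)⟩)) (BT.node (nat_lit 56) (BT.leaf ⟨[(nat_lit 3), (nat_lit 4), (nat_lit 3), (nat_lit 7), (nat_lit 3), (nat_lit 4), (nat_lit 3), (nat_lit 3), (nat_lit 7), (nat_lit 3), (nat_lit 7)], (nat_lit 21), (nat_lit 4), (nat_lit 0), (nat_lit 3)⟩) (BT.leaf ⟨[(nat_lit 7), (nat_lit 3), (nat_lit 3), (nat_lit 4), (nat_lit 3), (nat_lit 7), (nat_lit 3), (nat_lit 4), (nat_lit 3), (nat_lit 7), (nat_lit 3)], (nat_lit 58), (nat_lit 9), (nat_lit 0), (nat_lit 3)⟩))) (BT.node (nat_lit 59) (BT.node (nat_lit 58) (BT.leaf ⟨[(nat_lit 7), (nat_lit 2), (nat_lit 7), (nat_lit 2)], (nat_lit 27), (nat_lit 0), (nat_lit 0),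 (nat_lit 3)⟩) (BT.leaf ⟨[(nat_lit 4), (nat_lit 3), (nat_lit 3), (nat_lit 5), (nat_lit 3), (nat_lit 5), (nat_lit 3), (nat_lit 4), (nat_lit 3), (nat_lit 5), (nat_lit 3)], (nat_lit 16), (nat_lit 9), (nat_lit 0), (nat_lit 3)⟩)) (BT.node (nat_lit 60) (BT.leaf ⟨[(nat_lit 7), (nat_lit 3), (nat_lit 4), (nat_lit 3), (nat_lit 7), (nat_lit 3), (nat_lit 4), (nat_lit 3), (nat_lit 3), (nat_lit 7), (nat_lit 3)], (nat_lit 21), (nat_lit 3), (nat_lit 0), (nat_lit 3)⟩) (BT.leaf ⟨[(nat_lit 3), (nat_lit 1), (nat_lit 2), (nat_lit 1), (nat_lit 3), (nat_lit 1), (nat_lit 3), (nat_lit 1), (nat_lit 1), (nat_lit 2), (nat_lit 1)], (nat_lit 9), (nat_lit 7), (nat_lit 0), (nat_lit 3)⟩)))))))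
noncomputable def e7_hcs : List CW := [⟨[(nat_lit 6)], (nat_lit 0), (nat_lit 0), (nat_lit 0), (nat_lit 0)⟩, ⟨[(nat_lit 5)], (nat_lit 1), (nat_lit 0), (nat_lit 0), (nat_lit 0)⟩, ⟨[(nat_lit 4)], (nat_lit 2), (nat_lit 0), (nat_lit 0), (nat_lit 0)⟩, ⟨[(nat_lit 3)], (nat_lit 3), (nat_lit 0), (nat_lit 0), (nat_lit 0)⟩, ⟨[(nat_lit 2)], (nat_lit 4), (nat_lit 0), (nat_lit 0), (nat_lit 0)⟩, ⟨[(nat_lit 1)], (nat_lit 5), (nat_lit 0), (nat_lit 0), (nat_lit 0)⟩, ⟨[(nat_lit 6)], (nat_lit 6), (nat_lit 0), (nat_lit 0), (nat_lit 0)⟩, ⟨[(nat_lit 5)], (nat_lit 7), (nat_lit 0), (nat_lit 0), (nat_lit 0)⟩, ⟨[(nat_lit 4)], (nat_lit 8), (nat_lit 0), (nat_lit 0), (nat_lit 0)⟩, ⟨[(nat_lit 3)], (nat_lit 9), (nat_lit 0), (nat_lit 0), (nat_lit 0)⟩, ⟨[(nat_lit 2)], (nat_lit 10), (nat_lit 0), (nat_lit 0), (nat_lit 0)⟩, ⟨[(nat_lit 1)], (nat_lit 11), (nat_lit 0), (nat_lit 0), (nat_lit 0)⟩]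
noncomputable def e7_H (x j : Nat) : Bx (Nat → Nat → Nat) := mkH e7_L e7_pb.1 e7_e.get (lmap CW.w e7_hcs) (nat_lit 64) (nat_lit 65) (nat_lit 8) (nat_lit 128) (nat_lit 8192) (nat_lit 8191) x (e7_rots.get j)
noncomputable def e7_F (x b : Nat) : Bool := blkOK e7_H e7_ch (nat_lit 65) (nat_lit 128) (nat_lit 64) (nat_lit 8) (nat_lit 255) (nat_lit 18) (nat_lit 262143) x b

theorem e7_k0_0 : allFrom (e7_F (nat_lit 0)) (nat_lit 0) (nat_lit 4) = true := by decide +kernel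
theorem e7_k1_0 : allFrom (e7_F (nat_lit 1)) (nat_lit 0) (nat_lit 4) = true := by decide +kernel
theorem e7_k2_0 : allFrom (e7_F (nat_lit 2)) (nat_lit 0) (nat_lit 4) = true := by decide +kernel
theorem e7_k3_0 : allFrom (e7_F (nat_lit 3)) (nat_lit 0) (nat_lit 4) = true := by decide +kernel
theorem e7_k4_0 : allFrom (e7_F (nat_lit 4)) (nat_lit 0) (nat_lit 4) = true := by decide +kernel
theorem e7_k5_0 : allFrom (e7_F (nat_lit 5)) (nat_lit 0) (nat_lit 4) = true := by decide +kernel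
theorem e7_k6_0 : allFrom (e7_F (nat_lit 6)) (nat_lit 0) (nat_lit 4) = true := by decide +kernel
theorem e7_k7_0 : allFrom (e7_F (nat_lit 7)) (nat_lit 0) (nat_lit 4) = true := by decide +kernel

noncomputable def e8_c0 : BT (Bx Nat) := (BT.leaf (Bx.mk (nat_lit 0x0)))
noncomputable def e8_c1 : BT (Bx Nat) := (BT.leaf (Bx.mk (nat_lit 0x8c9c3c8761ad30fad9884b853bc31e0a4270348a709553fca75fac150b70a6b709bdbe4dead3ac210a6abc0c1d62974414d021369809b9ca4dca52ce351d80ac52bd6295a63adb3186cbc0be064de0314e829875809b3c0759a33a991aa6418b2688293ac14f370a453c9a81e753ec26ed69d425c529b62949f3ab331d58b0eb7d861bad307b6963c60b2db9256a754a270a5f3852f0a4d88514c710a6584ea5c2612a3146918a339c51d4e28e6f02c078a363c51ad82972e1456c9d386ce9bcf1cfac14ab60a54b8513d0591e83a8cc0a406851fa075110268721d4990c24451cca52c4129821a45135228969144889222bc0a0b2288e9305370a18bc09dd44cbea3a5d5132d689952028b24146120a319450a56285eb142d58a15a890dd24c6aa303378128b098f586076c2c393121f9ce855a4c32d24175aa10a8987d4583ab241b60a12b0508cc284ee140b59308ac903d8a81af021361304b0b01da740af060200000)))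
noncomputable def e8_c2 : BT (Bx Nat) := (BT.leaf (Bx.mk (nat_lit 0x747c3bc36198350b3877d8a441ce1ddc21f02f9a8074e3fbd21c283508c8f7ca43b5d21da611ef210768a06c14c3dda90ec618f74a43b0d21d7431ae2e877e806b7bc71b9c0eaee0756a86bddc1d36a1ef418f78ac3a7561d32138cb08d64a87ba883d8aa38e701c60203a9a6714aa1ee539c5c1c3a3d61d1ab0e8b5874274d36ba71b2734aaf9c5424d2fa41d79c387850f3aac39cd83d9ef02d561c66b4e1a5a68ce2389311a48207add8716ac1ab2987384c39bd8716288c8369c2eb4796da34ae70e52d8751a071d921d42c389ea1c44507a1da7096d1e496074bb03a55c1c8231a6341c30a0797d81d02c0e7ea8e23b039f5c1c728347b52528a438dc81c6ac0e6d60735503965c1c5690e3378132a4e0fd23c7a9343b7812aa8693ca3c9aa344358710ac387cc683af02455870da8e09d43c4aa1c2360d18b078bca1c5ac1c2968f08b4703da341ab4a136070cb0385d81c2ae0e0760f04bc082da700af060200000)))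
noncomputable def e8_c3 : BT (Bx Nat) := (BT.leaf (Bx.mk (nat_lit 0x953c3da7e0186f0accb84913c1dc21c83a90360886b84374621c1996fadb77cb8433bc9dea510de9085fb842ec69dd8610b61d374b4fad5e0608410cb21f7e98fbcde05fed3ea52b956b842714d9a9e4ed208853bc0bdbe7d30584e370848208238f098ad3e8d3ba544d3bc22215ef02ef21f491db3ad821cee107f69f4048faf4821b286aab3086009b345821b6e106e7a7503841cde05acb849af08667441c3e20ce310b9781641c431d82186e105a988344db1e5a7cba4106360858bc0acdc20aa66c7a90843a081d9908e8f3e9ef1f4bbc0a8a47c9508448a1f4481ba53ee48e5808341f30a1a97d8210af028aa9020b840e5e04faa6a5353728b840bd2d4991106c788357841924205686c42a082ca4f8fd2407a96a3b7812bb8407c6d86ab6a337080cbc093d4d45939a456900ba8f89d4dc4aa202370808bc08dd1083ad200f78118b040a5c2016b6e1378110b0406dc200ef02156a704bc0835a7c0af060200000)))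
noncomputable def e8_c4 : BT (Bx Nat) := (BT.leaf (Bx.mk (nat_lit 0x1c64390921890b0040c84206418b4a0ad18e4517859d23f9291f8b2ee05b86f1c63d96319c948f20856a1c63b96317462ecb7055a16ab9d81606e0ab05057d282be5a5d5482edb3976c2c2ab8431e0318a57054c282bd16152c50aeb3a464182a4dc1518870c33b86035c2f86913ca0aec58542b82a05e05d1848b37817132835da5cf6c0add7053bb829c0415a6848a274e50082af0614e6e0a6978168328b33c9128748c770530b82975e058a8488a60c444461a991572870837815b64297ae90fac0aad70527bc0aa5c14944189d78153ac2931a30d900a877814db4b90ba5ccae0a3f7814869c1fde051ed183c88522a5215b2307612e5303828bc09e5830def027568c17b4b8b2490b2c0a6770514bc098d814b580a55705118920dda303ea82330a418b029258148ee0a177812096209c63032f02395a410b028d5c141e92e1b10512bc08ac8e02a30a0b68c04bc08758901a48a1360508b82815e040ef060200000)))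
noncomputable def e8_c5 : BT (Bx Nat) := (BT.leaf (Bx.mk (nat_lit 0x94cc3cc6e1ae16f970b7b8ccc1c2660a4330369b6f9d43fda6db6e16d778185bc0c2562d9e436f210b6a88cbbca65d9916c6c8b6288db9ca65ca540e369b57b05c05c2d52c16fd70b51bc0be8665e2b169d58b4db0cbd5a6d2e916933a86468cbab481d2336c32a860445a8222d3e632bb31b5c5d023b68d1a344b331b58b05b85c2cf2e16777816eac59d562ce6f02d89195f48daf5865a6c40d169b34b05b35c2ccaa36cb58b31585adb42d6a4468a99b364cc9ace6d0a74682b8b2e64596ce88fae164f78156bc0aad8814ec36a569b25b4c92242d112168760b4cb85905e052ac409169b1fb4c8f306d01a367e98b22a1415b26472e16374a328bc09eda645ec167160b37b858aa888b2e162978133b0598582cbee1622c0b2abc094ca2c3ee161b52218b05935c2c2ef024778121a4d89d2644af023b5a81098c8d4f0c1ef02335190cbc08b56882aa4613599089858758a01ab440b61904b1001da6c0af060200000)))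
noncomputable def e8_c6 : BT (Bx Nat) := (BT.leaf (Bx.mk (nat_lit 0x348c39c5618e230a81184444be2625ec22302795803ca3fa255f8f22fa91e8350a412645e912adf489634ca358a4588212d0191744cab6aa459c328e281570404bca079b9212e69266c484bb864535222d219175504b928559922aca91464a88bc0825d9112ae88954204a3d625193129c989491c4a9a62549312a2a894b48ab0a2515a53caa91e60208ada85569428b25113a40a9ca84574212d49954c58aac2a992942ab899e48248afd85579352796952eb4896aa54d153c62a95385489baf30ca6527a90945a4494122540f129ea09405049fa0249501248a094250a19ac24f94128341530a0897d82512c12877091c544902a248ea4c5351e3bac48c52449912a6c8913558a1524985685242b292bb4a89da444a93c3b7812cac48846446ab4c3361427b4886549859112457090ab048fd8247ae12136141bb488448a43ae120d60917b8482de0452f02236090fb8481de0436f021761104bc083da540af060200000)))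
noncomputable def e8_c7 : BT (Bx Nat) := (BT.leaf (Bx.mk (nat_lit 0xb83435e061da5d00eae7e9433cca19cee0ce2c8685995bfb81a11a0ce0d066f74336dc199a65f077065e9ddb0dc1972e0cb420665996415c1962f0302dae7d6d7be4cb9b9e94f73ae6c7162b86193ee0c9818652b8325de05e8560e91ab64b83230cc12660cef3af60b83225e05e2e0c8578176257205e05d6758b3781726c335ceb95a75cab3b0542431c08bda2856a370636116355c18d055e7378169bc0b3ceb92850cc51ae48243175e058e8568b7815fb83165e057675e824065bb83154eb0fa85c7b4303ca169d973c9440c9a52e53b8311de0542e0c457814ea1719d0b0ca4606322e30b830e94bd1ee0c3978143a1595de04fe95c534af28a5693dc1858a0c7570615bc09bde04d695c434b0209568fdc1846f025f7812da968ddc183aa5c3352c18b8305de049af024952d1499f09dc1826f023d5ab10b8303de046ab5a1b70605bc08bd6b02af022570603bc087d8ac1af021970602bc0845e0412f060200000)))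
noncomputable def e8_c8 : BT (Bx Nat) := (BT.leaf (Bx.mk (nat_lit 0x950c3dc11fe5670b2b38495a41caca08243037046ebc0c35c11b2666fb3347c9993dcccdeae08c16a15f998bbccd1d8608b613474b822cccc9c8462c970456b822a5e0602e08a37817e9d8b5861142766d2184539d933dc112ae08901847121ea386d18ae088b78179b023c5c110e742bb704411d93adc10fef02e77043eb821e5e05c2666ab7816f11a345c10def02da2326ab821ad085385687570433b82195e059ae0863781651c231dc10b6f02c37042cbc0af5c10aef02b97042abc0ad5e05627667b781579de9d881136e084970423bc0a95c108af029f70420bc0a65e052ef02937041d95997dc1072f028d78144bc0a15e05028665343428a1e93cccc9ae082b78139bc09c5e04da6662d78134b8208ccf47af02617812ea5e8dc8cc6a6661d4b2189de8bca1086f024b3040bb8204ced04af023f53c10a1e87ca106687a0f4320c9de8a50c816f02274b1089c206d0100e708156a104a5f835c1006f020400000)))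
noncomputable def e8_p : BT (Bx Nat) := (BT.leaf (Bx.mk (nat_lit 0xc861edfc8b7c16dec5b7706dc83b711e9b88a6e0e9b08a6b169ac1a670e9987a60229787a5d0e9707a5a1e9684a59229607a5812558895422550595122544594e0e534294c1e530494b1e52889482252039461e51849452251419441e50c89421e5048940124fc893f0e4f8883c220f0583b160ec4838120dc88370e0d87835220d07834120cc8832220c85831220c0482e120b4882d0e0b0882c1e0ac882b060a8882a1e0a8372715c9c472705c94472421c8c87231dc8887221dc80872015c80271f11c74871d1dc70871c1dc70671c0dc70261b1586016170d858761521854761515854261415850461121844761115844450f0d438750d15430350b1d42c550b1142865092142475091902034071d01c440619014740519014340504c0c730318c0c3303088087202104048000000000)))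
noncomputable def e8_e0 : BT Nat := (BT.node (nat_lit 68) (BT.node (nat_lit 66) (BT.leaf (nat_lit 1572866)) (BT.node (nat_lit 67) (BT.leaf (nat_lit 1310722)) (BT.leaf (nat_lit 1048578)))) (BT.node (nat_lit 70) (BT.node (nat_lit 69) (BT.leaf (nat_lit 786434)) (BT.leaf (nat_lit 524290))) (BT.node (nat_lit 71) (BT.leaf (nat_lit 262146)) (BT.leaf (nat_lit 2)))))
noncomputable def e8_e : BT Nat := e8_e0
noncomputable def e8_cols : List (BT (Bx Nat)) := [e8_c0, e8_c1, e8_c2, e8_c3, e8_c4, e8_c5, e8_c6, e8_c7, e8_c8]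
noncomputable def e8_ch (x j : Nat) : Bx Nat := chunkG e8_cols (nat_lit 1) x j
noncomputable def e8_L (x : Nat) : Bx (Nat → Nat) := lookG e8_ch (nat_lit 8) (nat_lit 255) (nat_lit 21) (nat_lit 2097151) x
noncomputable def e8_pc (_ j : Nat) : Bx Nat := e8_p.get j
noncomputable def e8_pb : Bx (Nat → Nat) := lookG e8_pc (nat_lit 8) (nat_lit 255) (nat_lit 18) (nat_lit 262143) (nat_lit 0)
noncomputable def e8_rots : BT CW := (BT.node (nat_lit 42) (BT.node (nat_lit 21) (BT.node (nat_lit 10) (BT.node (nat_lit 5) (BT.node (nat_lit 2) (BT.node (nat_lit 1) (BT.leaf ⟨[], (nat_lit 1000000), (nat_lit 0), (nat_lit 0), (nat_lit 0)⟩) (BT.leaf ⟨[], (nat_lit 1000000), (nat_lit 0), (nat_lit 0), (nat_lit 1)⟩)) (BT.node (nat_lit 3) (BT.leaf ⟨[], (nat_lit 1000000), (nat_lit 0), (nat_lit 0), (nat_lit 2)⟩) (BT.node (nat_lit 4) (BT.leaf ⟨[(nat_lit 8), (nat_lit 8)], (nat_lit 20), (nat_lit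 0), (nat_lit 0), (nat_lit 3)⟩) (BT.leaf ⟨[(nat_lit 4), (nat_lit 4)], (nat_lit 1), (nat_lit 0), (nat_lit 0), (nat_lit 3)⟩)))) (BT.node (nat_lit 7) (BT.node (nat_lit 6) (BT.leaf ⟨[(nat_lit 7), (nat_lit 7)], (nat_lit 19), (nat_lit 0), (nat_lit 0), (nat_lit 3)⟩) (BT.leaf ⟨[(nat_lit 2), (nat_lit 2)], (nat_lit 4), (nat_lit 0), (nat_lit 0), (nat_lit 3)⟩)) (BT.node (nat_lit 8) (BT.leaf ⟨[(nat_lit 3), (nat_lit 3)], (nat_lit 0), (nat_lit 0), (nat_lit 0), (nat_lit 3)⟩) (BT.node (nat_lit 9) (BT.leaf ⟨[(nat_lit 6), (nat_lit 6)], (nat_lit 12), (nat_lit 0), (nat_lit 0), (nat_lit 3)⟩) (BT.leaf ⟨[(nat_lit 1), (nat_lit 1)], (nat_lit 3), (nat_lit 0), (nat_lit 0), (nat_lit 3)⟩))))) (BT.node (nat_lit 15) (BT.node (nat_lit 12) (BT.node (nat_lit 11) (BT.leaf ⟨[(nat_lit 5), (nat_lit 5)], (nat_lit 11), (nat_lit 0), (nat_lit 0), (nat_lit 3)⟩) (BT.leaf ⟨[(nat_lit 4), (nat_lit 7), (nat_lit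 4), (nat_lit 7)], (nat_lit 22), (nat_lit 1), (nat_lit 0), (nat_lit 3)⟩)) (BT.node (nat_lit 13) (BT.leaf ⟨[(nat_lit 2), (nat_lit 3), (nat_lit 2), (nat_lit 3)], (nat_lit 7), (nat_lit 0), (nat_lit 0), (nat_lit 3)⟩) (BT.node (nat_lit 14) (BT.leaf ⟨[(nat_lit 2), (nat_lit 6), (nat_lit 2), (nat_lit 6)], (nat_lit 28), (nat_lit 0), (nat_lit 0), (nat_lit 3)⟩) (BT.leaf ⟨[(nat_lit 2), (nat_lit 7), (nat_lit 2), (nat_lit 7)], (nat_lit 34), (nat_lit 1), (nat_lit 0), (nat_lit 3)⟩)))) (BT.node (nat_lit 18) (BT.node (nat_lit 16) (BT.leaf ⟨[(nat_lit 3), (nat_lit 6), (nat_lit 3), (nat_lit 6)], (nat_lit 15), (nat_lit 1), (nat_lit 0), (nat_lit 3)⟩) (BT.node (nat_lit 17) (BT.leaf ⟨[(nat_lit 6), (nat_lit 7), (nat_lit 6), (nat_lit 7)], (nat_lit 38), (nat_lit 1), (nat_lit 0), (nat_lit 3)⟩) (BT.leaf ⟨[(nat_lit 1), (nat_lit 6), (nat_lit 1), (nat_lit 6)], (nat_lit 29), (nat_lit 0), (nat_lit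 0), (nat_lit 3)⟩))) (BT.node (nat_lit 19) (BT.leaf ⟨[(nat_lit 1), (nat_lit 7), (nat_lit 1), (nat_lit 7)], (nat_lit 31), (nat_lit 0), (nat_lit 0), (nat_lit 3)⟩) (BT.node (nat_lit 20) (BT.leaf ⟨[(nat_lit 6), (nat_lit 3), (nat_lit 6), (nat_lit 3)], (nat_lit 15), (nat_lit 0), (nat_lit 0), (nat_lit 3)⟩) (BT.leaf ⟨[(nat_lit 6), (nat_lit 8), (nat_lit 6), (nat_lit 8)], (nat_lit 36), (nat_lit 0), (nat_lit 0), (nat_lit 3)⟩)))))) (BT.node (nat_lit 31) (BT.node (nat_lit 26) (BT.node (nat_lit 23) (BT.node (nat_lit 22) (BT.leaf ⟨[(nat_lit 1), (nat_lit 4), (nat_lit 1), (nat_lit 4)], (nat_lit 6), (nat_lit 0), (nat_lit 0), (nat_lit 3)⟩) (BT.leaf ⟨[(nat_lit 4), (nat_lit 5), (nat_lit 4), (nat_lit 5)], (nat_lit 14), (nat_lit 1), (nat_lit 0), (nat_lit 3)⟩)) (BT.node (nat_lit 24) (BT.leaf ⟨[(nat_lit 1), (nat_lit 5), (nat_lit 1), (nat_lit 5)], (nat_lit 27), (nat_lit 0), (nat_lit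 0), (nat_lit 3)⟩) (BT.node (nat_lit 25) (BT.leaf ⟨[(nat_lit 5), (nat_lit 7), (nat_lit 5), (nat_lit 7)], (nat_lit 35), (nat_lit 0), (nat_lit 0), (nat_lit 3)⟩) (BT.leaf ⟨[(nat_lit 2), (nat_lit 5), (nat_lit 2), (nat_lit 5)], (nat_lit 30), (nat_lit 1), (nat_lit 0), (nat_lit 3)⟩)))) (BT.node (nat_lit 28) (BT.node (nat_lit 27) (BT.leaf ⟨[(nat_lit 5), (nat_lit 8), (nat_lit 5), (nat_lit 8)], (nat_lit 37), (nat_lit 0), (nat_lit 0), (nat_lit 3)⟩) (BT.leaf ⟨[(nat_lit 2), (nat_lit 8), (nat_lit 2), (nat_lit 8)], (nat_lit 32), (nat_lit 0), (nat_lit 0), (nat_lit 3)⟩)) (BT.node (nat_lit 29) (BT.leaf ⟨[(nat_lit 1), (nat_lit 8), (nat_lit 1), (nat_lit 8)], (nat_lit 33), (nat_lit 0), (nat_lit 0), (nat_lit 3)⟩) (BT.node (nat_lit 30) (BT.leaf ⟨[(nat_lit 6), (nat_lit 1), (nat_lit 6), (nat_lit 1)], (nat_lit 29), (nat_lit 1), (nat_lit 0), (nat_lit 3)⟩) (BT.leaf ⟨[(nat_lit 3), (nat_lit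 8), (nat_lit 3), (nat_lit 8)], (nat_lit 23), (nat_lit 1), (nat_lit 0), (nat_lit 3)⟩))))) (BT.node (nat_lit 36) (BT.node (nat_lit 33) (BT.node (nat_lit 32) (BT.leaf ⟨[(nat_lit 5), (nat_lit 4), (nat_lit 5), (nat_lit 4)], (nat_lit 14), (nat_lit 0), (nat_lit 0), (nat_lit 3)⟩) (BT.leaf ⟨[(nat_lit 8), (nat_lit 7), (nat_lit 8), (nat_lit 7), (nat_lit 8), (nat_lit 7)], (nat_lit 21), (nat_lit 1), (nat_lit 0), (nat_lit 3)⟩)) (BT.node (nat_lit 34) (BT.leaf ⟨[(nat_lit 5), (nat_lit 2), (nat_lit 5), (nat_lit 2)], (nat_lit 30), (nat_lit 0), (nat_lit 0), (nat_lit 3)⟩) (BT.node (nat_lit 35) (BT.leaf ⟨[(nat_lit 5), (nat_lit 1), (nat_lit 5), (nat_lit 1)], (nat_lit 27), (nat_lit 1), (nat_lit 0), (nat_lit 3)⟩) (BT.leaf ⟨[(nat_lit 4), (nat_lit 3), (nat_lit 4), (nat_lit 3), (nat_lit 4), (nat_lit 3)], (nat_lit 2), (nat_lit 1), (nat_lit 0), (nat_lit 3)⟩)))) (BT.node (nat_lit 39) (BT.node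 (nat_lit 37) (BT.leaf ⟨[(nat_lit 2), (nat_lit 1), (nat_lit 2), (nat_lit 1), (nat_lit 2), (nat_lit 1)], (nat_lit 5), (nat_lit 1), (nat_lit 0), (nat_lit 3)⟩) (BT.node (nat_lit 38) (BT.leaf ⟨[(nat_lit 6), (nat_lit 5), (nat_lit 6), (nat_lit 5), (nat_lit 6), (nat_lit 5)], (nat_lit 13), (nat_lit 1), (nat_lit 0), (nat_lit 3)⟩) (BT.leaf ⟨[(nat_lit 3), (nat_lit 7), (nat_lit 8), (nat_lit 7), (nat_lit 3), (nat_lit 7), (nat_lit 3), (nat_lit 7), (nat_lit 7), (nat_lit 8), (nat_lit 7)], (nat_lit 25), (nat_lit 7), (nat_lit 0), (nat_lit 3)⟩))) (BT.node (nat_lit 40) (BT.leaf ⟨[(nat_lit 5), (nat_lit 3), (nat_lit 4), (nat_lit 3), (nat_lit 3), (nat_lit 5), (nat_lit 3), (nat_lit 5), (nat_lit 3), (nat_lit 4), (nat_lit 3)], (nat_lit 16), (nat_lit 7), (nat_lit 0), (nat_lit 3)⟩) (BT.node (nat_lit 41) (BT.leaf ⟨[(nat_lit 6), (nat_lit 2), (nat_lit 6), (nat_lit 2)], (nat_lit 28), (nat_lit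 1), (nat_lit 0), (nat_lit 3)⟩) (BT.leaf ⟨[(nat_lit 1), (nat_lit 3), (nat_lit 4), (nat_lit 3), (nat_lit 3), (nat_lit 1), (nat_lit 3), (nat_lit 1), (nat_lit 3), (nat_lit 4), (nat_lit 3)], (nat_lit 8), (nat_lit 7), (nat_lit 0), (nat_lit 3)⟩))))))) (BT.node (nat_lit 63) (BT.node (nat_lit 52) (BT.node (nat_lit 47) (BT.node (nat_lit 44) (BT.node (nat_lit 43) (BT.leaf ⟨[(nat_lit 7), (nat_lit 3), (nat_lit 4), (nat_lit 3), (nat_lit 3), (nat_lit 7), (nat_lit 3), (nat_lit 7), (nat_lit 3), (nat_lit 4), (nat_lit 3)], (nat_lit 24), (nat_lit 7), (nat_lit 0), (nat_lit 3)⟩) (BT.leaf ⟨[(nat_lit 7), (nat_lit 2), (nat_lit 7), (nat_lit 2)], (nat_lit 34), (nat_lit 0), (nat_lit 0), (nat_lit 3)⟩)) (BT.node (nat_lit 45) (BT.leaf ⟨[(nat_lit 7), (nat_lit 6), (nat_lit 7), (nat_lit 6)], (nat_lit 38), (nat_lit 0), (nat_lit 0), (nat_lit 3)⟩) (BT.node (nat_lit 46) (BT.leaf ⟨[(nat_lit 7),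 (nat_lit 5), (nat_lit 7), (nat_lit 5)], (nat_lit 35), (nat_lit 1), (nat_lit 0), (nat_lit 3)⟩) (BT.leaf ⟨[(nat_lit 7), (nat_lit 1), (nat_lit 7), (nat_lit 1)], (nat_lit 31), (nat_lit 1), (nat_lit 0), (nat_lit 3)⟩)))) (BT.node (nat_lit 49) (BT.node (nat_lit 48) (BT.leaf ⟨[(nat_lit 7), (nat_lit 4), (nat_lit 7), (nat_lit 4)], (nat_lit 22), (nat_lit 0), (nat_lit 0), (nat_lit 3)⟩) (BT.leaf ⟨[(nat_lit 8), (nat_lit 3), (nat_lit 8), (nat_lit 3)], (nat_lit 23), (nat_lit 0), (nat_lit 0), (nat_lit 3)⟩)) (BT.node (nat_lit 50) (BT.leaf ⟨[(nat_lit 8), (nat_lit 2), (nat_lit 8), (nat_lit 2)], (nat_lit 32), (nat_lit 1), (nat_lit 0), (nat_lit 3)⟩) (BT.node (nat_lit 51) (BT.leaf ⟨[(nat_lit 8), (nat_lit 5), (nat_lit 8), (nat_lit 5)], (nat_lit 37), (nat_lit 1), (nat_lit 0), (nat_lit 3)⟩) (BT.leaf ⟨[(nat_lit 8), (nat_lit 1), (nat_lit 8), (nat_lit 1)], (nat_lit 33), (nat_lit 1), (nat_lit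 0), (nat_lit 3)⟩))))) (BT.node (nat_lit 57) (BT.node (nat_lit 54) (BT.node (nat_lit 53) (BT.leaf ⟨[(nat_lit 3), (nat_lit 5), (nat_lit 6), (nat_lit 5), (nat_lit 3), (nat_lit 5), (nat_lit 3), (nat_lit 5), (nat_lit 5), (nat_lit 6), (nat_lit 5)], (nat_lit 17), (nat_lit 7), (nat_lit 0), (nat_lit 3)⟩) (BT.leaf ⟨[(nat_lit 3), (nat_lit 2), (nat_lit 3), (nat_lit 2)], (nat_lit 7), (nat_lit 1), (nat_lit 0), (nat_lit 3)⟩)) (BT.node (nat_lit 55) (BT.leaf ⟨[(nat_lit 3), (nat_lit 1), (nat_lit 2), (nat_lit 1), (nat_lit 3), (nat_lit 1), (nat_lit 3), (nat_lit 1), (nat_lit 1), (nat_lit 2), (nat_lit 1)], (nat_lit 9), (nat_lit 7), (nat_lit 0), (nat_lit 3)⟩) (BT.node (nat_lit 56) (BT.leaf ⟨[(nat_lit 4), (nat_lit 1), (nat_lit 4), (nat_lit 1)], (nat_lit 6), (nat_lit 1), (nat_lit 0), (nat_lit 3)⟩) (BT.leaf ⟨[(nat_lit 3), (nat_lit 4), (nat_lit 3), (nat_lit 3), (nat_lit 5), (nat_lit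 3), (nat_lit 5), (nat_lit 3), (nat_lit 4), (nat_lit 3), (nat_lit 5)], (nat_lit 16), (nat_lit 8), (nat_lit 0), (nat_lit 3)⟩)))) (BT.node (nat_lit 60) (BT.node (nat_lit 58) (BT.leaf ⟨[(nat_lit 3), (nat_lit 4), (nat_lit 3), (nat_lit 3), (nat_lit 1), (nat_lit 3), (nat_lit 1), (nat_lit 3), (nat_lit 4), (nat_lit 3), (nat_lit 1)], (nat_lit 8), (nat_lit 8), (nat_lit 0), (nat_lit 3)⟩) (BT.node (nat_lit 59) (BT.leaf ⟨[(nat_lit 7), (nat_lit 8), (nat_lit 7), (nat_lit 3), (nat_lit 7), (nat_lit 3), (nat_lit 7), (nat_lit 7), (nat_lit 8), (nat_lit 7), (nat_lit 3)], (nat_lit 25), (nat_lit 8), (nat_lit 0), (nat_lit 3)⟩) (BT.leaf ⟨[(nat_lit 8), (nat_lit 7), (nat_lit 3), (nat_lit 4), (nat_lit 3), (nat_lit 7), (nat_lit 8), (nat_lit 7), (nat_lit 3), (nat_lit 4), (nat_lit 3), (nat_lit 7), (nat_lit 8), (nat_lit 7), (nat_lit 3), (nat_lit 4), (nat_lit 3), (nat_lit 7)], (nat_lit 26),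 (nat_lit 1), (nat_lit 0), (nat_lit 3)⟩))) (BT.node (nat_lit 61) (BT.leaf ⟨[(nat_lit 8), (nat_lit 6), (nat_lit 8), (nat_lit 6)], (nat_lit 36), (nat_lit 1), (nat_lit 0), (nat_lit 3)⟩) (BT.node (nat_lit 62) (BT.leaf ⟨[(nat_lit 7), (nat_lit 8), (nat_lit 7), (nat_lit 8), (nat_lit 7), (nat_lit 8)], (nat_lit 21), (nat_lit 0), (nat_lit 0), (nat_lit 3)⟩) (BT.leaf ⟨[(nat_lit 8), (nat_lit 7), (nat_lit 3), (nat_lit 7), (nat_lit 3), (nat_lit 7), (nat_lit 7), (nat_lit 8), (nat_lit 7), (nat_lit 3), (nat_lit 7)], (nat_lit 25), (nat_lit 9), (nat_lit 0), (nat_lit 3)⟩)))))) (BT.node (nat_lit 74) (BT.node (nat_lit 68) (BT.node (nat_lit 65) (BT.node (nat_lit 64) (BT.leaf ⟨[(nat_lit 3), (nat_lit 1), (nat_lit 3), (nat_lit 4), (nat_lit 3), (nat_lit 3), (nat_lit 1), (nat_lit 3), (nat_lit 1), (nat_lit 3), (nat_lit 4)], (nat_lit 8), (nat_lit 6), (nat_lit 0), (nat_lit 3)⟩) (BT.leaf ⟨[(nat_lit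 4), (nat_lit 3), (nat_lit 5), (nat_lit 6), (nat_lit 5), (nat_lit 3), (nat_lit 4), (nat_lit 3), (nat_lit 5), (nat_lit 6), (nat_lit 5), (nat_lit 3), (nat_lit 4), (nat_lit 3), (nat_lit 5), (nat_lit 6), (nat_lit 5), (nat_lit 3)], (nat_lit 18), (nat_lit 4), (nat_lit 0), (nat_lit 3)⟩)) (BT.node (nat_lit 66) (BT.leaf ⟨[(nat_lit 3), (nat_lit 4), (nat_lit 3), (nat_lit 4), (nat_lit 3), (nat_lit 4)], (nat_lit 2), (nat_lit 0), (nat_lit 0), (nat_lit 3)⟩) (BT.node (nat_lit 67) (BT.leaf ⟨[(nat_lit 5), (nat_lit 3), (nat_lit 5), (nat_lit 3), (nat_lit 4), (nat_lit 3), (nat_lit 5), (nat_lit 3), (nat_lit 4), (nat_lit 3), (nat_lit 3)], (nat_lit 16), (nat_lit 1), (nat_lit 0), (nat_lit 3)⟩) (BT.leaf ⟨[(nat_lit 4), (nat_lit 3), (nat_lit 1), (nat_lit 2), (nat_lit 1), (nat_lit 3), (nat_lit 4), (nat_lit 3), (nat_lit 1), (nat_lit 2), (nat_lit 1), (nat_lit 3), (nat_lit 4), (nat_lit 3),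 (nat_lit 1), (nat_lit 2), (nat_lit 1), (nat_lit 3)], (nat_lit 10), (nat_lit 4), (nat_lit 0), (nat_lit 3)⟩)))) (BT.node (nat_lit 71) (BT.node (nat_lit 69) (BT.leaf ⟨[(nat_lit 4), (nat_lit 3), (nat_lit 3), (nat_lit 1), (nat_lit 3), (nat_lit 1), (nat_lit 3), (nat_lit 4), (nat_lit 3), (nat_lit 1), (nat_lit 3)], (nat_lit 8), (nat_lit 9), (nat_lit 0), (nat_lit 3)⟩) (BT.node (nat_lit 70) (BT.leaf ⟨[(nat_lit 2), (nat_lit 1), (nat_lit 3), (nat_lit 4), (nat_lit 3), (nat_lit 1), (nat_lit 2), (nat_lit 1), (nat_lit 3), (nat_lit 4), (nat_lit 3), (nat_lit 1), (nat_lit 2), (nat_lit 1), (nat_lit 3), (nat_lit 4), (nat_lit 3), (nat_lit 1)], (nat_lit 10), (nat_lit 1), (nat_lit 0), (nat_lit 3)⟩) (BT.leaf ⟨[(nat_lit 1), (nat_lit 2), (nat_lit 1), (nat_lit 2), (nat_lit 1), (nat_lit 2)], (nat_lit 5), (nat_lit 0), (nat_lit 0), (nat_lit 3)⟩))) (BT.node (nat_lit 72) (BT.leaf ⟨[(nat_lit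 2), (nat_lit 1), (nat_lit 3), (nat_lit 1), (nat_lit 3), (nat_lit 1), (nat_lit 1), (nat_lit 2), (nat_lit 1), (nat_lit 3), (nat_lit 1)], (nat_lit 9), (nat_lit 9), (nat_lit 0), (nat_lit 3)⟩) (BT.node (nat_lit 73) (BT.leaf ⟨[(nat_lit 1), (nat_lit 3), (nat_lit 1), (nat_lit 1), (nat_lit 2), (nat_lit 1), (nat_lit 3), (nat_lit 1), (nat_lit 2), (nat_lit 1), (nat_lit 3)], (nat_lit 9), (nat_lit 1), (nat_lit 0), (nat_lit 3)⟩) (BT.leaf ⟨[(nat_lit 7), (nat_lit 3), (nat_lit 7), (nat_lit 8), (nat_lit 7), (nat_lit 3), (nat_lit 7), (nat_lit 3), (nat_lit 7), (nat_lit 7), (nat_lit 8)], (nat_lit 25), (nat_lit 6), (nat_lit 0), (nat_lit 3)⟩))))) (BT.node (nat_lit 79) (BT.node (nat_lit 76) (BT.node (nat_lit 75) (BT.leaf ⟨[(nat_lit 3), (nat_lit 7), (nat_lit 3), (nat_lit 7), (nat_lit 7), (nat_lit 8), (nat_lit 7), (nat_lit 3), (nat_lit 7), (nat_lit 8), (nat_lit 7)], (nat_lit 25), (nat_lit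 0), (nat_lit 0), (nat_lit 3)⟩) (BT.leaf ⟨[(nat_lit 6), (nat_lit 5), (nat_lit 3), (nat_lit 4), (nat_lit 3), (nat_lit 5), (nat_lit 6), (nat_lit 5), (nat_lit 3), (nat_lit 4), (nat_lit 3), (nat_lit 5), (nat_lit 6), (nat_lit 5), (nat_lit 3), (nat_lit 4), (nat_lit 3), (nat_lit 5)], (nat_lit 18), (nat_lit 1), (nat_lit 0), (nat_lit 3)⟩)) (BT.node (nat_lit 77) (BT.leaf ⟨[(nat_lit 3), (nat_lit 5), (nat_lit 6), (nat_lit 5), (nat_lit 3), (nat_lit 5), (nat_lit 6), (nat_lit 5), (nat_lit 5), (nat_lit 3), (nat_lit 5)], (nat_lit 64), (nat_lit 10), (nat_lit 0), (nat_lit 3)⟩) (BT.node (nat_lit 78) (BT.leaf ⟨[(nat_lit 4), (nat_lit 3), (nat_lit 7), (nat_lit 8), (nat_lit 7), (nat_lit 3), (nat_lit 4), (nat_lit 3), (nat_lit 7), (nat_lit 8), (nat_lit 7), (nat_lit 3), (nat_lit 4), (nat_lit 3), (nat_lit 7), (nat_lit 8), (nat_lit 7), (nat_lit 3)], (nat_lit 26), (nat_lit 4), (nat_lit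 0), (nat_lit 3)⟩) (BT.leaf ⟨[(nat_lit 7), (nat_lit 3), (nat_lit 7), (nat_lit 3), (nat_lit 4), (nat_lit 3), (nat_lit 7), (nat_lit 3), (nat_lit 4), (nat_lit 3), (nat_lit 3)], (nat_lit 24), (nat_lit 1), (nat_lit 0), (nat_lit 3)⟩)))) (BT.node (nat_lit 82) (BT.node (nat_lit 80) (BT.leaf ⟨[(nat_lit 4), (nat_lit 3), (nat_lit 3), (nat_lit 7), (nat_lit 3), (nat_lit 7), (nat_lit 3), (nat_lit 4), (nat_lit 3), (nat_lit 7), (nat_lit 3)], (nat_lit 24), (nat_lit 9), (nat_lit 0), (nat_lit 3)⟩) (BT.node (nat_lit 81) (BT.leaf ⟨[(nat_lit 4), (nat_lit 3), (nat_lit 3), (nat_lit 5), (nat_lit 3), (nat_lit 5), (nat_lit 3), (nat_lit 4), (nat_lit 3), (nat_lit 5), (nat_lit 3)], (nat_lit 16), (nat_lit 9), (nat_lit 0), (nat_lit 3)⟩) (BT.leaf ⟨[(nat_lit 4), (nat_lit 3), (nat_lit 7), (nat_lit 3), (nat_lit 4), (nat_lit 3), (nat_lit 3), (nat_lit 7), (nat_lit 3), (nat_lit 7), (nat_lit 3)],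 (nat_lit 24), (nat_lit 5), (nat_lit 0), (nat_lit 3)⟩))) (BT.node (nat_lit 83) (BT.leaf ⟨[(nat_lit 3), (nat_lit 4), (nat_lit 3), (nat_lit 3), (nat_lit 7), (nat_lit 3), (nat_lit 7), (nat_lit 3), (nat_lit 4), (nat_lit 3), (nat_lit 7)], (nat_lit 24), (nat_lit 8), (nat_lit 0), (nat_lit 3)⟩) (BT.node (nat_lit 84) (BT.leaf ⟨[(nat_lit 3), (nat_lit 7), (nat_lit 3), (nat_lit 4), (nat_lit 3), (nat_lit 7), (nat_lit 3), (nat_lit 4), (nat_lit 3), (nat_lit 3), (nat_lit 7)], (nat_lit 24), (nat_lit 2), (nat_lit 0), (nat_lit 3)⟩) (BT.leaf ⟨[(nat_lit 4), (nat_lit 3), (nat_lit 7), (nat_lit 3), (nat_lit 7), (nat_lit 3), (nat_lit 3), (nat_lit 4), (nat_lit 3), (nat_lit 7), (nat_lit 3)], (nat_lit 71), (nat_lit 5), (nat_lit 0), (nat_lit 3)⟩))))))))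
noncomputable def e8_hcs : List CW := [⟨[(nat_lit 7)], (nat_lit 0), (nat_lit 0), (nat_lit 0), (nat_lit 0)⟩, ⟨[(nat_lit 6)], (nat_lit 1), (nat_lit 0), (nat_lit 0), (nat_lit 0)⟩, ⟨[(nat_lit 5)], (nat_lit 2), (nat_lit 0), (nat_lit 0), (nat_lit 0)⟩, ⟨[(nat_lit 4)], (nat_lit 3), (nat_lit 0), (nat_lit 0), (nat_lit 0)⟩, ⟨[(nat_lit 3)], (nat_lit 4), (nat_lit 0), (nat_lit 0), (nat_lit 0)⟩, ⟨[(nat_lit 2)], (nat_lit 5), (nat_lit 0), (nat_lit 0), (nat_lit 0)⟩, ⟨[(nat_lit 1)], (nat_lit 6), (nat_lit 0), (nat_lit 0), (nat_lit 0)⟩, ⟨[(nat_lit 7)], (nat_lit 7), (nat_lit 0), (nat_lit 0), (nat_lit 0)⟩, ⟨[(nat_lit 6)], (nat_lit 8), (nat_lit 0), (nat_lit 0), (nat_lit 0)⟩, ⟨[(nat_lit 5)], (nat_lit 9), (nat_lit 0), (nat_lit 0), (nat_lit 0)⟩, ⟨[(nat_lit 4)], (nat_lit 10), (nat_lit 0), (nat_lit 0), (nat_lit 0)⟩, ⟨[(nat_lit 3)], (nat_lit 11), (nat_lit 0), (nat_lit 0), (nat_lit 0)⟩,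 ⟨[(nat_lit 2)], (nat_lit 12), (nat_lit 0), (nat_lit 0), (nat_lit 0)⟩, ⟨[(nat_lit 1)], (nat_lit 13), (nat_lit 0), (nat_lit 0), (nat_lit 0)⟩]
noncomputable def e8_H (x j : Nat) : Bx (Nat → Nat → Nat) := mkH e8_L e8_pb.1 e8_e.get (lmap CW.w e8_hcs) (nat_lit 135) (nat_lit 136) (nat_lit 9) (nat_lit 256) (nat_lit 32768) (nat_lit 16383) x (e8_rots.get j)
noncomputable def e8_F (x b : Nat) : Bool := blkOK e8_H e8_ch (nat_lit 136) (nat_lit 256) (nat_lit 128) (nat_lit 8) (nat_lit 255) (nat_lit 21) (nat_lit 2097151) x b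

theorem e8_k0_0 : allFrom (e8_F (nat_lit 0)) (nat_lit 0) (nat_lit 4) = true := by decide +kernel
theorem e8_k1_0 : allFrom (e8_F (nat_lit 1)) (nat_lit 0) (nat_lit 4) = true := by decide +kernel
theorem e8_k2_0 : allFrom (e8_F (nat_lit 2)) (nat_lit 0) (nat_lit 4) = true := by decide +kernel
theorem e8_k3_0 : allFrom (e8_F (nat_lit 3)) (nat_lit 0) (nat_lit 4) = true := by decide +kernel
theorem e8_k4_0 : allFrom (e8_F (nat_lit 4)) (nat_lit 0) (nat_lit 4) = true := by decide +kernel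
theorem e8_k5_0 : allFrom (e8_F (nat_lit 5)) (nat_lit 0) (nat_lit 4) = true := by decide +kernel
theorem e8_k6_0 : allFrom (e8_F (nat_lit 6)) (nat_lit 0) (nat_lit 4) = true := by decide +kernel
theorem e8_k7_0 : allFrom (e8_F (nat_lit 7)) (nat_lit 0) (nat_lit 4) = true := by decide +kernel
theorem e8_k8_0 : allFrom (e8_F (nat_lit 8)) (nat_lit 0) (nat_lit 4) = true := by decide +kernel

noncomputable def N0_0 : Net := (Net.cons (nat_lit 1) (nat_lit 0x4050050005015100005005001410) (Net.cons (nat_lit 2) (nat_lit 0x103013130110101022213030213210) (Net.cons (nat_lit 4) (nat_lit 0x809040904040b0802040100020200) (Net.cons (nat_lit 8) (nat_lit 0x84008600f20010008d000b0000) (Net.cons (nat_lit 16) (nat_lit 0x400000a642000090e400000000) (Net.cons (nat_lit 32) (nat_lit 0x212f90000000080000000) (Net.cons (nat_lit 64) (nat_lit 0x212f9a0000000) (Net.cons (nat_lit 32) (nat_lit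 0x42b6f90000000090fd0000) (Net.cons (nat_lit 16) (nat_lit 0xc00000ed440000cff60000cf00) (Net.cons (nat_lit 8) (nat_lit 0x8d008400e0000200db001b0030) (Net.cons (nat_lit 4) (nat_lit 0x909040d04040f0c0200050406060c) (Net.cons (nat_lit 2) (nat_lit 0x103013130110101022213030213210) (Net.cons (nat_lit 1) (nat_lit 0x4050050005415100045005001411) Net.nil)))))))))))))
noncomputable def N0_1 : Net := (Net.cons (nat_lit 1) (nat_lit 0x111504051005455400055544045140) (Net.cons (nat_lit 2) (nat_lit 0x320032001100000023220033200) (Net.cons (nat_lit 4) (nat_lit 0x106000e0908080401080e00080800) (Net.cons (nat_lit 8) (nat_lit 0x63000f0001008b0002006b0000) (Net.cons (nat_lit 16) (nat_lit 0x62000000000000801000000000) (Net.cons (nat_lit 32) (nat_lit 0x1020000000069000000) (Net.cons (nat_lit 64) (nat_lit 0x10269000000) (Net.cons (nat_lit 32) (nat_lit 0x62010200000000f9ff0000)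 (Net.cons (nat_lit 16) (nat_lit 0x63000086910000068400006f00) (Net.cons (nat_lit 8) (nat_lit 0x6b008f0089000b00ea00eb0090) (Net.cons (nat_lit 4) (nat_lit 0x306020e0908080401080e000f0300) (Net.cons (nat_lit 2) (nat_lit 0x320032001100001022220121233) (Net.cons (nat_lit 1) (nat_lit 0x111504051005455400055544400010) Net.nil)))))))))))))
noncomputable def N0_2 : Net := (Net.cons (nat_lit 1) (nat_lit 0x101141011000441140415504045510) (Net.cons (nat_lit 2) (nat_lit 0x1111322220002201013102000200) (Net.cons (nat_lit 4) (nat_lit 0x60e0d0905010501050304000800) (Net.cons (nat_lit 8) (nat_lit 0x60000900e40001002e00080000) (Net.cons (nat_lit 16) (nat_lit 0xd40000068e00000e8700000200) (Net.cons (nat_lit 32) (nat_lit 0x891f6000000005f000000) (Net.cons (nat_lit 64) (nat_lit 0x891f6df000000) (Net.cons (nat_lit 32) (nat_lit 0xdcd7f600000000dfff2a00) (Net.cons (nat_lit 16) (nat_lit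 0xf70000ae870000060700000f80) (Net.cons (nat_lit 8) (nat_lit 0x60008100fc008900be000800d8) (Net.cons (nat_lit 4) (nat_lit 0x60e0d0905090d01050b0c08000a) (Net.cons (nat_lit 2) (nat_lit 0x1111332220002301013102000200) (Net.cons (nat_lit 1) (nat_lit 0x101141011400441141415504045510) Net.nil)))))))))))))
noncomputable def N0_3 : Net := (Net.cons (nat_lit 1) (nat_lit 0x40115045045054001410014004000) (Net.cons (nat_lit 2) (nat_lit 0x2212102200120103121200102300) (Net.cons (nat_lit 4) (nat_lit 0x5080c030a020d0308030f0100) (Net.cons (nat_lit 8) (nat_lit 0x2a002800d8002000e000080004) (Net.cons (nat_lit 16) (nat_lit 0x43000064100000f46000002400) (Net.cons (nat_lit 32) (nat_lit 0x8493d6000000006e000000) (Net.cons (nat_lit 64) (nat_lit 0x8493d6ee000000) (Net.cons (nat_lit 32) (nat_lit 0xc7ffd600000000fe7ba400) (Net.cons (nat_lit 16) (nat_lit 0x4f0000f428000064700000a784)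 (Net.cons (nat_lit 8) (nat_lit 0x8003800c8003000f00018003c) (Net.cons (nat_lit 4) (nat_lit 0x207080e030e020d030c030f0104) (Net.cons (nat_lit 2) (nat_lit 0x2212102200120123121202102300) (Net.cons (nat_lit 1) (nat_lit 0x40115045045054001410014004000) Net.nil)))))))))))))
noncomputable def N0_4 : Net := (Net.cons (nat_lit 1) (nat_lit 0x405444000444401411110454100400) (Net.cons (nat_lit 2) (nat_lit 0x202320121232210232300231100100) (Net.cons (nat_lit 4) (nat_lit 0x606010f0505010c0202060d040100) (Net.cons (nat_lit 8) (nat_lit 0x3c004700c80007006600050001) (Net.cons (nat_lit 16) (nat_lit 0x20000059150000d34000005200) (Net.cons (nat_lit 32) (nat_lit 0x89009a00000000f6000000) (Net.cons (nat_lit 64) (nat_lit 0x89009af6040000) (Net.cons (nat_lit 32) (nat_lit 0xa9ff9e00000000f7707200) (Net.cons (nat_lit 16) (nat_lit 0xfb0000c3460000534500005e01) (Net.cons (nat_lit 8)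 (nat_lit 0xa600550050000700f400050011) (Net.cons (nat_lit 4) (nat_lit 0x80e080e0505080c02020e0d040100) (Net.cons (nat_lit 2) (nat_lit 0x310332021230230232302231100100) (Net.cons (nat_lit 1) (nat_lit 0x10445510445541511111554100400) Net.nil)))))))))))))
noncomputable def N0_5 : Net := (Net.cons (nat_lit 1) (nat_lit 0x501440110004505001041541000100) (Net.cons (nat_lit 2) (nat_lit 0x213131312101023221100210000) (Net.cons (nat_lit 4) (nat_lit 0xb0c030602020e020104000c050000) (Net.cons (nat_lit 8) (nat_lit 0xb008300010063006000030081) (Net.cons (nat_lit 16) (nat_lit 0x400000b1200000b10000001300) (Net.cons (nat_lit 32) (nat_lit 0x15003c00000000bb000000) (Net.cons (nat_lit 64) (nat_lit 0x15003cbb000000) (Net.cons (nat_lit 32) (nat_lit 0x55fb3c00000000ffaa5380) (Net.cons (nat_lit 16) (nat_lit 0xfb0000f5e20000b14000001b41) (Net.cons (nat_lit 8) (nat_lit 0x4f00c300410063006000030081)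 (Net.cons (nat_lit 4) (nat_lit 0xf0c030602020e020104000c050000) (Net.cons (nat_lit 2) (nat_lit 0x113132312101023221100210000) (Net.cons (nat_lit 1) (nat_lit 0x401140115004505005041541000100) Net.nil)))))))))))))
noncomputable def N0_6 : Net := (Net.cons (nat_lit 1) (nat_lit 0x414444404100411040014015000000) (Net.cons (nat_lit 2) (nat_lit 0x12131300013310132032310100000) (Net.cons (nat_lit 4) (nat_lit 0xe0b0b0c020b04000b0c050000) (Net.cons (nat_lit 8) (nat_lit 0x860089000200ab006900210000) (Net.cons (nat_lit 16) (nat_lit 0x4400005b620000914000009200) (Net.cons (nat_lit 32) (nat_lit 0x8000f2000000009f000000) (Net.cons (nat_lit 64) (nat_lit 0x8000f29f200000) (Net.cons (nat_lit 32) (nat_lit 0xc4fff200000000ff46b200) (Net.cons (nat_lit 16) (nat_lit 0xff000079690000934b00009f00) (Net.cons (nat_lit 8) (nat_lit 0xa4008b000000a9006b00230010) (Net.cons (nat_lit 4) (nat_lit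 0x6020c090b0e020b04000b0c050000) (Net.cons (nat_lit 2) (nat_lit 0x12131003013310132032310100000) (Net.cons (nat_lit 1) (nat_lit 0x410044101100451044014015000000) Net.nil)))))))))))))
noncomputable def N0_7 : Net := (Net.cons (nat_lit 1) (nat_lit 0x145111411011111004450014010000) (Net.cons (nat_lit 2) (nat_lit 0x2101101132101003322023010000) (Net.cons (nat_lit 4) (nat_lit 0x90c090f0e090b050c0108040000) (Net.cons (nat_lit 8) (nat_lit 0xd2005400a30050004200100010) (Net.cons (nat_lit 16) (nat_lit 0x88000085220000141200001400) (Net.cons (nat_lit 32) (nat_lit 0x122bb0000000056000000) (Net.cons (nat_lit 64) (nat_lit 0x122bb56100000) (Net.cons (nat_lit 32) (nat_lit 0x89ffbb00000000f69ed410) (Net.cons (nat_lit 16) (nat_lit 0xff00002d560000150200001650) (Net.cons (nat_lit 8) (nat_lit 0x780074000b00d0006200140010) (Net.cons (nat_lit 4) (nat_lit 0xa0306010706030b050c0b08040000)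 (Net.cons (nat_lit 2) (nat_lit 0x2101101132101003322023010000) (Net.cons (nat_lit 1) (nat_lit 0x145111411011111444450015410000) Net.nil)))))))))))))
noncomputable def N0 : List Net := [N0_0, N0_1, N0_2, N0_3, N0_4, N0_5, N0_6, N0_7]
noncomputable def N1_0 : Net := (Net.cons (nat_lit 1) (nat_lit 0x104154110450041005414404515040) (Net.cons (nat_lit 2) (nat_lit 0x121020002311101212012320313200) (Net.cons (nat_lit 4) (nat_lit 0x20b020e05060805010c0e0d080700) (Net.cons (nat_lit 8) (nat_lit 0x1a00e0000f002f006d00c10010) (Net.cons (nat_lit 16) (nat_lit 0x7b0000f9780000df3800006c00) (Net.cons (nat_lit 32) (nat_lit 0x11120000000000a2000000) (Net.cons (nat_lit 64) (nat_lit 0x956f65bba450cc) (Net.cons (nat_lit 32) (nat_lit 0x19ed1300000000f84e6fb0) (Net.cons (nat_lit 16) (nat_lit 0xb50000aca60000666e0000f0ec) (Net.cons (nat_lit 8) (nat_lit 0x5100300077000800e200ae007a)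 (Net.cons (nat_lit 4) (nat_lit 0x10c0f0608070d0a0902090d0f030e) (Net.cons (nat_lit 2) (nat_lit 0x102301003130000323332313123120) (Net.cons (nat_lit 1) (nat_lit 0x50004451004111555545115511140) Net.nil)))))))))))))
noncomputable def N1_1 : Net := (Net.cons (nat_lit 1) (nat_lit 0x411544515444405014515101000000) (Net.cons (nat_lit 2) (nat_lit 0x302300301001220121230132220000) (Net.cons (nat_lit 4) (nat_lit 0x70504090a05090f03040004020000) (Net.cons (nat_lit 8) (nat_lit 0x8b0049002d006100cc00900082) (Net.cons (nat_lit 16) (nat_lit 0x880000680c0000092c00007e00) (Net.cons (nat_lit 32) (nat_lit 0x5010000000000082000000) (Net.cons (nat_lit 64) (nat_lit 0xf40488e2241880) (Net.cons (nat_lit 32) (nat_lit 0xdbfb2700000000968a0b42) (Net.cons (nat_lit 16) (nat_lit 0xdb00007407000029a600007e12) (Net.cons (nat_lit 8) (nat_lit 0x8300410025006900cc00d80082) (Net.cons (nat_lit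 4) (nat_lit 0xf0d04090205090f0b0c080c020000) (Net.cons (nat_lit 2) (nat_lit 0x302322301023220121230132220000) (Net.cons (nat_lit 1) (nat_lit 0x411544515444405014515101000000) Net.nil)))))))))))))
noncomputable def N1_2 : Net := (Net.cons (nat_lit 1) (nat_lit 0x504055455451115015000101540000) (Net.cons (nat_lit 2) (nat_lit 0x210002103022032202323022030100) (Net.cons (nat_lit 4) (nat_lit 0x4050f0c0c0a03010302040c0c0200) (Net.cons (nat_lit 8) (nat_lit 0xa007b009900c6004e00ac0008) (Net.cons (nat_lit 16) (nat_lit 0xfd000001640000d2000000be00) (Net.cons (nat_lit 32) (nat_lit 0x14b8e0000000012000000) (Net.cons (nat_lit 64) (nat_lit 0xcec10337a73acc) (Net.cons (nat_lit 32) (nat_lit 0x3cb48100000000044af248) (Net.cons (nat_lit 16) (nat_lit 0xe0000e7fb00007de000000948) (Net.cons (nat_lit 8) (nat_lit 0x330050003b007e004c003e00f0) (Net.cons (nat_lit 4) (nat_lit 0xe050704030b090603070807040a04)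 (Net.cons (nat_lit 2) (nat_lit 0x31221201011200030300021122030) (Net.cons (nat_lit 1) (nat_lit 0x154545104500515410041051044500) Net.nil)))))))))))))
noncomputable def N1_3 : Net := (Net.cons (nat_lit 1) (nat_lit 0x11400144101551444404004414500) (Net.cons (nat_lit 2) (nat_lit 0x230221311300222321131302010300) (Net.cons (nat_lit 4) (nat_lit 0xe000c020e090a07050b0f04060500) (Net.cons (nat_lit 8) (nat_lit 0x4009b0045009300830052000a) (Net.cons (nat_lit 16) (nat_lit 0xc6000082030000c88600000700) (Net.cons (nat_lit 32) (nat_lit 0x22c89100000000d0000000) (Net.cons (nat_lit 64) (nat_lit 0x4f0e91d828c140) (Net.cons (nat_lit 32) (nat_lit 0xbef1e00000000ad0482e2) (Net.cons (nat_lit 16) (nat_lit 0xd70000a2e2000022c700008ed4) (Net.cons (nat_lit 8) (nat_lit 0x2400f9004e001a00810090000e) (Net.cons (nat_lit 4) (nat_lit 0x40601020c0b02020c0f0404020108) (Net.cons (nat_lit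 2) (nat_lit 0x201033121303232133312030233300) (Net.cons (nat_lit 1) (nat_lit 0x15555555541440150515005555000) Net.nil)))))))))))))
noncomputable def N1_4 : Net := (Net.cons (nat_lit 1) (nat_lit 0x15441544051401504005151440550) (Net.cons (nat_lit 2) (nat_lit 0x210020023221022211031033021000) (Net.cons (nat_lit 4) (nat_lit 0x30301010109020701070e05070200) (Net.cons (nat_lit 8) (nat_lit 0xcc007400740060002b00c80024) (Net.cons (nat_lit 16) (nat_lit 0x27000044830000e10100002200) (Net.cons (nat_lit 32) (nat_lit 0xd440000000019000000) (Net.cons (nat_lit 64) (nat_lit 0xce7537db90a04) (Net.cons (nat_lit 32) (nat_lit 0xc42ce700000000dbaac980) (Net.cons (nat_lit 16) (nat_lit 0x6a000044100000b621000051a0) (Net.cons (nat_lit 8) (nat_lit 0xcb007c003d006900cb0075009c) (Net.cons (nat_lit 4) (nat_lit 0xb050d03030a000002080e07000f00) (Net.cons (nat_lit 2) (nat_lit 0x131221033320231322310100022200)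 (Net.cons (nat_lit 1) (nat_lit 0x500054051150550145110010544050) Net.nil)))))))))))))
noncomputable def N1_5 : Net := (Net.cons (nat_lit 1) (nat_lit 0x54144100104504514011410000500) (Net.cons (nat_lit 2) (nat_lit 0x311010202131100103131123130000) (Net.cons (nat_lit 4) (nat_lit 0xf080f05060902060a020705010c00) (Net.cons (nat_lit 8) (nat_lit 0x4800600041007000160020000b) (Net.cons (nat_lit 16) (nat_lit 0xa0000034810000419500000c00) (Net.cons (nat_lit 32) (nat_lit 0x1881190000000038000000) (Net.cons (nat_lit 64) (nat_lit 0x60bf13d9a8848) (Net.cons (nat_lit 32) (nat_lit 0xa557e9000000007ece185b) (Net.cons (nat_lit 16) (nat_lit 0x9f000015cf0000a7010000a853) (Net.cons (nat_lit 8) (nat_lit 0x1a00ae00cc0014004400e90063) (Net.cons (nat_lit 4) (nat_lit 0x107010e050d0c0d07040505040e00) (Net.cons (nat_lit 2) (nat_lit 0x23211121020033010311233233010) (Net.cons (nat_lit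 1) (nat_lit 0x405510501504545414541050550500) Net.nil)))))))))))))
noncomputable def N1_6 : Net := (Net.cons (nat_lit 1) (nat_lit 0x505410141040100141404415401500) (Net.cons (nat_lit 2) (nat_lit 0x132020120120011103110022300020) (Net.cons (nat_lit 4) (nat_lit 0xd090b0d010b0b0308000a040a0800) (Net.cons (nat_lit 8) (nat_lit 0xc1008b009b001000a2009800a1) (Net.cons (nat_lit 16) (nat_lit 0x30000d82b0000d12000004800) (Net.cons (nat_lit 32) (nat_lit 0xad25d40000000000000000) (Net.cons (nat_lit 64) (nat_lit 0x9df5d708300220) (Net.cons (nat_lit 32) (nat_lit 0x9ff8f400000000fd5b1268) (Net.cons (nat_lit 16) (nat_lit 0xcf00000c28000055210000c201) (Net.cons (nat_lit 8) (nat_lit 0x3d006400b0001900e700b100e9) (Net.cons (nat_lit 4) (nat_lit 0x10a0f030d0d0c0b0a000104020d08) (Net.cons (nat_lit 2) (nat_lit 0x231010102321033213331122121120) (Net.cons (nat_lit 1) (nat_lit 0x101015551045545401045514400)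 Net.nil)))))))))))))
noncomputable def N1_7 : Net := (Net.cons (nat_lit 1) (nat_lit 0x504154401511140401441455455010) (Net.cons (nat_lit 2) (nat_lit 0x113000202213222213202110133200) (Net.cons (nat_lit 4) (nat_lit 0x30d050d0902050f010b07090c0000) (Net.cons (nat_lit 8) (nat_lit 0x4d00b3002e00ef000600fc005a) (Net.cons (nat_lit 16) (nat_lit 0xb6000027160000101800001200) (Net.cons (nat_lit 32) (nat_lit 0x28080c0000000068000000) (Net.cons (nat_lit 64) (nat_lit 0x831a1efc795212) (Net.cons (nat_lit 32) (nat_lit 0xa87d1200000000dd39ca4a) (Net.cons (nat_lit 16) (nat_lit 0x550000b457000038b70000fb10) (Net.cons (nat_lit 8) (nat_lit 0xd20034002400de00a40095004a) (Net.cons (nat_lit 4) (nat_lit 0xb090800090104080f0a0e0b090800) (Net.cons (nat_lit 2) (nat_lit 0x222112323030313013311222323200) (Net.cons (nat_lit 1) (nat_lit 0x155551040400414111015544054110) Net.nil)))))))))))))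
noncomputable def N1_8 : Net := (Net.cons (nat_lit 1) (nat_lit 0x110144411411501404404154115000) (Net.cons (nat_lit 2) (nat_lit 0x230210012032013310212302002000) (Net.cons (nat_lit 4) (nat_lit 0x7080f080600080300070a02000000) (Net.cons (nat_lit 8) (nat_lit 0x9004800000012002100900002) (Net.cons (nat_lit 16) (nat_lit 0x4000000021000009a200000100) (Net.cons (nat_lit 32) (nat_lit 0x1b92000000000000000000) (Net.cons (nat_lit 64) (nat_lit 0xa91b4240328108) (Net.cons (nat_lit 32) (nat_lit 0x1b92060000000001820022) (Net.cons (nat_lit 16) (nat_lit 0x42000020a1000009b400003102) (Net.cons (nat_lit 8) (nat_lit 0x9006900080012006100900002) (Net.cons (nat_lit 4) (nat_lit 0x7080b080600080a04070a02000800) (Net.cons (nat_lit 2) (nat_lit 0x230210002023012130030300102000) (Net.cons (nat_lit 1) (nat_lit 0x110104010011400005404544105000) Net.nil)))))))))))))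
noncomputable def N1_9 : Net := (Net.cons (nat_lit 1) (nat_lit 0x440015000005551401010404100000) (Net.cons (nat_lit 2) (nat_lit 0x3330210212323012222000000) (Net.cons (nat_lit 4) (nat_lit 0x10a0b030c0c000e010308050000) (Net.cons (nat_lit 8) (nat_lit 0x4f00210002000100a5000d0040) (Net.cons (nat_lit 16) (nat_lit 0x760000449e0000cc0800000000) (Net.cons (nat_lit 32) (nat_lit 0x8681000000000041000000) (Net.cons (nat_lit 64) (nat_lit 0x9ed91661181020) (Net.cons (nat_lit 32) (nat_lit 0xbe97c000000000c5393048) (Net.cons (nat_lit 16) (nat_lit 0x770000449f0000cc0800000300) (Net.cons (nat_lit 8) (nat_lit 0x4f007b0002000100a5000d0040) (Net.cons (nat_lit 4) (nat_lit 0xf0a0b030c0c000e010308050000) (Net.cons (nat_lit 2) (nat_lit 0x200003330210212323012222000000) (Net.cons (nat_lit 1) (nat_lit 0x444415000005551401010404100000) Net.nil)))))))))))))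
noncomputable def N1 : List Net := [N1_0, N1_1, N1_2, N1_3, N1_4, N1_5, N1_6, N1_7, N1_8, N1_9]
noncomputable def NW : List (List Nat) := [[(nat_lit 4), (nat_lit 8), (nat_lit 4), (nat_lit 12), (nat_lit 15), (nat_lit 7), (nat_lit 13), (nat_lit 9), (nat_lit 5), (nat_lit 13), (nat_lit 13), (nat_lit 11), (nat_lit 1), (nat_lit 9)],
  [(nat_lit 11), (nat_lit 9), (nat_lit 11)],
  [(nat_lit 18), (nat_lit 18), (nat_lit 20), (nat_lit 18), (nat_lit 18), (nat_lit 18), (nat_lit 19), (nat_lit 18), (nat_lit 19), (nat_lit 17), (nat_lit 17)],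
  [(nat_lit 17), (nat_lit 19), (nat_lit 18), (nat_lit 19), (nat_lit 19), (nat_lit 19)],
  [(nat_lit 24), (nat_lit 21), (nat_lit 24), (nat_lit 21), (nat_lit 23)],
  [(nat_lit 22), (nat_lit 23), (nat_lit 22), (nat_lit 24), (nat_lit 24), (nat_lit 21), (nat_lit 24)],
  [(nat_lit 27), (nat_lit 26), (nat_lit 27), (nat_lit 26), (nat_lit 26), (nat_lit 28)],
  [(nat_lit 28), (nat_lit 26), (nat_lit 26), (nat_lit 27), (nat_lit 26), (nat_lit 28), (nat_lit 28)],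
  [(nat_lit 30), (nat_lit 31), (nat_lit 29), (nat_lit 31)],
  [(nat_lit 32), (nat_lit 30), (nat_lit 30), (nat_lit 32), (nat_lit 32), (nat_lit 29)]]
noncomputable def NC : List Lvl := [⟨(nat_lit 0), [[(nat_lit 1)],
  [(nat_lit 3)],
  [(nat_lit 5)],
  [(nat_lit 7)],
  [(nat_lit 9)],
  [(nat_lit 11)],
  [(nat_lit 13)],
  [(nat_lit 15)]], (nat_lit 4)⟩,
  ⟨(nat_lit 1), [[(nat_lit 17)],
  [(nat_lit 19)]], (nat_lit 9)⟩,
  ⟨(nat_lit 2), [[(nat_lit 21)],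
  [(nat_lit 23)]], (nat_lit 5)⟩,
  ⟨(nat_lit 4), [[(nat_lit 25)],
  [(nat_lit 27)]], (nat_lit 4)⟩,
  ⟨(nat_lit 6), [[(nat_lit 29)],
  [(nat_lit 31)]], (nat_lit 2)⟩,
  ⟨(nat_lit 3), [[(nat_lit 33)],
  [(nat_lit 35)]], (nat_lit 2)⟩]
noncomputable def NV : List (List Nat) := [[(nat_lit 0xdfe1ffd00ff7f80003f07e000c60a0), (nat_lit 0x201e002ff00807fffc0f81fff39f5f)],
  [(nat_lit 0xf7b79ec93c160b9e048191f1809c13), (nat_lit 0x8486136c3e9f461fb7e6e0e7f63ec)],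
  [(nat_lit 0xfddd4528828942e0a06a0d78643dbf), (nat_lit 0x222bad77d76bd1f5f95f2879bc240)],
  [(nat_lit 0x84214b258ad2eb9565dbeefff), (nat_lit 0xfffff7bdeb4da752d146a9a2411000)],
  [(nat_lit 0xbe1ff809fff00018fff000077c0388), (nat_lit 0x41e007f6000fffe7000ffff883fc77)],
  [(nat_lit 0xeeee79d0f0703be01c1f8238138445), (nat_lit 0x1111862f0f8fc41fe3e07dc7ec7bba)],
  [(nat_lit 0xfb7aa23142814686a30be1468bc2ef), (nat_lit 0x4855dcebd7eb9795cf41eb9743d10)],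
  [(nat_lit 0x10842a552a5395d2bb2bddf7ff), (nat_lit 0xffffef7bd5aad5ac6a2d44d4220800)]]
noncomputable def NS : Net := (Net.cons (nat_lit 1) (nat_lit 0x455150154040510105044104100514) (Net.cons (nat_lit 2) (nat_lit 0x220201131110201300313310003230) (Net.cons (nat_lit 4) (nat_lit 0x8040c040206030b00020806000e00) (Net.cons (nat_lit 8) (nat_lit 0x6c0031002e003300bc00050009) (Net.cons (nat_lit 16) (nat_lit 0x5c0000b1c90000694200004100) (Net.cons (nat_lit 32) (nat_lit 0x204b9000000006a000000) (Net.cons (nat_lit 64) (nat_lit 0x4207916e081068) (Net.cons (nat_lit 32) (nat_lit 0x12cd9500000000b98526ea) (Net.cons (nat_lit 16) (nat_lit 0x510000eafd0000acbb0000fa26) (Net.cons (nat_lit 8) (nat_lit 0xf400e9008a008600fd00160037) (Net.cons (nat_lit 4) (nat_lit 0xa070d040c0b060d09090b04020d00) (Net.cons (nat_lit 2) (nat_lit 0x220131320020131303023321332311) (Net.cons (nat_lit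 1) (nat_lit 0x504154144145404004104541011405) Net.nil)))))))))))))
noncomputable def NSc : List (List Nat) := [[(nat_lit 0), (nat_lit 0xffffffffffffffffffffffffffffff)],
  [(nat_lit 0), (nat_lit 0xffffffffffffffffffffffffffffff)],
  [(nat_lit 0), (nat_lit 0xffffffffffffffffffffffffffffff)],
  [(nat_lit 0), (nat_lit 0xffffffffffffffffffffffffffffff)],
  [(nat_lit 0), (nat_lit 0xffffffffffffffffffffffffffffff)],
  [(nat_lit 0), (nat_lit 0xffffffffffffffffffffffffffffff)],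
  [(nat_lit 0), (nat_lit 0xffffffffffffffffffffffffffffff)],
  [(nat_lit 0), (nat_lit 0xffffffffffffffffffffffffffffff)]]
noncomputable def NA : List (List (List Nat)) := [[[1, 1, 0, 0, 0, 0, 0, 0], [0, 1, 0, 0, 0, 0, 0, 0], [0, 0, 1, 0, 0, 0, 0, 0], [0, 0, 0, 1, 0, 0, 0, 0], [0, 0, 0, 0, 1, 0, 0, 0], [0, 0, 0, 0, 1, 1, 0, 0], [0, 0, 0, 0, 0, 0, 1, 0], [0, 0, 0, 0, 0, 0, 0, 1]],
  [[1, 0, 0, 0, 0, 0, 0, 0], [1, 1, 0, 0, 0, 0, 0, 0], [0, 0, 1, 0, 0, 0, 0, 0], [0, 0, 0, 1, 0, 0, 0, 0], [0, 0, 0, 0, 1, 1, 0, 0], [0, 0, 0, 0, 0, 1, 0, 0], [0, 0, 0, 0, 0, 0, 1, 0], [0, 0, 0, 0, 0, 0, 0, 1]],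
  [[1, 0, 0, 0, 0, 0, 0, 0], [0, 1, 1, 0, 0, 0, 0, 0], [0, 0, 1, 0, 0, 0, 0, 0], [0, 0, 0, 1, 0, 0, 0, 0], [0, 0, 0, 0, 1, 0, 0, 0], [0, 0, 0, 0, 0, 1, 0, 0], [0, 0, 0, 0, 0, 1, 1, 0], [0, 0, 0, 0, 0, 0, 0, 1]],
  [[1, 0, 0, 0, 0, 0, 0, 0], [0, 1, 0, 0, 0, 0, 0, 0], [0, 1, 1, 0, 0, 0, 0, 0], [0, 0, 0, 1, 0, 0, 0, 0], [0, 0, 0, 0, 1, 0, 0, 0], [0, 0, 0, 0, 0, 1, 1, 0], [0, 0, 0, 0, 0, 0, 1, 0], [0, 0, 0, 0, 0, 0, 0, 1]],
  [[1, 0, 0, 0, 0, 0, 0, 0], [0, 1, 0, 0, 0, 0, 0, 0], [0, 0, 1, 1, 0, 0, 0, 0], [0, 0, 0, 1, 0, 0, 0, 0], [0, 0, 0, 0, 1, 0, 0, 0], [0, 0, 0, 0, 0, 1, 0, 0], [0, 0, 0, 0, 0, 0, 1, 0], [0, 0, 0, 0, 0, 0, 1, 1]],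
  [[1, 0, 0, 0, 0, 0, 0, 0], [0, 1, 0, 0, 0, 0, 0, 0], [0, 0, 1, 0, 0, 0, 0, 0], [0, 0, 1, 1, 0, 0, 0, 0], [0, 0, 0, 0, 1, 0, 0, 0], [0, 0, 0, 0, 0, 1, 0, 0], [0, 0, 0, 0, 0, 0, 1, 1], [0, 0, 0, 0, 0, 0, 0, 1]],
  [[1, 0, 0, 0, 0, 0, 0, 0], [0, 1, 0, 0, 0, 0, 0, 0], [0, 0, 1, 0, 0, 0, 0, 1], [0, 0, 0, 1, 0, 0, 1, 0], [0, 0, 0, 0, 1, 0, 0, 0], [0, 0, 0, 0, 0, 1, 0, 0], [0, 0, 0, 0, 0, 0, 1, 0], [0, 0, 0, 0, 0, 0, 0, 1]],
  [[1, 0, 0, 0, 0, 0, 0, 0], [0, 1, 0, 0, 0, 0, 0, 0], [0, 0, 1, 0, 0, 0, 0, 0], [0, 0, 0, 1, 0, 0, 0, 0], [0, 0, 0, 0, 1, 0, 0, 0], [0, 0, 0, 0, 0, 1, 0, 0], [0, 0, 0, 1, 0, 0, 1, 0], [0, 0, 1, 0, 0, 0, 0, 1]]]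
noncomputable def NX : List (List (List (List Nat))) := [[[[1, 0, 1, 0, 0, 0, 0, 0], [0, 1, 0, 0, 0, 0, 0, 0], [0, 0, 1, 0, 0, 0, 0, 0], [0, 0, 0, 1, 0, 0, 0, 0], [0, 0, 0, 0, 1, 0, 0, 0], [0, 0, 0, 0, 0, 1, 0, 0], [0, 0, 0, 0, 1, 0, 1, 0], [0, 0, 0, 0, 0, 0, 0, 1]],
  [[1, 0, 0, 0, 0, 0, 0, 0], [0, 1, 0, 0, 0, 0, 0, 0], [0, 1, 1, 0, 0, 0, 0, 0], [0, 0, 0, 1, 0, 0, 0, 0], [0, 0, 0, 0, 1, 0, 0, 0], [0, 0, 0, 0, 0, 1, 1, 0], [0, 0, 0, 0, 0, 0, 1, 0], [0, 0, 0, 0, 0, 0, 0, 1]],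
  [[1, 0, 1, 0, 0, 0, 0, 0], [0, 1, 0, 0, 0, 0, 0, 0], [0, 0, 1, 0, 0, 0, 0, 0], [0, 0, 0, 1, 0, 0, 0, 0], [0, 0, 0, 0, 1, 0, 0, 0], [0, 0, 0, 0, 0, 1, 0, 0], [0, 0, 0, 0, 1, 0, 1, 0], [0, 0, 0, 0, 0, 0, 0, 1]],
  [[1, 0, 0, 0, 0, 0, 0, 0], [0, 1, 0, 0, 0, 0, 0, 0], [0, 1, 1, 0, 0, 0, 0, 0], [0, 0, 0, 1, 0, 0, 0, 0], [0, 0, 0, 0, 1, 0, 0, 0], [0, 0, 0, 0, 0, 1, 1, 0], [0, 0, 0, 0, 0, 0, 1, 0], [0, 0, 0, 0, 0, 0, 0, 1]]],
 [[[1, 0, 0, 0, 0, 0, 0, 0], [0, 1, 1, 0, 0, 0, 0, 0], [0, 0, 1, 0, 0, 0, 0, 0], [0, 0, 0, 1, 0, 0, 0, 0], [0, 0, 0, 0, 1, 0, 0, 0], [0, 0, 0, 0, 0, 1, 0, 0], [0, 0, 0, 0, 0, 1, 1, 0], [0, 0, 0, 0, 0, 0, 0, 1]],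
  [[1, 0, 0, 0, 0, 0, 0, 0], [0, 1, 0, 0, 0, 0, 0, 0], [1, 0, 1, 0, 0, 0, 0, 0], [0, 0, 0, 1, 0, 0, 0, 0], [0, 0, 0, 0, 1, 0, 1, 0], [0, 0, 0, 0, 0, 1, 0, 0], [0, 0, 0, 0, 0, 0, 1, 0], [0, 0, 0, 0, 0, 0, 0, 1]],
  [[1, 0, 0, 0, 0, 0, 0, 0], [0, 1, 1, 0, 0, 0, 0, 0], [0, 0, 1, 0, 0, 0, 0, 0], [0, 0, 0, 1, 0, 0, 0, 0], [0, 0, 0, 0, 1, 0, 0, 0], [0, 0, 0, 0, 0, 1, 0, 0], [0, 0, 0, 0, 0, 1, 1, 0], [0, 0, 0, 0, 0, 0, 0, 1]],
  [[1, 0, 0, 0, 0, 0, 0, 0], [0, 1, 0, 0, 0, 0, 0, 0], [1, 0, 1, 0, 0, 0, 0, 0], [0, 0, 0, 1, 0, 0, 0, 0], [0, 0, 0, 0, 1, 0, 1, 0], [0, 0, 0, 0, 0, 1, 0, 0], [0, 0, 0, 0, 0, 0, 1, 0], [0, 0, 0, 0, 0, 0, 0, 1]]],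
 [[[1, 0, 1, 0, 0, 0, 0, 0], [0, 1, 0, 0, 0, 0, 0, 0], [0, 0, 1, 0, 0, 0, 0, 0], [0, 0, 0, 1, 0, 0, 0, 0], [0, 0, 0, 0, 1, 0, 0, 0], [0, 0, 0, 0, 0, 1, 0, 0], [0, 0, 0, 0, 1, 0, 1, 0], [0, 0, 0, 0, 0, 0, 0, 1]],
  [[1, 0, 0, 0, 0, 0, 0, 0], [1, 1, 0, 0, 0, 0, 0, 0], [0, 0, 1, 0, 0, 0, 0, 0], [0, 0, 0, 1, 0, 0, 0, 0], [0, 0, 0, 0, 1, 1, 0, 0], [0, 0, 0, 0, 0, 1, 0, 0], [0, 0, 0, 0, 0, 0, 1, 0], [0, 0, 0, 0, 0, 0, 0, 1]],
  [[1, 0, 1, 0, 0, 0, 0, 0], [0, 1, 0, 0, 0, 0, 0, 0], [0, 0, 1, 0, 0, 0, 0, 0], [0, 0, 0, 1, 0, 0, 0, 0], [0, 0, 0, 0, 1, 0, 0, 0], [0, 0, 0, 0, 0, 1, 0, 0], [0, 0, 0, 0, 1, 0, 1, 0], [0, 0, 0, 0, 0, 0, 0, 1]],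
  [[1, 0, 0, 0, 0, 0, 0, 0], [1, 1, 0, 0, 0, 0, 0, 0], [0, 0, 1, 0, 0, 0, 0, 0], [0, 0, 0, 1, 0, 0, 0, 0], [0, 0, 0, 0, 1, 1, 0, 0], [0, 0, 0, 0, 0, 1, 0, 0], [0, 0, 0, 0, 0, 0, 1, 0], [0, 0, 0, 0, 0, 0, 0, 1]]],
 [[[1, 1, 0, 0, 0, 0, 0, 0], [0, 1, 0, 0, 0, 0, 0, 0], [0, 0, 1, 0, 0, 0, 0, 0], [0, 0, 0, 1, 0, 0, 0, 0], [0, 0, 0, 0, 1, 0, 0, 0], [0, 0, 0, 0, 1, 1, 0, 0], [0, 0, 0, 0, 0, 0, 1, 0], [0, 0, 0, 0, 0, 0, 0, 1]],
  [[1, 0, 0, 0, 0, 0, 0, 0], [0, 1, 0, 0, 0, 0, 0, 0], [1, 0, 1, 0, 0, 0, 0, 0], [0, 0, 0, 1, 0, 0, 0, 0], [0, 0, 0, 0, 1, 0, 1, 0], [0, 0, 0, 0, 0, 1, 0, 0], [0, 0, 0, 0, 0, 0, 1, 0], [0, 0, 0, 0, 0, 0, 0, 1]],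
  [[1, 1, 0, 0, 0, 0, 0, 0], [0, 1, 0, 0, 0, 0, 0, 0], [0, 0, 1, 0, 0, 0, 0, 0], [0, 0, 0, 1, 0, 0, 0, 0], [0, 0, 0, 0, 1, 0, 0, 0], [0, 0, 0, 0, 1, 1, 0, 0], [0, 0, 0, 0, 0, 0, 1, 0], [0, 0, 0, 0, 0, 0, 0, 1]],
  [[1, 0, 0, 0, 0, 0, 0, 0], [0, 1, 0, 0, 0, 0, 0, 0], [1, 0, 1, 0, 0, 0, 0, 0], [0, 0, 0, 1, 0, 0, 0, 0], [0, 0, 0, 0, 1, 0, 1, 0], [0, 0, 0, 0, 0, 1, 0, 0], [0, 0, 0, 0, 0, 0, 1, 0], [0, 0, 0, 0, 0, 0, 0, 1]]],
 [[[1, 0, 0, 1, 0, 0, 0, 0], [0, 1, 0, 0, 0, 0, 0, 0], [0, 0, 1, 0, 0, 0, 0, 0], [0, 0, 0, 1, 0, 0, 0, 0], [0, 0, 0, 0, 1, 0, 0, 0], [0, 0, 0, 0, 0, 1, 0, 0], [0, 0, 0, 0, 0, 0, 1, 0], [0, 0, 0, 0, 1, 0, 0, 1]],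
  [[1, 0, 0, 0, 0, 0, 0, 0], [0, 1, 0, 0, 0, 0, 0, 0], [1, 0, 1, 0, 0, 0, 0, 0], [0, 0, 0, 1, 0, 0, 0, 0], [0, 0, 0, 0, 1, 0, 1, 0], [0, 0, 0, 0, 0, 1, 0, 0], [0, 0, 0, 0, 0, 0, 1, 0], [0, 0, 0, 0, 0, 0, 0, 1]],
  [[1, 0, 0, 1, 0, 0, 0, 0], [0, 1, 0, 0, 0, 0, 0, 0], [0, 0, 1, 0, 0, 0, 0, 0], [0, 0, 0, 1, 0, 0, 0, 0], [0, 0, 0, 0, 1, 0, 0, 0], [0, 0, 0, 0, 0, 1, 0, 0], [0, 0, 0, 0, 0, 0, 1, 0], [0, 0, 0, 0, 1, 0, 0, 1]],
  [[1, 0, 0, 0, 0, 0, 0, 0], [0, 1, 0, 0, 0, 0, 0, 0], [1, 0, 1, 0, 0, 0, 0, 0], [0, 0, 0, 1, 0, 0, 0, 0], [0, 0, 0, 0, 1, 0, 1, 0], [0, 0, 0, 0, 0, 1, 0, 0], [0, 0, 0, 0, 0, 0, 1, 0], [0, 0, 0, 0, 0, 0, 0, 1]]],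
 [[[1, 0, 1, 0, 0, 0, 0, 0], [0, 1, 0, 0, 0, 0, 0, 0], [0, 0, 1, 0, 0, 0, 0, 0], [0, 0, 0, 1, 0, 0, 0, 0], [0, 0, 0, 0, 1, 0, 0, 0], [0, 0, 0, 0, 0, 1, 0, 0], [0, 0, 0, 0, 1, 0, 1, 0], [0, 0, 0, 0, 0, 0, 0, 1]],
  [[1, 0, 0, 0, 0, 0, 0, 0], [0, 1, 0, 0, 0, 0, 0, 0], [0, 0, 1, 0, 0, 0, 0, 0], [1, 0, 0, 1, 0, 0, 0, 0], [0, 0, 0, 0, 1, 0, 0, 1], [0, 0, 0, 0, 0, 1, 0, 0], [0, 0, 0, 0, 0, 0, 1, 0], [0, 0, 0, 0, 0, 0, 0, 1]],
  [[1, 0, 1, 0, 0, 0, 0, 0], [0, 1, 0, 0, 0, 0, 0, 0], [0, 0, 1, 0, 0, 0, 0, 0], [0, 0, 0, 1, 0, 0, 0, 0], [0, 0, 0, 0, 1, 0, 0, 0], [0, 0, 0, 0, 0, 1, 0, 0], [0, 0, 0, 0, 1, 0, 1, 0], [0, 0, 0, 0, 0, 0, 0, 1]],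
  [[1, 0, 0, 0, 0, 0, 0, 0], [0, 1, 0, 0, 0, 0, 0, 0], [0, 0, 1, 0, 0, 0, 0, 0], [1, 0, 0, 1, 0, 0, 0, 0], [0, 0, 0, 0, 1, 0, 0, 1], [0, 0, 0, 0, 0, 1, 0, 0], [0, 0, 0, 0, 0, 0, 1, 0], [0, 0, 0, 0, 0, 0, 0, 1]]],
 [[[1, 0, 0, 0, 0, 0, 0, 0], [0, 1, 0, 0, 0, 0, 0, 0], [1, 0, 1, 0, 0, 0, 0, 0], [0, 0, 0, 1, 0, 0, 0, 0], [0, 0, 0, 0, 1, 0, 1, 0], [0, 0, 0, 0, 0, 1, 0, 0], [0, 0, 0, 0, 0, 0, 1, 0], [0, 0, 0, 0, 0, 0, 0, 1]],
  [[1, 0, 0, 0, 0, 0, 0, 1], [0, 1, 0, 0, 0, 0, 0, 0], [0, 0, 1, 0, 0, 0, 0, 0], [0, 0, 0, 1, 1, 0, 0, 0], [0, 0, 0, 0, 1, 0, 0, 0], [0, 0, 0, 0, 0, 1, 0, 0], [0, 0, 0, 0, 0, 0, 1, 0], [0, 0, 0, 0, 0, 0, 0, 1]],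
  [[1, 0, 0, 0, 0, 0, 0, 0], [0, 1, 0, 0, 0, 0, 0, 0], [1, 0, 1, 0, 0, 0, 0, 0], [0, 0, 0, 1, 0, 0, 0, 0], [0, 0, 0, 0, 1, 0, 1, 0], [0, 0, 0, 0, 0, 1, 0, 0], [0, 0, 0, 0, 0, 0, 1, 0], [0, 0, 0, 0, 0, 0, 0, 1]],
  [[1, 0, 0, 0, 0, 0, 0, 1], [0, 1, 0, 0, 0, 0, 0, 0], [0, 0, 1, 0, 0, 0, 0, 0], [0, 0, 0, 1, 1, 0, 0, 0], [0, 0, 0, 0, 1, 0, 0, 0], [0, 0, 0, 0, 0, 1, 0, 0], [0, 0, 0, 0, 0, 0, 1, 0], [0, 0, 0, 0, 0, 0, 0, 1]]],
 [[[1, 0, 1, 0, 0, 0, 0, 0], [0, 1, 0, 0, 0, 0, 0, 0], [0, 0, 1, 0, 0, 0, 0, 0], [0, 0, 0, 1, 0, 0, 0, 0], [0, 0, 0, 0, 1, 0, 0, 0], [0, 0, 0, 0, 0, 1, 0, 0], [0, 0, 0, 0, 1, 0, 1, 0], [0, 0, 0, 0, 0, 0, 0, 1]],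
  [[1, 0, 0, 0, 0, 0, 0, 0], [0, 1, 0, 0, 0, 0, 0, 0], [0, 0, 1, 0, 0, 0, 0, 0], [0, 0, 0, 1, 0, 0, 0, 0], [0, 0, 0, 1, 1, 0, 0, 0], [0, 0, 0, 0, 0, 1, 0, 0], [0, 0, 0, 0, 0, 0, 1, 0], [1, 0, 0, 0, 0, 0, 0, 1]],
  [[1, 0, 1, 0, 0, 0, 0, 0], [0, 1, 0, 0, 0, 0, 0, 0], [0, 0, 1, 0, 0, 0, 0, 0], [0, 0, 0, 1, 0, 0, 0, 0], [0, 0, 0, 0, 1, 0, 0, 0], [0, 0, 0, 0, 0, 1, 0, 0], [0, 0, 0, 0, 1, 0, 1, 0], [0, 0, 0, 0, 0, 0, 0, 1]],
  [[1, 0, 0, 0, 0, 0, 0, 0], [0, 1, 0, 0, 0, 0, 0, 0], [0, 0, 1, 0, 0, 0, 0, 0], [0, 0, 0, 1, 0, 0, 0, 0], [0, 0, 0, 1, 1, 0, 0, 0], [0, 0, 0, 0, 0, 1, 0, 0], [0, 0, 0, 0, 0, 0, 1, 0], [1, 0, 0, 0, 0, 0, 0, 1]]]]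
noncomputable def NB : List (List Nat) := [[0, 0, 0, 0, 1, 0, 0, 0], [0, 0, 0, 0, 0, 1, 0, 0], [0, 0, 0, 0, 0, 0, 1, 0], [0, 0, 0, 0, 0, 0, 0, 1], [0, 0, 0, 0, 0, 0, 0, 0], [0, 0, 0, 0, 0, 0, 0, 0], [0, 0, 0, 0, 0, 0, 0, 0], [0, 0, 0, 0, 0, 0, 0, 0]]
noncomputable def NM : List Nat := [(nat_lit 0x8040301008040203), (nat_lit 0x8040301008040203), (nat_lit 0x8040203008040301), (nat_lit 0x8040203008040301), (nat_lit 0x8060201008040601), (nat_lit 0x8060201008040601), (nat_lit 0x8040601008060201), (nat_lit 0x8040601008060201), (nat_lit 0xc0402010080c0201), (nat_lit 0xc0402010080c0201), (nat_lit 0x80c020100c040201), (nat_lit 0x80c020100c040201), (nat_lit 0x8040201048840201), (nat_lit 0x8040201048840201), (nat_lit 0x8448201008040201), (nat_lit 0x8448201008040201)]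

theorem e2_all : Cov e2_F 4 3 0 := by
  have h := Cov.zero e2_F 4
  have h := h.blk (b := 4) e2_k0_0 rfl
  have h := h.next (y := 1) rfl rfl
  have h := h.blk (b := 4) e2_k1_0 rfl
  have h := h.next (y := 2) rfl rfl
  have h := h.blk (b := 4) e2_k2_0 rfl
  have h := h.next (y := 3) rfl rfl
  exact h

theorem e2 : Enum (RK 2) [] (gensW 2) 6 :=
  ⟨e2_cols, e2_ch, e2_L, e2_H, e2_pb.1, e2_e.get, [(nat_lit 0), (nat_lit 1), (nat_lit 3)], (nat_lit 3), (nat_lit 2), e2_rots, e2_hcs,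
    (nat_lit 7), (nat_lit 3), (nat_lit 8), (nat_lit 8), (nat_lit 64), (nat_lit 511), (nat_lit 8), (nat_lit 255), (nat_lit 9), (nat_lit 511), (nat_lit 1), (nat_lit 4),
    fun _ _ => rfl, fun _ => rfl, fun _ _ => rfl, by decide +kernel, e2_all.1⟩

theorem e3_all : Cov e3_F 4 4 0 := by
  have h := Cov.zero e3_F 4
  have h := h.blk (b := 4) e3_k0_0 rfl
  have h := h.next (y := 1) rfl rfl
  have h := h.blk (b := 4) e3_k1_0 rfl
  have h := h.next (y := 2) rfl rfl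
  have h := h.blk (b := 4) e3_k2_0 rfl
  have h := h.next (y := 3) rfl rfl
  have h := h.blk (b := 4) e3_k3_0 rfl
  have h := h.next (y := 4) rfl rfl
  exact h

theorem e3 : Enum (RK 3) (gensW 2) (gensW 3) 4 :=
  ⟨e3_cols, e3_ch, e3_L, e3_H, e3_pb.1, e3_e.get, [(nat_lit 0), (nat_lit 1), (nat_lit 3), (nat_lit 5)], (nat_lit 7), (nat_lit 3), e3_rots, e3_hcs,
    (nat_lit 5), (nat_lit 4), (nat_lit 8), (nat_lit 16), (nat_lit 128), (nat_lit 511), (nat_lit 8), (nat_lit 255), (nat_lit 10), (nat_lit 1023), (nat_lit 1), (nat_lit 4),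
    fun _ _ => rfl, fun _ => rfl, fun _ _ => rfl, by decide +kernel, e3_all.1⟩

theorem e4_all : Cov e4_F 4 5 0 := by
  have h := Cov.zero e4_F 4
  have h := h.blk (b := 4) e4_k0_0 rfl
  have h := h.next (y := 1) rfl rfl
  have h := h.blk (b := 4) e4_k1_0 rfl
  have h := h.next (y := 2) rfl rfl
  have h := h.blk (b := 4) e4_k2_0 rfl
  have h := h.next (y := 3) rfl rfl
  have h := h.blk (b := 4) e4_k3_0 rfl
  have h := h.next (y := 4) rfl rfl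
  have h := h.blk (b := 4) e4_k4_0 rfl
  have h := h.next (y := 5) rfl rfl
  exact h

theorem e4 : Enum (RK 4) (gensW 3) (gensW 4) 7 :=
  ⟨e4_cols, e4_ch, e4_L, e4_H, e4_pb.1, e4_e.get, [(nat_lit 0), (nat_lit 1), (nat_lit 3), (nat_lit 5), (nat_lit 7)], (nat_lit 15), (nat_lit 4), e4_rots, e4_hcs,
    (nat_lit 8), (nat_lit 5), (nat_lit 8), (nat_lit 32), (nat_lit 256), (nat_lit 511), (nat_lit 8), (nat_lit 255), (nat_lit 12), (nat_lit 4095), (nat_lit 1), (nat_lit 4),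
    fun _ _ => rfl, fun _ => rfl, fun _ _ => rfl, by decide +kernel, e4_all.1⟩

theorem e5_all : Cov e5_F 4 6 0 := by
  have h := Cov.zero e5_F 4
  have h := h.blk (b := 4) e5_k0_0 rfl
  have h := h.next (y := 1) rfl rfl
  have h := h.blk (b := 4) e5_k1_0 rfl
  have h := h.next (y := 2) rfl rfl
  have h := h.blk (b := 4) e5_k2_0 rfl
  have h := h.next (y := 3) rfl rfl
  have h := h.blk (b := 4) e5_k3_0 rfl
  have h := h.next (y := 4) rfl rfl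
  have h := h.blk (b := 4) e5_k4_0 rfl
  have h := h.next (y := 5) rfl rfl
  have h := h.blk (b := 4) e5_k5_0 rfl
  have h := h.next (y := 6) rfl rfl
  exact h

theorem e5 : Enum (RK 5) (gensW 4) (gensW 5) 8 :=
  ⟨e5_cols, e5_ch, e5_L, e5_H, e5_pb.1, e5_e.get, [(nat_lit 0), (nat_lit 1), (nat_lit 3), (nat_lit 5), (nat_lit 7), (nat_lit 9)], (nat_lit 31), (nat_lit 5), e5_rots, e5_hcs,
    (nat_lit 9), (nat_lit 6), (nat_lit 16), (nat_lit 32), (nat_lit 512), (nat_lit 1023), (nat_lit 8), (nat_lit 255), (nat_lit 13), (nat_lit 8191), (nat_lit 1), (nat_lit 4),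
    fun _ _ => rfl, fun _ => rfl, fun _ _ => rfl, by decide +kernel, e5_all.1⟩

theorem e6_all : Cov e6_F 4 7 0 := by
  have h := Cov.zero e6_F 4
  have h := h.blk (b := 4) e6_k0_0 rfl
  have h := h.next (y := 1) rfl rfl
  have h := h.blk (b := 4) e6_k1_0 rfl
  have h := h.next (y := 2) rfl rfl
  have h := h.blk (b := 4) e6_k2_0 rfl
  have h := h.next (y := 3) rfl rfl
  have h := h.blk (b := 4) e6_k3_0 rfl
  have h := h.next (y := 4) rfl rfl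
  have h := h.blk (b := 4) e6_k4_0 rfl
  have h := h.next (y := 5) rfl rfl
  have h := h.blk (b := 4) e6_k5_0 rfl
  have h := h.next (y := 6) rfl rfl
  have h := h.blk (b := 4) e6_k6_0 rfl
  have h := h.next (y := 7) rfl rfl
  exact h

theorem e6 : Enum (RK 6) (gensW 5) (gensW 6) 15 :=
  ⟨e6_cols, e6_ch, e6_L, e6_H, e6_pb.1, e6_e.get, [(nat_lit 0), (nat_lit 1), (nat_lit 3), (nat_lit 5), (nat_lit 7), (nat_lit 9), (nat_lit 11)], (nat_lit 63), (nat_lit 6), e6_rots, e6_hcs,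
    (nat_lit 16), (nat_lit 7), (nat_lit 16), (nat_lit 64), (nat_lit 1024), (nat_lit 1023), (nat_lit 8), (nat_lit 255), (nat_lit 15), (nat_lit 32767), (nat_lit 1), (nat_lit 4),
    fun _ _ => rfl, fun _ => rfl, fun _ _ => rfl, by decide +kernel, e6_all.1⟩

theorem e7_all : Cov e7_F 4 8 0 := by
  have h := Cov.zero e7_F 4
  have h := h.blk (b := 4) e7_k0_0 rfl
  have h := h.next (y := 1) rfl rfl
  have h := h.blk (b := 4) e7_k1_0 rfl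
  have h := h.next (y := 2) rfl rfl
  have h := h.blk (b := 4) e7_k2_0 rfl
  have h := h.next (y := 3) rfl rfl
  have h := h.blk (b := 4) e7_k3_0 rfl
  have h := h.next (y := 4) rfl rfl
  have h := h.blk (b := 4) e7_k4_0 rfl
  have h := h.next (y := 5) rfl rfl
  have h := h.blk (b := 4) e7_k5_0 rfl
  have h := h.next (y := 6) rfl rfl
  have h := h.blk (b := 4) e7_k6_0 rfl
  have h := h.next (y := 7) rfl rfl
  have h := h.blk (b := 4) e7_k7_0 rfl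
  have h := h.next (y := 8) rfl rfl
  exact h

theorem e7 : Enum (RK 7) (gensW 6) (gensW 7) 64 :=
  ⟨e7_cols, e7_ch, e7_L, e7_H, e7_pb.1, e7_e.get, [(nat_lit 0), (nat_lit 1), (nat_lit 3), (nat_lit 5), (nat_lit 7), (nat_lit 9), (nat_lit 11), (nat_lit 13)], (nat_lit 127), (nat_lit 7), e7_rots, e7_hcs,
    (nat_lit 65), (nat_lit 8), (nat_lit 128), (nat_lit 64), (nat_lit 8192), (nat_lit 8191), (nat_lit 8), (nat_lit 255), (nat_lit 18), (nat_lit 262143), (nat_lit 1), (nat_lit 4),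
    fun _ _ => rfl, fun _ => rfl, fun _ _ => rfl, by decide +kernel, e7_all.1⟩

theorem e8_all : Cov e8_F 4 9 0 := by
  have h := Cov.zero e8_F 4
  have h := h.blk (b := 4) e8_k0_0 rfl
  have h := h.next (y := 1) rfl rfl
  have h := h.blk (b := 4) e8_k1_0 rfl
  have h := h.next (y := 2) rfl rfl
  have h := h.blk (b := 4) e8_k2_0 rfl
  have h := h.next (y := 3) rfl rfl
  have h := h.blk (b := 4) e8_k3_0 rfl
  have h := h.next (y := 4) rfl rfl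
  have h := h.blk (b := 4) e8_k4_0 rfl
  have h := h.next (y := 5) rfl rfl
  have h := h.blk (b := 4) e8_k5_0 rfl
  have h := h.next (y := 6) rfl rfl
  have h := h.blk (b := 4) e8_k6_0 rfl
  have h := h.next (y := 7) rfl rfl
  have h := h.blk (b := 4) e8_k7_0 rfl
  have h := h.next (y := 8) rfl rfl
  have h := h.blk (b := 4) e8_k8_0 rfl
  have h := h.next (y := 9) rfl rfl
  exact h

theorem e8 : Enum (RK 8) (gensW 7) (gensW 8) 135 :=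
  ⟨e8_cols, e8_ch, e8_L, e8_H, e8_pb.1, e8_e.get, [(nat_lit 0), (nat_lit 1), (nat_lit 3), (nat_lit 5), (nat_lit 7), (nat_lit 9), (nat_lit 11), (nat_lit 13), (nat_lit 15)], (nat_lit 255), (nat_lit 8), e8_rots, e8_hcs,
    (nat_lit 136), (nat_lit 9), (nat_lit 256), (nat_lit 128), (nat_lit 32768), (nat_lit 16383), (nat_lit 8), (nat_lit 255), (nat_lit 21), (nat_lit 2097151), (nat_lit 1), (nat_lit 4),
    fun _ _ => rfl, fun _ => rfl, fun _ _ => rfl, by decide +kernel, e8_all.1⟩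

theorem linN_a : linAll (tabP 2) 120 8 NV NA N0 NSc 8 = true := by decide +kernel
theorem linN : LinOK (tabP 2) 120 8 8 NV NA N0 :=
  ⟨⟨NS, by decide +kernel⟩, by decide +kernel, by decide +kernel, rfl,
    NSc, by decide +kernel, rfl, linAll_iff.1 linN_a⟩
theorem chN : ChainGe N0 N1 120 7 8 NW NC 174182400 :=
  ⟨rfl, by decide, by decide, slp_of_slpOK (by decide +kernel), by decide +kernel, by decide +kernel,
    by decide +kernel⟩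
theorem memN : allFrom (omAt (tabP 2) 8 NB NA NX) 0 8 = true := by decide +kernel

end CF.LX4.Om
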