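import Cfsg.Agent.ThR.Dich
import Cfsg.Agent.MonU.A2
import Cfsg.Agent.LX.Sing

/-! Large extraspecial groups of order `2 ^ 9` with a given quotient of the involution centraliser. -/

set_option autoImplicit false
set_option linter.unusedSectionVars false

namespace CF.LX4
open Cfsg Subgroup CF.Loc CF.Even CF.LX CF.J4 CF.MonU
open CF.ThR (comm_lift c1_mul c1_inv nine_formula odd_of_mod card_mod norm_c1)

variable {G : Type*} {Γ : Type} [Group G] [Group Γ]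

/-- the setting -/
structure Qt (Q : Subgroup G) (z : G) (Φ : G → Γ) : Prop extends LQ Q z where
  card : Nat.card Q = 2 ^ 9
  hom : HomOn 𝐂₁(z) Φ
  kr : ∀ h ∈ 𝐂₁(z), (Φ h = 1 ↔ h ∈ Q)

theorem qt_sub [Finite G] {z : G} (hz : orderOf z = 2) {Q : Subgroup 𝐂₁(z)} [Q.Normal]
    (hQ : IsExtraspecial 2 Q) (c : Nat.card Q = 2 ^ 9) (cen : 𝐂(Q) ≤ Q)
    (e : 𝐂₁(z) ⧸ Q →* Γ) (he : Function.Injective e) :
    ∃ E Φ, Qt E z Φ ∧ ∀ σ ∈ e.range, ∃ h ∈ 𝐂₁(z), Φ h = σ := by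
  classical
  let ι := (𝐂₁(z)).subtype
  have eQ := Q.equivMapOfInjective ι (subtype_injective _)
  have zm : z ∈ 𝐂₁(z) := mem_c1.2 rfl
  have zc : z ∈ 𝐂(Q.map ι) := by
    rintro _ ⟨x, -, rfl⟩
    exact mem_c1.1 x.2
  have zQ : z ∈ Q.map ι := ⟨⟨z, zm⟩, cen fun x _ => Subtype.ext (mem_c1.1 x.2), rfl⟩
  have l : LQ (Q.map ι) z := ⟨EX.of (isExtraspecial_of_equiv hQ eQ) zQ zc
    (by rintro rfl; simp at hz), fun g hg => ⟨⟨g, mem_c1.2 (hg z zQ).symm⟩,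
      cen fun x hx => Subtype.ext (hg x ⟨x, hx, rfl⟩), rfl⟩, fun g hg => mem_normalizer_fintype (by
        rintro _ ⟨x, hx, rfl⟩
        exact ⟨_, ‹Q.Normal›.conj_mem x hx ⟨g, hg⟩, rfl⟩)⟩
  let φ : 𝐂₁(z) →* Γ := e.comp (QuotientGroup.mk' _)
  refine ⟨_, fun g => if hg : g ∈ 𝐂₁(z) then φ ⟨g, hg⟩ else 1, ⟨l, by rw [card_subtype, c], fun g hg k hk => ?_,
    fun g hg => ?_⟩, ?_⟩
  · simp only [dif_pos hg, dif_pos hk, dif_pos (mul_mem hg hk)]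
    rw [← map_mul]; rfl
  · simp only [dif_pos hg]
    exact ((map_eq_one_iff _ he).trans (QuotientGroup.eq_one_iff _)).trans
      ⟨fun k => ⟨_, k, rfl⟩, fun ⟨x, hx, k⟩ => (Subtype.ext k : x = ⟨g, hg⟩) ▸ hx⟩
  · rintro _ ⟨y, rfl⟩
    obtain ⟨x, rfl⟩ := QuotientGroup.mk'_surjective Q y
    exact ⟨x, x.2, by simp only [dif_pos x.2]; rfl⟩

/-- the elements of `Q` fixed modulo the centre -/
def Cf (Q : Subgroup G) (z : G) (Φ : G → Γ) (σ : Γ) : Subgroup G where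
  carrier := {q | q ∈ Q ∧ q ∈ 𝐂₁(z) ∧ ∀ x ∈ 𝐂₁(z), Φ x = σ → q⁻¹ * (x⁻¹ * q * x) ∈ zpowers z}
  one_mem' := ⟨one_mem _, one_mem _, fun x _ _ => by simp⟩
  mul_mem' := fun {a b} ha hb => ⟨mul_mem ha.1 hb.1, mul_mem ha.2.1 hb.2.1, fun x hx e => by
    obtain ⟨k, hk⟩ := ha.2.2 x hx e
    have : (a * b)⁻¹ * (x⁻¹ * (a * b) * x) = b⁻¹ * z ^ k * (x⁻¹ * b * x) := by rw [show z ^ k = _ from hk]; group
    rw [this, ((show Commute b z from mem_c1.1 hb.2.1).inv_left.zpow_right k).eq, mul_assoc]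
    exact mul_mem (zpow_mem_zpowers _ _) (hb.2.2 x hx e)⟩
  inv_mem' := fun {a} ha => ⟨inv_mem ha.1, inv_mem ha.2.1, fun x hx e => by
    obtain ⟨k, hk⟩ := ha.2.2 x hx e
    have : a⁻¹⁻¹ * (x⁻¹ * a⁻¹ * x) = a * (z ^ k)⁻¹ * a⁻¹ := by rw [show z ^ k = _ from hk]; group
    rw [this, ((show Commute a z from mem_c1.1 ha.2.1).zpow_right k).inv_right.eq, mul_inv_cancel_right]
    exact inv_mem (zpow_mem_zpowers _ _)⟩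

theorem two_pow_mod {k : ℕ} (h : 2 ^ k ≡ 2 [MOD 3]) : k % 2 = 1 := odd_of_mod (b := 1) h

namespace Qt
variable [Finite G] {Q : Subgroup G} {z : G} {Φ : G → Γ} (h : Qt Q z Φ)
include h

local notation "H" => 𝐂₁(z)
local notation "C" => Cf Q z Φ

theorem map {Δ : Type} [Group Δ] {θ : Γ →* Δ} (i : Function.Injective θ) : Qt Q z fun g => θ (Φ g) :=
  ⟨h.toLQ, h.card, fun g hg k hk => by rw [h.hom g hg k hk, map_mul], fun g hg =>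
    (map_eq_one_iff _ i).trans (h.kr g hg)⟩

theorem cH {g x : G} (hx : x ∈ 𝐂₁(g * z * g⁻¹)) : g⁻¹ * x * g ∈ H := mem_c1.2 (by
  calc _ = g⁻¹ * (x * (g * z * g⁻¹)) * g := by group
    _ = _ := by rw [mem_c1.1 hx]; group)

protected theorem cj (g : G) : Qt (cj[g] Q) (g * z * g⁻¹) fun x => Φ (g⁻¹ * x * g) :=
  ⟨h.toLQ.cj g, by rw [card_cj, h.card], fun a ha b hb => by
    rw [← h.hom _ (h.cH ha) _ (h.cH hb)]; congr 1; group, fun x hx => (h.kr _ (h.cH hx)).trans mem_cj.symm⟩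

theorem cQ {g q : G} (hg : g ∈ H) (hq : q ∈ Q) : g⁻¹ * q * g ∈ Q := norm_mem (h.nor hg) hq

theorem cQ' {g q : G} (hg : g ∈ H) (hq : q ∈ Q) : g * q * g⁻¹ ∈ Q := norm_mem' (h.nor hg) hq

theorem ΦQ {q : G} (hq : q ∈ Q) : Φ q = 1 := (h.kr q (h.le_c1 hq)).2 hq

theorem div_mem {g k : G} (hg : g ∈ H) (hk : k ∈ H) (e : Φ g = Φ k) : g⁻¹ * k ∈ Q :=
  (h.kr _ (mul_mem (inv_mem hg) hk)).1 (by rw [h.hom _ (inv_mem hg) _ hk, h.hom.inv hg, e, inv_mul_cancel])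

theorem Φmul {g q : G} (hg : g ∈ H) (hq : q ∈ Q) : Φ (g * q) = Φ g := by
  rw [h.hom _ hg _ (h.le_c1 hq), h.ΦQ hq, mul_one]

theorem Φmul' {g q : G} (hg : g ∈ H) (hq : q ∈ Q) : Φ (q * g) = Φ g := by
  rw [h.hom _ (h.le_c1 hq) _ hg, h.ΦQ hq, one_mul]

theorem q4 {q : G} (hq : q ∈ Q) : q ^ 4 = 1 := by
  rw [show q ^ 4 = q * q * (q * q) by simp only [pow_succ, pow_zero, one_mul, mul_assoc]]
  rcases h.sq q hq with e | e <;> rw [e]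
  exacts [mul_one _, h.zz]

theorem card_le {T : Subgroup G} (hT : T ≤ H) {L : List Γ} (e : ∀ g ∈ T, Φ g ∈ L) :
    Nat.card T ≤ L.length * Nat.card ↥(T ⊓ Q) :=
  card_le_rel (r := fun g x => Φ g = x) (fun g hg k hk _ e1 e2 => h.div_mem (hT hg) (hT hk) (e1.trans e2.symm))
    fun g hg => ⟨_, e g hg, rfl⟩

theorem card_im {T : Subgroup G} (hT : T ≤ H) : Nat.card T = Nat.card (h.hom.im T hT) * Nat.card ↥(Q ⊓ T) :=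
  h.hom.card_eq hT fun g => ⟨fun k => ⟨k.2, h.ΦQ k.1⟩, fun k => ⟨(h.kr g (hT k.1)).1 k.2, k.1⟩⟩

theorem lg {K : Subgroup G} (hK : K ≤ Q) : ∃ e ≤ 9, Nat.card K = 2 ^ e :=
  (Nat.dvd_prime_pow Nat.prime_two).1 (h.card ▸ card_dvd_of_le hK)

theorem cop {K : Subgroup G} (hK : K ≤ Q) {p : ℕ} (hp : Nat.Coprime p 2) : Nat.Coprime p (Nat.card K) := by
  obtain ⟨e, -, k⟩ := h.lg hK
  exact k ▸ hp.pow_right e

theorem C_le (σ : Γ) : C σ ≤ Q := fun _ k => k.1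

theorem z_C (σ : Γ) : z ∈ C σ := ⟨h.mem, mem_c1.2 rfl, fun x hx _ => by
  rw [mul_assoc x⁻¹, ← mem_c1.1 hx]; simp⟩

theorem mem_C {x q : G} (hx : x ∈ H) (hq : q ∈ Q) : q ∈ C (Φ x) ↔ q⁻¹ * (x⁻¹ * q * x) ∈ zpowers z := by
  refine ⟨fun k => k.2.2 x hx rfl, fun k => ⟨hq, h.le_c1 hq, fun y hy e => ?_⟩⟩
  have m := h.div_mem hx hy e.symm
  rw [show q⁻¹ * (y⁻¹ * q * y) = q⁻¹ * (x⁻¹ * q * x) * ((x⁻¹ * q * x)⁻¹ * ((x⁻¹ * y)⁻¹ * (x⁻¹ * q * x) * (x⁻¹ * y)))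
    by group]
  refine mul_mem k ?_
  have := h.comm_mem (inv_mem (h.cQ hx hq)) (inv_mem m)
  simpa only [inv_inv, mul_assoc] using this

theorem C_of {x q : G} (hx : x ∈ H) (hq : q ∈ Q) (e : q * x = x * q) : q ∈ C (Φ x) :=
  (h.mem_C hx hq).2 (by rw [mul_assoc x⁻¹, e]; simp)

theorem C_conj {g : G} (hg : g ∈ H) {σ : Γ} {q : G} (hq : q ∈ C σ) : g * q * g⁻¹ ∈ C (Φ g * σ * (Φ g)⁻¹) :=
  ⟨h.cQ' hg hq.1, h.le_c1 (h.cQ' hg hq.1), fun x hx e => by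
    obtain ⟨k, hk⟩ := hq.2.2 _ (mul_mem (mul_mem (inv_mem hg) hx) hg) (by rw [h.hom.conj' hg hx, e]; group)
    have : (g * q * g⁻¹)⁻¹ * (x⁻¹ * (g * q * g⁻¹) * x) = g * z ^ k * g⁻¹ := by rw [show z ^ k = _ from hk]; group
    rw [this, ((show Commute g z from mem_c1.1 hg).zpow_right k).eq, mul_inv_cancel_right]
    exact zpow_mem_zpowers _ _⟩

theorem C_cj {g : G} (hg : g ∈ H) (σ : Γ) : cj[g] (C σ) = C (Φ g * σ * (Φ g)⁻¹) := by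
  refine le_antisymm ?_ fun q hq => mem_cj.2 ?_
  · rintro _ ⟨q, hq, rfl⟩; exact h.C_conj hg hq
  · have := h.C_conj (inv_mem hg) hq
    rwa [h.hom.inv hg, show (Φ g)⁻¹ * (Φ g * σ * (Φ g)⁻¹) * (Φ g)⁻¹⁻¹ = σ by group, inv_inv] at this

theorem C_mul {x y q : G} (hx : x ∈ H) (hy : y ∈ H) (h1 : q ∈ C (Φ x)) (h2 : q ∈ C (Φ y)) : q ∈ C (Φ x * Φ y) := by
  rw [← h.hom x hx y hy, h.mem_C (mul_mem hx hy) h1.1]
  obtain ⟨k, hk⟩ := h1.2.2 x hx rfl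
  rw [show q⁻¹ * ((x * y)⁻¹ * q * (x * y)) = q⁻¹ * (y⁻¹ * q * y) * (y⁻¹ * z ^ k * y) by
    rw [show z ^ k = _ from hk]; group, mul_assoc y⁻¹ (z ^ k), ← ((show Commute y z from mem_c1.1 hy).zpow_right k).eq,
    inv_mul_cancel_left]
  exact mul_mem (h2.2.2 y hy rfl) (zpow_mem_zpowers _ _)

theorem C_inv {x : G} (hx : x ∈ H) : C (Φ x)⁻¹ = C (Φ x) := by
  have k : ∀ {x}, x ∈ H → C (Φ x) ≤ C (Φ x⁻¹) := fun {x} hx q hq => by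
    obtain ⟨k, hk⟩ := hq.2.2 x hx rfl
    rw [h.mem_C (inv_mem hx) hq.1, show q⁻¹ * (x⁻¹⁻¹ * q * x⁻¹) = q⁻¹ * (x * q * z ^ k * x⁻¹) * (x * (z ^ k)⁻¹ * x⁻¹) by
      group, mul_assoc x, show z ^ k = _ from hk, mul_inv_cancel_left, ← show z ^ k = _ from hk,
      ((show Commute x z from mem_c1.1 hx).zpow_right k).inv_right.eq]
    simpa [mul_assoc] using zpow_mem_zpowers z k
  rw [← h.hom.inv hx]
  exact le_antisymm (by simpa using k (inv_mem hx)) (k hx)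

theorem nor_C {g : G} (hg : g ∈ H) {σ : Γ} (e : Φ g * σ = σ * Φ g) : g ∈ 𝐍(C σ) :=
  mem_normalizer_fintype fun q hq => by simpa [e] using h.C_conj hg hq

theorem nor_C' {g x : G} (hg : g ∈ H) (hx : x ∈ H) (e : Φ g * Φ x * (Φ g)⁻¹ = (Φ x)⁻¹) : g ∈ 𝐍(C (Φ x)) :=
  mem_normalizer_fintype fun q hq => by
    have := h.C_conj hg hq
    rwa [e, h.C_inv hx] at this

theorem nor_K {g : G} (hg : g ∈ H) {W : Subgroup G} (n : g ∈ 𝐍(W)) : g ∈ 𝐍(Q ⊓ 𝐂(W)) :=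
  mem_normalizer_fintype fun q hq => ⟨h.cQ' hg hq.1, norm_mem' (normalizer_le_normalizer_centralizer W n) hq.2⟩

theorem nor_Q {W : Subgroup G} (hz : z ∈ W) (hW : W ≤ Q) {q : G} (hq : q ∈ Q) : q ∈ 𝐍(W) := h.le_normalizer hz hW hq

theorem C_odd {x : G} (hx : x ∈ H) {n : ℕ} (o : Odd n) (xn : x ^ n = 1) : C (Φ x) = Q ⊓ 𝐂₁(x) := by
  refine le_antisymm (fun q hq => ⟨hq.1, ?_⟩) fun q hq => h.C_of hx hq.1 (mem_c1.1 hq.2)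
  rcases h.mem_z.1 (hq.2.2 x hx rfl) with e | e
  · rw [inv_mul_eq_one, mul_assoc, eq_inv_mul_iff_mul_eq] at e; exact mem_c1.2 e.symm
  · rw [inv_mul_eq_iff_eq_mul] at e
    have k : ∀ i : ℕ, (x ^ i)⁻¹ * q * x ^ i = q * z ^ i := fun i => by
      induction i with
      | zero => simp
      | succ i ih =>
        rw [show (x ^ (i + 1))⁻¹ * q * x ^ (i + 1) = (x ^ i)⁻¹ * (x⁻¹ * q * x) * x ^ i by group, e, ← mul_assoc,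
          mul_assoc _ z, ← mem_c1.1 (pow_mem hx i), ← mul_assoc, ih, pow_succ, mul_assoc]
    have := k n
    rw [xn, zp_mod h.zz, Nat.odd_iff.1 o] at this
    exact absurd (by simpa using this) h.z_ne

theorem C_eq {x : G} (hx : x ∈ H) (x3 : x ^ 3 = 1) : C (Φ x) = Q ⊓ 𝐂₁(x) := h.C_odd hx (by decide) x3

theorem C_ne {x : G} (hx : x ∈ H) (n : Φ x ≠ 1) : ¬ Q ≤ C (Φ x) := fun k => n (h.ΦQ (Q.inv_mem_iff.1
  (h.mem_of_comm (mem_c1.1 (inv_mem hx)) fun y hy => by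
    have m := (k hy).2.2 x hx rfl
    rw [← h.conj_mem hy m] at m
    simpa [mul_assoc] using m)))

theorem card_CC {g : G} (hg : g ∈ H) (σ τ : Γ) :
    Nat.card ↥(C (Φ g * σ * (Φ g)⁻¹) ⊓ C (Φ g * τ * (Φ g)⁻¹)) = Nat.card ↥(C σ ⊓ C τ) := by
  rw [← h.C_cj hg, ← h.C_cj hg, ← cj_inf, card_cj]

theorem lift_odd {p : ℕ} (o : p % 4 = 1 ∨ p % 4 = 3) {x : G} (hx : x ∈ H) (h2 : Φ x ^ p = 1) :
    ∃ y ∈ zpowers x, y ∈ H ∧ Φ y = Φ x ∧ y ^ p = 1 := by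
  have k : ∀ n, 4 ∣ n → (x ^ n) ^ p = 1 := by
    rintro _ ⟨n, rfl⟩
    rw [← pow_mul, show 4 * n * p = p * 4 * n by ring, pow_mul, pow_mul,
      h.q4 ((h.kr _ (pow_mem hx _)).1 (by rw [h.hom.pow hx, h2])), one_pow]
  rcases o with o | o
  · exact ⟨x ^ (3 * p + 1), pow_mem (mem_zpowers x) _, pow_mem hx _, by
      rw [h.hom.pow hx, pow_succ, mul_comm, pow_mul, h2, one_pow, one_mul], k _ (by omega)⟩
  · exact ⟨x ^ (p + 1), pow_mem (mem_zpowers x) _, pow_mem hx _, by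
      rw [h.hom.pow hx, pow_succ, h2, one_mul], k _ (by omega)⟩

theorem comm_mem' {a b : G} (ha : a ∈ H) (hb : b ∈ H) (e : Φ a * Φ b = Φ b * Φ a) : a * b * a⁻¹ * b⁻¹ ∈ Q :=
  (h.kr _ (mul_mem (mul_mem (mul_mem ha hb) (inv_mem ha)) (inv_mem hb))).1 (by
    rw [h.hom _ (mul_mem (mul_mem ha hb) (inv_mem ha)) _ (inv_mem hb), h.hom.conj ha hb, h.hom.inv hb, e]; group)

theorem lift_comm {K : Subgroup G} (hK : K ≤ Q) {y u : G} (hy : y ^ 3 = 1)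
    (n : y ∈ 𝐍(K)) (hu : u ∈ H) (u3 : Φ u ^ 3 = 1) (c : y * u * y⁻¹ * u⁻¹ ∈ K) :
    ∃ q ∈ K, (q * u) ^ 4 ∈ H ∧ Φ ((q * u) ^ 4) = Φ u ∧ ((q * u) ^ 4) ^ 3 = 1 ∧ Commute ((q * u) ^ 4) y := by
  obtain ⟨q, hq, e⟩ := comm_lift Nat.prime_three (Nat.prime_three.coprime_iff_not_dvd.1 (h.cop hK (by norm_num))) hy n c
  have m := mul_mem (h.le_c1 (hK hq)) hu
  refine ⟨q, hq, pow_mem m _, by rw [h.hom.pow m, h.Φmul' hu (hK hq), pow_succ, u3, one_mul], ?_,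
    (show Commute _ _ from e).pow_left _⟩
  rw [← pow_mul, mul_comm, pow_mul, h.q4 ((h.kr _ (pow_mem m _)).1 (by rw [h.hom.pow m, h.Φmul' hu (hK hq), u3]))]

theorem lifts {a b c : Γ} (sa : ∃ g ∈ H, Φ g = a) (sb : ∃ g ∈ H, Φ g = b) (sc : ∃ g ∈ H, Φ g = c) (a3 : a ^ 3 = 1)
    (b3 : b ^ 3 = 1) (c3 : c ^ 3 = 1) (ab : a * b = b * a) (ac : a * c = c * a) (bc : b * c = c * b) :
    ∃ x ∈ H, ∃ y ∈ H, ∃ w ∈ H, Φ x = a ∧ Φ y = b ∧ Φ w = c ∧ x ^ 3 = 1 ∧ y ^ 3 = 1 ∧ w ^ 3 = 1 ∧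
      Commute y x ∧ Commute w x ∧ Commute w y := by
  obtain ⟨x0, hx0, rfl⟩ := sa
  obtain ⟨x, -, hx, e0, x3⟩ := h.lift_odd (.inr rfl) hx0 a3
  rw [← e0] at ab ac ⊢
  obtain ⟨y0, hy0, rfl⟩ := sb
  obtain ⟨w0, hw0, rfl⟩ := sc
  obtain ⟨_, -, hy, e1, y3, yx⟩ := h.lift_comm le_rfl x3 (h.nor hx) hy0 b3 (h.comm_mem' hx hy0 ab)
  obtain ⟨_, -, hw, e2, -, wx⟩ := h.lift_comm le_rfl x3 (h.nor hx) hw0 c3 (h.comm_mem' hx hw0 ac)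
  rw [← e1, ← e2] at bc ⊢
  rw [← e2] at c3
  clear e1 e2
  generalize (_ * y0) ^ 4 = y at *
  generalize (_ * w0) ^ 4 = w at *
  obtain ⟨q, hq, k1, k2, k3, k4⟩ := h.lift_comm (K := Q ⊓ 𝐂₁(x)) inf_le_left y3
    (norm_c1 (h.nor hy) yx) hw c3 ⟨h.comm_mem' hy hw bc, mem_c1.2
      (((yx.mul_left wx).mul_left yx.inv_left).mul_left wx.inv_left)⟩
  exact ⟨x, hx, y, hy, _, k1, rfl, rfl, k2, x3, y3, k3, yx,
    ((show Commute q x from mem_c1.1 hq.2).mul_left wx).pow_left _, k4⟩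

theorem card2 {a b c d g : G} (ha : a ∈ H ∧ a ^ 3 = 1) (hb : b ∈ H ∧ b ^ 3 = 1) (hc : c ∈ H ∧ c ^ 3 = 1)
    (hd : d ∈ H ∧ d ^ 3 = 1) (hg : g ∈ H) (e : Φ g * Φ a * (Φ g)⁻¹ = Φ c ∧ Φ g * Φ b * (Φ g)⁻¹ = Φ d) :
    Nat.card ↥(Q ⊓ 𝐂₁(c) ⊓ 𝐂₁(d)) = Nat.card ↥(Q ⊓ 𝐂₁(a) ⊓ 𝐂₁(b)) := by
  rw [inf_assoc, inf_assoc, inf_inf_distrib_left, inf_inf_distrib_left Q 𝐂₁(a), ← h.C_eq ha.1 ha.2, ← h.C_eq hb.1 hb.2,
    ← h.C_eq hc.1 hc.2, ← h.C_eq hd.1 hd.2, ← e.1, ← e.2, h.card_CC hg]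

theorem ind {a b : G} (ha : a ∈ H) (hb : b ∈ H) (k : ∀ i < 3, ∀ j < 3, Φ a ^ i * Φ b ^ j = 1 → i = 0 ∧ j = 0) :
    ∀ i < 3, ∀ j < 3, a ^ i * b ^ j = 1 → i = 0 ∧ j = 0 := fun i hi j hj e => k i hi j hj (by
  rw [← h.hom.pow ha, ← h.hom.pow hb, ← h.hom _ (pow_mem ha _) _ (pow_mem hb _), e, h.hom.one])

/-- the centraliser in `Q` of an element of odd order -/
theorem ex_C {y : G} (hy : y ∈ H) {n : ℕ} (o : Odd n) (yn : y ^ n = 1) :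
    Q ⊓ 𝐂₁(y) = zpowers z ∨ EX (Q ⊓ 𝐂₁(y)) z := by
  have := h.cent_ex (A := zpowers y) (zpowers_le.2 (h.nor hy))
    (by rw [Nat.card_zpowers]; exact o.of_dvd_nat (orderOf_dvd_of_pow_eq_one yn))
  rwa [Bt.cent_zpowers] at this

theorem C_inf_K {y : G} (hy : y ∈ H) {n : ℕ} (o : Odd n) (yn : y ^ n = 1) {q : G} (h1 : q ∈ Q ⊓ 𝐂₁(y))
    (h2 : q ∈ 𝐂(Q ⊓ 𝐂₁(y))) : q ∈ zpowers z :=
  (h.ex_C hy o yn).elim (fun e => e ▸ h1) fun e => h.mem_z.2 (e.ctr q h1 h2)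

theorem z_c {y : G} (hy : y ∈ H) : z ∈ Q ⊓ 𝐂₁(y) := ⟨h.mem, mem_c1.2 (mem_c1.1 hy).symm⟩

theorem z_K {W : Subgroup G} (hW : W ≤ Q) : z ∈ Q ⊓ 𝐂(W) := ⟨h.mem, fun w hw => h.zc (hW hw)⟩

theorem card_K {W : Subgroup G} (hz : z ∈ W) (hW : W ≤ Q) : Nat.card W * Nat.card ↥(Q ⊓ 𝐂(W)) = 1024 := by
  rw [h.card_mul_card hz hW, h.card]; rfl

theorem WW_eq {t : G} (c : t * z = z * t) : WW h.toLQ c = C (Φ t) := Subgroup.ext fun q => by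
  refine ⟨fun k => ((C (Φ t)).inv_mem_iff).1 ?_, fun k => ((WW h.toLQ c).inv_mem_iff).1 ⟨inv_mem k.1, ?_⟩⟩
  · rw [← h.C_inv (mem_c1.2 c), ← h.hom.inv (mem_c1.2 c), h.mem_C (inv_mem (mem_c1.2 c)) (inv_mem k.1), h.mem_z]
    refine k.2.imp (fun e => ?_) fun e => ?_
    · calc _ = q * t * q⁻¹ * t⁻¹ := by group
        _ = _ := by rw [e, mul_inv_cancel]
    · calc _ = q * t * q⁻¹ * t⁻¹ := by group
        _ = _ := by rw [e, mul_inv_cancel_right]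
  · rw [← h.C_inv (mem_c1.2 c), ← h.hom.inv (mem_c1.2 c), h.mem_C (inv_mem (mem_c1.2 c)) k.1, h.mem_z] at k
    exact k.imp (fun e => (show _ = q⁻¹ * (t⁻¹⁻¹ * q * t⁻¹) * t by group).trans (by rw [e, one_mul])) fun e => by
      rw [← e]; group

/-- commutators centralise the fixed points -/
theorem comm_C {x q w : G} (hx : x ∈ H) (hq : q ∈ Q) (hw : w ∈ C (Φ x)) :
    w * (q⁻¹ * (x⁻¹ * q * x)) = q⁻¹ * (x⁻¹ * q * x) * w := by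
  have e1 : x⁻¹ * (w * q * w⁻¹ * q⁻¹) * x = w * q * w⁻¹ * q⁻¹ := by
    rcases h.mem_z.1 (h.comm_mem hw.1 hq) with e | e <;> rw [e]
    · group
    · rw [mul_assoc, ← mem_c1.1 hx, inv_mul_cancel_left]
  have e2 : ∀ u ∈ Q, x⁻¹ * w * x * u * (x⁻¹ * w * x)⁻¹ = w * u * w⁻¹ := fun u hu => by
    rw [show x⁻¹ * w * x * u * (x⁻¹ * w * x)⁻¹ = w * ((w⁻¹ * (x⁻¹ * w * x)) * u * (w⁻¹ * (x⁻¹ * w * x))⁻¹) * w⁻¹ by group]
    rcases h.mem_z.1 (hw.2.2 x hx rfl) with e | e <;> rw [e]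
    · group
    · rw [← h.zc hu, mul_inv_cancel_right]
  rw [← conj_eq_iff, conj_mul_conj, ← e2 _ (h.cQ hx hq)]
  calc _ = w * q⁻¹ * w⁻¹ * (x⁻¹ * (w * q * w⁻¹ * q⁻¹) * x) * (x⁻¹ * q * x) := by group
    _ = _ := by rw [e1]; group

end Qt

end CF.LX4
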