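import Cfsg.Agent.LX4.Wn
import Cfsg.Agent.Bt.Part

/-! Involution centralisers `2^{1+8}.K` with `3 × A₆ ≤ K ≤ S₃ × S₆`: the elements of order three. -/

set_option autoImplicit false
set_option maxRecDepth 100000
set_option linter.unusedSectionVars false

namespace CF.LX4
open Cfsg Subgroup CF.Loc CF.Even CF.LX CF.J4 CF.MonU Equiv Equiv.Perm
open CF.ThR (comm_lift c1_mul c1_inv nine_formula odd_of_mod card_mod norm_c1 ncard_modEq)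

/-- the quotient group -/
abbrev Γ6 : Type := Perm (Fin 3) × Perm (Fin 6)

/-- the normal element of order three -/
def X : Γ6 := (swap 0 2 * swap 0 1, 1)

/-- a three-cycle -/
def R1 : Γ6 := (1, swap 0 2 * swap 0 1)

/-- a three-cycle -/
def R2 : Γ6 := (1, swap 3 5 * swap 3 4)

theorem conjA {α : Type} [Fintype α] [DecidableEq α] {σ τ o : Perm α} (h : σ.cycleType = τ.cycleType)
    (h1 : sign o = -1) (h2 : o * τ = τ * o) : ∃ ρ : Perm α, sign ρ = 1 ∧ ρ * σ * ρ⁻¹ = τ := by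
  obtain ⟨ρ, e⟩ := isConj_iff.1 (isConj_iff_cycleType_eq.2 h)
  rcases Int.units_eq_one_or (sign ρ) with k | k
  · exact ⟨ρ, k, e⟩
  · refine ⟨o * ρ, by rw [map_mul, h1, k]; rfl, ?_⟩
    calc _ = o * (ρ * σ * ρ⁻¹) * o⁻¹ := by group
      _ = _ := by rw [e, h2, mul_inv_cancel_right]

theorem invol_type {σ : Perm (Fin 6)} (h : σ * σ = 1) (h1 : σ ≠ 1) (h2 : sign σ = 1) : σ.cycleType = {2, 2} := by
  haveI : Fact (Nat.Prime 2) := ⟨Nat.prime_two⟩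
  have e := cycleType_of_pow_prime_eq_one (p := 2) (by rwa [sq])
  have s := σ.sum_cycleType_le
  have c := card_cycleType_eq_zero.not.2 h1
  rw [sign_of_cycleType] at h2
  generalize σ.cycleType.card = n at e c h2
  rw [e, Multiset.sum_replicate] at s h2
  simp only [smul_eq_mul, Fintype.card_fin] at s
  have : n ≤ 3 := by omega
  rw [e]
  interval_cases n <;> first | exact absurd rfl c | exact absurd h2 (by decide) | simp

theorem X_cases (σ : Γ6) : σ.1 * σ.1 = 1 → σ.1 = 1 ∧ σ * X = X * σ ∨ sign σ.1 = -1 ∧ σ * X * σ⁻¹ = X⁻¹ := by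
  obtain ⟨a, b⟩ := σ
  simp only [X, Prod.mk_mul_mk, Prod.inv_mk, Prod.mk.injEq, mul_one, one_mul, inv_one, mul_inv_cancel, and_true]
  revert a; decide

theorem X_conj (σ : Γ6) : σ * X * σ⁻¹ = X ∨ σ * X * σ⁻¹ = X⁻¹ := by
  obtain ⟨a, b⟩ := σ
  simp only [X, Prod.mk_mul_mk, Prod.inv_mk, Prod.mk.injEq, mul_one, one_mul, inv_one, mul_inv_cancel, and_true]
  revert a; decide

theorem big_mem {S : Subgroup Γ6} (h2 : IsPGroup 2 S) (hc : 16 < Nat.card S) {σ : Γ6} (e : σ ^ 2 ^ 2 = 1) :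
    ∃ γ, γ * σ * γ⁻¹ ∈ S := by
  have c : Nat.card (⊤ : Subgroup Γ6) = 2 ^ 5 * 135 := by simp [Fintype.card_perm, Nat.factorial]
  obtain ⟨n, k⟩ := h2.exists_card_eq
  have d := card_dvd_of_le (le_top : S ≤ ⊤)
  rw [c, k] at d
  have := (Nat.pow_dvd_pow_iff_le_right one_lt_two).1 ((Nat.Coprime.pow_left n (by norm_num)).dvd_of_dvd_mul_right d)
  obtain ⟨γ, -, m⟩ := Bt.exists_conj_mem (le_top : S ≤ ⊤) Nat.prime_two (m := 135) (by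
    rw [k] at hc
    rw [c, k]
    interval_cases n <;> simp_all) (by decide) (mem_top σ) e
  exact ⟨γ, m⟩

theorem elem_le {S : Subgroup Γ6} (h : ∀ σ ∈ S, σ * σ = 1) : Nat.card S ≤ 16 := by
  by_contra! n
  obtain ⟨γ, m⟩ := big_mem (isPGroup_iff_forall.2 fun x hx => ⟨1, by rw [pow_one, sq, h x hx]⟩) n
    (σ := (1, swap 0 1 * swap 1 2 * swap 2 3)) (by decide)
  have := h _ m
  rw [conj_mul, conj_eq_one_iff] at this
  exact absurd this (by decide)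

theorem tri_nat {a α β e m n f u v : ℕ} (f1 : 2 * α + 1 + (2 * α + 1) + (2 * β + 1) + (2 * β + 1) = 9 + (2 * e + 1) * 3)
    (f2 : 2 * a + 1 + (2 * α + 1) + (2 * u + 1) + (2 * u + 1) = 9 + (2 * m + 1) * 3)
    (f3 : 2 * a + 1 + (2 * β + 1) + (2 * v + 1) + (2 * v + 1) = 9 + (2 * n + 1) * 3)
    (f4 : 2 * m + 1 + (2 * m + 1) + (2 * n + 1) + (2 * n + 1) = 2 * a + 1 + (2 * f + 1) * 3)
    (l1 : a < 4) (l2 : α < 4) (l3 : β < 4) (l4 : m ≤ a) (l5 : n ≤ a) (l6 : m ≤ α) (l7 : n ≤ β) :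
    a = 0 ∧ (α = 0 ∨ β = 0) ∨ a = 3 ∧ (α = 3 ∨ β = 3) ∨ a = 2 ∧ (m = 0 ∨ n = 0) := by
  interval_cases a <;> interval_cases α <;> interval_cases β <;> omega

variable {G : Type*} [Group G]

theorem even_ncard [Finite G] {O : Set G} {z : G} (zz : z * z = 1) (z1 : z ≠ 1) (h : ∀ w ∈ O, w * z ∈ O) :
    2 ∣ O.ncard := by
  classical
  haveI := Fact.mk Nat.prime_two
  letI := Fintype.ofFinite O
  let f : Function.End O := fun w => ⟨w * z, h w w.2⟩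
  have := Equiv.Perm.card_fixedPoints_modEq (f := f) (p := 2) (n := 1) (funext fun w =>
    Subtype.ext (show w * z * z = w by rw [mul_assoc, zz, mul_one]))
  rw [(Fintype.card_eq_zero_iff (α := Function.fixedPoints f)).2
    ⟨fun w => z1 (mul_eq_left.1 (congrArg Subtype.val w.2))⟩] at this
  rw [← Nat.card_coe_set_eq, Nat.card_eq_fintype_card]
  exact (Nat.modEq_zero_iff_dvd).1 this

namespace Qt
variable {Γ : Type} [Group Γ] [Finite G] {Q : Subgroup G} {z : G} {Φ : G → Γ} (h : Qt Q z Φ)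
include h

local notation "H" => 𝐂₁(z)
local notation "C" => Cf Q z Φ

theorem lg3 {K : Subgroup G} (hK : K ≤ Q) (c : Nat.card K ≡ 2 [MOD 3]) : ∃ e, Nat.card K = 2 ^ (2 * e + 1) := by
  obtain ⟨e, -, k⟩ := h.lg hK
  exact ⟨e / 2, by rw [k]; congr 1; have := two_pow_mod (k ▸ c); omega⟩

theorem mod1 {x : G} (hx : x ∈ H ∧ x ^ 3 = 1) : Nat.card ↥(Q ⊓ 𝐂₁(x)) ≡ 2 [MOD 3] :=
  (card_mod Nat.prime_three hx.2 (h.nor hx.1)).symm.trans (by rw [h.card]; decide)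

theorem mod2 {x y : G} (hx : x ∈ H ∧ x ^ 3 = 1) (hy : y ∈ H ∧ y ^ 3 = 1) (c : Commute y x) :
    Nat.card ↥(Q ⊓ 𝐂₁(x) ⊓ 𝐂₁(y)) ≡ 2 [MOD 3] :=
  (card_mod Nat.prime_three hy.2 (norm_c1 (h.nor hy.1) c)).symm.trans (h.mod1 hx)

theorem C_lt {x : G} (hx : x ∈ H ∧ x ^ 3 = 1) (n : Φ x ≠ 1) {e : ℕ} (k : Nat.card ↥(Q ⊓ 𝐂₁(x)) = 2 ^ (2 * e + 1)) :
    e < 4 := by
  have := card_lt_card_of_lt (lt_of_le_not_ge (inf_le_left : Q ⊓ 𝐂₁(x) ≤ Q) (h.C_eq hx.1 hx.2 ▸ h.C_ne hx.1 n))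
  rw [k, h.card, Nat.pow_lt_pow_iff_right one_lt_two] at this
  omega

omit h in
theorem mu {a b : G} (ha : a ∈ H ∧ a ^ 3 = 1) (hb : b ∈ H ∧ b ^ 3 = 1) (c : Commute b a) :
    a * b ∈ H ∧ (a * b) ^ 3 = 1 := ⟨mul_mem ha.1 hb.1, by rw [c.symm.mul_pow, ha.2, hb.2, one_mul]⟩

omit h in
theorem iv {a : G} (ha : a ∈ H ∧ a ^ 3 = 1) : a⁻¹ ∈ H ∧ a⁻¹ ^ 3 = 1 := ⟨inv_mem ha.1, by rw [inv_pow, ha.2, inv_one]⟩

/-- an extraspecial group of order `32` with a fixed point free automorphism of order three has none of order five -/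
theorem five {W : Subgroup G} (hW : W ≤ Q) (hz : z ∈ W) (c : Nat.card W = 32) (n : ¬ W ≤ 𝐂(W)) {u y : G} (u3 : u ^ 3 = 1)
    (uH : u ∈ H) (nu : u ∈ 𝐍(W)) (fu : ∀ k ∈ W, k * u = u * k → k ∈ zpowers z) (y5 : y ^ 5 = 1) (yH : y ∈ H)
    (ny : y ∈ 𝐍(W)) : W ≤ 𝐂₁(y) := by
  have m := card_mod (p := 5) (by norm_num) y5 ny
  obtain ⟨e, he, k⟩ := (Nat.dvd_prime_pow Nat.prime_two (m := 5)).1 (c ▸ card_dvd_of_le (inf_le_left : W ⊓ 𝐂₁(y) ≤ W))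
  rw [c, k] at m
  by_contra nn
  have l := card_lt_card_of_lt (lt_of_le_not_ge (inf_le_left : W ⊓ 𝐂₁(y) ≤ W) fun f => nn (f.trans inf_le_right))
  have fy : ∀ k ∈ W, k * y = y * k → k ∈ zpowers z := fun j hj e' => (eq_of_le_of_card_le
    (zpowers_le.2 ⟨hz, (h.z_c yH).2⟩ : zpowers z ≤ W ⊓ 𝐂₁(y)) (by
      rw [k, c] at l
      rw [k, h.card_z]
      interval_cases e <;> simp_all [Nat.ModEq])).ge ⟨hj, mem_c1.2 e'⟩
  let s : Set G := {k | k ∈ W ∧ k * k = 1}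
  have key : ∀ {p : ℕ} {v : G}, p.Prime → v ^ p = 1 → v ∈ H → v ∈ 𝐍(W) → (∀ k ∈ W, k * v = v * k → k ∈ zpowers z) →
      s.ncard ≡ 2 [MOD p] := fun {p v} hp vp vH nv fv => by
    have := ncard_modEq hp vp (s := s) fun x hx => ⟨norm_mem' nv hx.1, by rw [conj_mul, hx.2]; simp⟩
    rwa [show s ∩ 𝐂₁(v) = zpowers z from Set.ext fun k => ⟨fun hk => fv k hk.1.1 (mem_c1.1 hk.2), fun hk =>
      ⟨⟨zpowers_le.2 hz hk, by rcases h.mem_z.1 hk with e | e <;> simp [e, h.zz]⟩,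
        zpowers_le.2 (h.z_c vH).2 hk⟩⟩, show (zpowers z : Set G).ncard = 2 from h.card_z] at this
  have m3 := key Nat.prime_three u3 uH nu fu
  have m5 := key (by norm_num) y5 yH ny fy
  have le : s.ncard ≤ 32 := c ▸ Set.ncard_le_ncard fun k hk => hk.1
  have ev := even_ncard h.zz h.z_ne (O := s) fun w hw => ⟨W.mul_mem hw.1 hz, by
    rw [mul_assoc, ← mul_assoc z, ← h.zc (hW hw.1), mul_assoc, h.zz, mul_one, hw.2]⟩
  rcases (by unfold Nat.ModEq at m3 m5; omega : s.ncard = 32 ∨ s.ncard = 2) with e | e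
  · have := (Set.eq_of_subset_of_ncard_le (fun k hk => hk.1 : s ⊆ W) (c.trans e.symm).le).ge
    refine n fun a ha b hb => ?_
    rw [← mul_left_inj (a * b), mul_assoc, ← mul_assoc a, (this ha).2, one_mul, (this hb).2, (this (W.mul_mem ha hb)).2]
  · have := (Set.eq_of_subset_of_ncard_le (fun k hk => ⟨zpowers_le.2 hz hk, by
      rcases h.mem_z.1 hk with e | e <;> simp [e, h.zz]⟩ : (zpowers z : Set G) ⊆ s) (e.trans h.card_z.symm).le).ge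
    have sq : ∀ a ∈ W, a ∉ zpowers z → a * a = z := fun a ha n => (h.sq a (hW ha)).resolve_left fun e => n (this ⟨ha, e⟩)
    obtain ⟨a, ha, na⟩ := SetLike.not_le_iff_exists.1 (show ¬ W ≤ zpowers z from fun e => by
      have := card_le_of_le e
      rw [c, h.card_z] at this
      omega)
    have za : zpowers z ≤ zpowers a := zpowers_le.2 (sq a ha na ▸ mul_mem (mem_zpowers a) (mem_zpowers a))
    obtain ⟨b, hb, nb⟩ := SetLike.not_le_iff_exists.1 (show ¬ 𝐂₁(a) ⊓ W ≤ zpowers a from fun e => by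
      have l1 := (two_c1 h.toLQ hW (hW ha)).trans (Nat.mul_le_mul_right 2 (card_le_of_le e))
      have l2 := orderOf_le_of_pow_eq_one (by norm_num) (h.q4 (hW ha))
      rw [c, Nat.card_zpowers] at l1
      omega)
    refine nb ((mul_mem_cancel_right (mem_zpowers a)).1 (za (this ⟨W.mul_mem hb.2 ha, ?_⟩)))
    rw [mul_assoc, ← mul_assoc a, ← mem_c1.1 hb.1, mul_assoc, sq a ha na, ← mul_assoc, sq b hb.2 fun e => nb (za e), h.zz]

end Qt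

/-- the setting -/
structure S36 (Q : Subgroup G) (z : G) (Φ : G → Γ6) : Prop extends Qt Q z Φ where
  sur : ∀ σ : Γ6, sign σ.1 = 1 → sign σ.2 = 1 → ∃ h ∈ 𝐂₁(z), Φ h = σ

namespace S36
variable [Finite G] {Q : Subgroup G} {z : G} {Φ : G → Γ6} (h : S36 Q z Φ)
include h

local notation "H" => 𝐂₁(z)
local notation "C" => Cf Q z Φ

protected theorem cj (g : G) : S36 (cj[g] Q) (g * z * g⁻¹) fun x => Φ (g⁻¹ * x * g) :=
  ⟨h.toQt.cj g, fun σ a b => by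
    obtain ⟨x, hx, e⟩ := h.sur σ a b
    exact ⟨g * x * g⁻¹, cj_centralizer_singleton g z ▸ conj_mem_cj g hx, by simpa [mul_assoc] using e⟩⟩

theorem card2 {a b c d : G} (ha : a ∈ H ∧ a ^ 3 = 1) (hb : b ∈ H ∧ b ^ 3 = 1) (hc : c ∈ H ∧ c ^ 3 = 1)
    (hd : d ∈ H ∧ d ^ 3 = 1) (ρ : Perm (Fin 6))
    (e : sign ρ = 1 ∧ (1, ρ) * Φ a * (1, ρ)⁻¹ = Φ c ∧ (1, ρ) * Φ b * (1, ρ)⁻¹ = Φ d) :
    Nat.card ↥(Q ⊓ 𝐂₁(c) ⊓ 𝐂₁(d)) = Nat.card ↥(Q ⊓ 𝐂₁(a) ⊓ 𝐂₁(b)) := by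
  obtain ⟨g, hg, k⟩ := h.sur (1, ρ) (map_one _) e.1
  exact h.toQt.card2 ha hb hc hd hg (k ▸ e.2)

theorem tri : Nat.card (C X) = 2 ∧ (Nat.card (C R1) = 2 ∨ Nat.card (C (R1 * R2)) = 2) ∨
    Nat.card (C X) = 128 ∧ (Nat.card (C R1) = 128 ∨ Nat.card (C (R1 * R2)) = 128) ∨
    Nat.card (C X) = 32 ∧ (Nat.card ↥(C X ⊓ C R1) = 2 ∨ Nat.card ↥(C X ⊓ C (R1 * R2)) = 2) := by
  obtain ⟨x, hx, y, hy, w, hw, ex, ey, ew, x3, y3, w3, yx, wx, wy⟩ := h.lifts (a := X) (b := R1) (c := R2)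
    (h.sur _ (by decide) (by decide)) (h.sur _ (by decide) (by decide)) (h.sur _ (by decide) (by decide))
    (by decide) (by decide) (by decide) (by decide) (by decide) (by decide)
  have c32 : Nat.Coprime 3 2 := by norm_num
  have hX := And.intro hx x3
  have Y := And.intro hy y3
  have W := And.intro hw w3
  have YW := Qt.mu Y W wy
  have c1 : Commute (y * w) x := yx.mul_left wx
  have XY := Qt.mu hX Y yx
  have XYW := Qt.mu hX YW c1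
  have eyw : Φ (y * w) = R1 * R2 := by rw [h.hom _ hy _ hw, ey, ew]
  have f1 := nine_formula y3 w3 wy.symm (h.ind hy hw (by rw [ey, ew]; decide)) (h.nor hy) (h.nor hw) (h.cop le_rfl c32)
  have f2 := nine_formula x3 y3 yx.symm (h.ind hx hy (by rw [ex, ey]; decide)) (h.nor hx) (h.nor hy) (h.cop le_rfl c32)
  have f3 := nine_formula x3 YW.2 c1.symm (h.ind hx YW.1 (by rw [ex, eyw]; decide)) (h.nor hx) (h.nor YW.1)
    (h.cop le_rfl c32)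
  have f4 := nine_formula y3 w3 wy.symm (h.ind hy hw (by rw [ey, ew]; decide)) (norm_c1 (h.nor hy) yx)
    (norm_c1 (h.nor hw) wx) (h.cop inf_le_left c32)
  have YW' := Qt.mu Y (Qt.iv W) wy.inv_left
  have eyw' : Φ (y * w⁻¹) = R1 * R2⁻¹ := by rw [h.hom _ hy _ (inv_mem hw), h.hom.inv hw, ey, ew]
  have e1 := h.card2 Y Y W W (swap 0 3 * swap 1 4 * swap 2 5 * swap 3 4) (by rw [ey, ew]; decide)
  have e2 := h.card2 YW YW YW' YW' (swap 4 5 * (swap 0 3 * swap 1 4 * swap 2 5)) (by rw [eyw, eyw']; decide)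
  have e3 := h.card2 XY XY (Qt.mu hX (Qt.iv Y) yx.inv_left) (Qt.mu hX (Qt.iv Y) yx.inv_left) (swap 1 2 * swap 4 5) (by
    rw [h.hom _ hx _ hy, h.hom _ hx _ (inv_mem hy), h.hom.inv hy, ex, ey]; decide)
  have e4 := h.card2 XYW XYW (Qt.mu hX (Qt.iv YW) c1.inv_left) (Qt.mu hX (Qt.iv YW) c1.inv_left) (swap 1 2 * swap 4 5) (by
    rw [h.hom _ hx _ YW.1, h.hom _ hx _ (inv_mem YW.1), h.hom.inv YW.1, ex, eyw]; decide)
  have e5 := h.card2 hX Y hX W (swap 0 3 * swap 1 4 * swap 2 5 * swap 3 4) (by rw [ex, ey, ew]; decide)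
  have e6 := h.card2 hX YW hX YW' (swap 4 5 * (swap 0 3 * swap 1 4 * swap 2 5)) (by rw [ex, eyw, eyw']; decide)
  simp only [inf_assoc Q, inf_idem] at e1 e2 e3 e4
  rw [e1, e2] at f1
  rw [e3] at f2
  rw [e4] at f3
  rw [e5, e6] at f4
  rw [← ex, ← eyw, ← ey, h.C_eq hx x3, h.C_eq hy y3, h.C_eq YW.1 YW.2, ← inf_inf_distrib_left, ← inf_inf_distrib_left,
    ← inf_assoc, ← inf_assoc]
  have l4 := card_le_of_le (inf_le_left : Q ⊓ 𝐂₁(x) ⊓ 𝐂₁(y) ≤ _)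
  have l5 := card_le_of_le (inf_le_left : Q ⊓ 𝐂₁(x) ⊓ 𝐂₁(y * w) ≤ _)
  have l6 := card_le_of_le (inf_le_inf_right _ inf_le_left : Q ⊓ 𝐂₁(x) ⊓ 𝐂₁(y) ≤ Q ⊓ 𝐂₁(y))
  have l7 := card_le_of_le (inf_le_inf_right _ inf_le_left : Q ⊓ 𝐂₁(x) ⊓ 𝐂₁(y * w) ≤ Q ⊓ 𝐂₁(y * w))
  obtain ⟨a, ka⟩ := h.lg3 inf_le_left (h.mod1 hX)
  obtain ⟨α, kα⟩ := h.lg3 inf_le_left (h.mod1 Y)
  obtain ⟨β, kβ⟩ := h.lg3 inf_le_left (h.mod1 YW)
  obtain ⟨u, ku⟩ := h.lg3 inf_le_left (h.mod1 XY)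
  obtain ⟨v, kv⟩ := h.lg3 inf_le_left (h.mod1 XYW)
  obtain ⟨e, ke⟩ := h.lg3 (inf_le_left.trans inf_le_left) (h.mod2 Y W wy)
  obtain ⟨m, km⟩ := h.lg3 (inf_le_left.trans inf_le_left) (h.mod2 hX Y yx)
  obtain ⟨n, kn⟩ := h.lg3 (inf_le_left.trans inf_le_left) (h.mod2 hX YW c1)
  obtain ⟨f, kf⟩ := h.lg3 (inf_le_left.trans (inf_le_left.trans inf_le_left)) ((card_mod Nat.prime_three w3
    (norm_c1 (norm_c1 (h.nor hw) wx) wy)).symm.trans (h.mod2 hX Y yx))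
  have l1 := h.C_lt hX (by rw [ex]; decide) ka
  have l2 := h.C_lt Y (by rw [ey]; decide) kα
  have l3 := h.C_lt YW (by rw [eyw]; decide) kβ
  simp only [ka, kα, kβ, ku, kv, ke, km, kn, kf, h.card, ← pow_add, ← pow_mul, Nat.pow_right_inj one_lt_two,
    Nat.pow_le_pow_iff_right one_lt_two] at f1 f2 f3 f4 l4 l5 l6 l7 ⊢
  rcases tri_nat f1 f2 f3 f4 l1 l2 l3 (by omega) (by omega) (by omega) (by omega) with
    ⟨rfl, rfl | rfl⟩ | ⟨rfl, rfl | rfl⟩ | ⟨rfl, rfl | rfl⟩ <;> simp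

theorem lift {σ : Γ6} (h1 : sign σ.1 = 1) (h2 : sign σ.2 = 1) {p : ℕ} (o : p % 4 = 1 ∨ p % 4 = 3) (e : σ ^ p = 1) :
    ∃ y ∈ H, Φ y = σ ∧ y ^ p = 1 := by
  obtain ⟨x, hx, rfl⟩ := h.sur σ h1 h2
  obtain ⟨y, -, k⟩ := h.lift_odd o hx e
  exact ⟨y, k⟩

theorem nor_X {g : G} (hg : g ∈ H) : g ∈ 𝐍(C X) := by
  obtain ⟨x, hx, e⟩ := h.sur X (by decide) (by decide)
  rcases X_conj (Φ g) with k | k
  · exact h.nor_C hg (mul_inv_eq_iff_eq_mul.1 k)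
  · rw [← e] at k ⊢; exact h.nor_C' hg hx k

theorem not_c {ρ : Γ6} (c : Nat.card (C X) = 32) (c2 : Nat.card ↥(C X ⊓ C ρ) = 2) {α β : Γ6}
    (k : ρ = α * β ∧ ρ ^ 3 = 1 ∧ α ^ 5 = 1 ∧ β ^ 5 = 1 ∧ sign α.1 = 1 ∧ sign α.2 = 1 ∧ sign β.1 = 1 ∧ sign β.2 = 1) :
    False := by
  obtain ⟨x, hx, ex, x3⟩ := h.lift (σ := X) (p := 3) (by decide) (by decide) (.inr rfl) (by decide)
  obtain ⟨a, ha, rfl, a5⟩ := h.lift k.2.2.2.2.1 k.2.2.2.2.2.1 (.inl rfl) k.2.2.1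
  obtain ⟨b, hb, rfl, b5⟩ := h.lift k.2.2.2.2.2.2.1 k.2.2.2.2.2.2.2 (.inl rfl) k.2.2.2.1
  obtain ⟨u, -, hu, eu, u3⟩ := h.lift_odd (.inr rfl) (mul_mem ha hb) (by rw [h.hom _ ha _ hb, ← k.1, k.2.1])
  rw [h.hom _ ha _ hb, ← k.1] at eu
  have f : C X ⊓ C ρ ≤ zpowers z := (eq_of_le_of_card_le (zpowers_le.2 (mem_inf.2 ⟨h.z_C _, h.z_C _⟩))
    (by rw [c2, h.card_z])).ge
  have n : ¬ C X ≤ zpowers z := fun e => by
    have := card_le_of_le e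
    rw [c, h.card_z] at this
    omega
  have key : ∀ {a}, a ∈ H → a ^ 5 = 1 → C X ≤ C (Φ a) := fun ha a5 q hq => h.C_of ha hq.1 (mem_c1.1
    (h.five (h.C_le _) (h.z_C _) c (fun e => n fun q hq => by
      rw [← ex, h.C_eq hx x3] at e hq
      exact h.C_inf_K hx (by decide) x3 hq (e hq)) u3 hu (h.nor_X hu)
      (fun k hk e => f ⟨hk, eu ▸ h.C_of hu hk.1 e⟩) a5 ha (h.nor_X ha) hq))
  exact n fun q hq => f ⟨hq, k.1 ▸ h.C_mul ha hb (key ha a5 hq) (key hb b5 hq)⟩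

end S36

end CF.LX4
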