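import Cfsg.Agent.LX4.Qt

/-! Quaternion subgroups of `Q`, commuting conjugates of the centre. -/

set_option autoImplicit false
set_option linter.unusedSectionVars false

namespace CF.LX4
open Cfsg Subgroup CF.Loc CF.Even CF.LX CF.J4 CF.MonU
open CF.ThR (comm_lift c1_mul c1_inv nine_formula odd_of_mod card_mod norm_c1)
open scoped commutatorElement

variable {G : Type*} {Γ : Type} [Group G] [Group Γ]

/-- a quaternion subgroup with an automorphism of order three -/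
structure S8 (Q : Subgroup G) (z : G) (S : Subgroup G) (y : G) : Prop where
  le : S ≤ Q
  zm : z ∈ S
  card : Nat.card S = 8
  yH : y ∈ 𝐂₁(z)
  y3 : y ^ 3 = 1
  n : y ∈ 𝐍(S)
  fpf : ∀ k ∈ S, k * y = y * k → k ∈ zpowers z
  nab : ¬ S ≤ 𝐂(S)

theorem nor_inf [Finite G] {A B : Subgroup G} {g : G} (a : g ∈ 𝐍(A)) (b : g ∈ 𝐍(B)) : g ∈ 𝐍(A ⊓ B) :=
  mem_normalizer_fintype fun _ hq => ⟨norm_mem' a hq.1, norm_mem' b hq.2⟩

theorem inv_d {t : G} (tt : t * t = 1) (k : G) : t⁻¹ * (k⁻¹ * (t⁻¹ * k * t)) * t = (k⁻¹ * (t⁻¹ * k * t))⁻¹ := by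
  rw [inv_eq_of_mul_eq_one_left tt, mul_assoc, mul_assoc, mul_assoc, tt, mul_one, mul_inv_rev, mul_inv_rev, mul_inv_rev,
    inv_eq_of_mul_eq_one_left tt, inv_inv, mul_assoc, mul_assoc]

namespace Qt
variable [Finite G] {Q : Subgroup G} {z : G} {Φ : G → Γ} (h : Qt Q z Φ)
include h

local notation "H" => 𝐂₁(z)
local notation "C" => Cf Q z Φ

theorem fix_mem {g k : G} (hg : g ∈ H) (gg : g * g ∈ Q) (hk : k ∈ Q) : k * (g⁻¹ * k * g) ∈ C (Φ g) := by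
  have m := h.cQ hg hk
  rw [h.mem_C hg (mul_mem hk m), show (k * (g⁻¹ * k * g))⁻¹ * (g⁻¹ * (k * (g⁻¹ * k * g)) * g) =
    (g⁻¹ * k * g)⁻¹ * k⁻¹ * (g⁻¹ * k * g)⁻¹⁻¹ * k⁻¹⁻¹ * (k⁻¹ * (g * g)⁻¹ * k⁻¹⁻¹ * (g * g)⁻¹⁻¹) by
      simp only [mul_inv_rev, inv_inv, mul_assoc, inv_mul_cancel_left, mul_inv_cancel_left]]
  exact mul_mem (h.comm_mem (inv_mem m) (inv_mem hk)) (h.comm_mem (inv_mem hk) (inv_mem gg))

theorem d_mem {g k : G} (hg : g ∈ H) (gg : g * g ∈ Q) (hk : k ∈ Q) : k⁻¹ * (g⁻¹ * k * g) ∈ C (Φ g) := by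
  rw [show k⁻¹ * (g⁻¹ * k * g) = (k * k)⁻¹ * (k * (g⁻¹ * k * g)) by group]
  exact mul_mem (inv_mem (zpowers_le.2 (h.z_C _) (h.sq_mem hk))) (h.fix_mem hg gg hk)

theorem exists_fix {S : Subgroup G} (hS : S ≤ Q) {g : G} (hg : g ∈ H) (gg : g * g ∈ Q) (n : g ∈ 𝐍(S))
    (hn : ¬ S ≤ zpowers z) : ¬ S ⊓ C (Φ g) ≤ zpowers z := fun e => hn fun k hk => e ⟨hk,
  (h.mem_C hg (hS hk)).2 (e ⟨S.mul_mem (S.inv_mem hk) (norm_mem n hk), h.d_mem hg gg (hS hk)⟩)⟩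

section
variable {S : Subgroup G} {y : G} (s : S8 Q z S y)
include s

theorem s_ne : ¬ S ≤ zpowers z := fun e => by
  have := card_le_of_le e
  rw [s.card, h.card_z] at this
  omega

theorem s_sub {W : Subgroup G} (hW : W ≤ S) (hz : z ∈ W) (n : y ∈ 𝐍(W)) (hn : ¬ W ≤ zpowers z) : W = S := by
  have m := card_mod Nat.prime_three s.y3 n
  rw [show W ⊓ 𝐂₁(y) = zpowers z from le_antisymm (fun k hk => s.fpf k (hW hk.1) (mem_c1.1 hk.2))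
    (zpowers_le.2 ⟨hz, (h.z_c s.yH).2⟩), h.card_z] at m
  obtain ⟨e, he, k⟩ := (Nat.dvd_prime_pow Nat.prime_two (m := 3)).1 (s.card ▸ card_dvd_of_le hW)
  refine eq_of_le_of_card_le hW ?_
  have := card_lt_card_of_lt (lt_of_le_not_ge (zpowers_le.2 hz) hn)
  rw [h.card_z, k] at this
  rw [k] at m
  rw [k, s.card]
  interval_cases e <;> simp_all [Nat.ModEq]

theorem s_cen {k : G} (hk : k ∈ S) (c : k ∈ 𝐂(S)) : k ∈ zpowers z := by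
  by_contra n
  exact s.nab ((h.s_sub s inf_le_left ⟨s.zm, (h.z_K s.le).2⟩ (nor_inf s.n (normalizer_le_normalizer_centralizer S s.n))
    fun e => n (e ⟨hk, c⟩)).ge.trans inf_le_right)

theorem s_sq {k : G} (hk : k ∈ S) (n : k ∉ zpowers z) : k * k = z := by
  refine (h.sq k (s.le hk)).resolve_left fun kk => n (h.s_cen s hk ?_)
  have y3 : ∀ u, y⁻¹ * (y⁻¹ * (y⁻¹ * u * y) * y) * y = u := fun u => by
    calc _ = (y ^ 3)⁻¹ * u * y ^ 3 := by simp only [pow_succ, pow_zero, one_mul]; group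
      _ = _ := by rw [s.y3]; simp
  have sq : ∀ u, u * u = 1 → y⁻¹ * u * y * (y⁻¹ * u * y) = 1 := fun u uu =>
    (show _ = y⁻¹ * (u * u) * y by group).trans (by rw [uu]; simp)
  have key : ∀ u ∈ S, u * u = 1 → Commute u (y⁻¹ * u * y) := fun u hu uu => by
    have m1 := norm_mem s.n hu
    have m2 := norm_mem s.n m1
    have m := mul_mem (mul_mem hu m1) m2
    have f := s.fpf _ m (mem_c1.1 ((h.C_eq s.yH s.y3).le ((h.mem_C s.yH (s.le m)).2 (by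
      have := h.comm_mem (inv_mem (s.le m)) (inv_mem (s.le hu))
      rw [show y⁻¹ * (u * (y⁻¹ * u * y) * (y⁻¹ * (y⁻¹ * u * y) * y)) * y = u⁻¹ * (u * (y⁻¹ * u * y) *
        (y⁻¹ * (y⁻¹ * u * y) * y)) * (y⁻¹ * (y⁻¹ * (y⁻¹ * u * y) * y) * y) by group, y3]
      simpa only [inv_inv, mul_assoc] using this))).2)
    have s1 := sq u uu
    have s2 := sq _ s1
    generalize y⁻¹ * (y⁻¹ * u * y) * y = w at *
    generalize y⁻¹ * u * y = v at *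
    have : u * v * (u * v) = 1 := by
      rcases h.mem_z.1 f with e | e <;> rw [eq_mul_inv_of_mul_eq e, inv_eq_of_mul_eq_one_left s2]
      · simpa using s2
      · rw [mul_assoc, ← mul_assoc w, h.zc (s.le m2), mul_assoc, s2, mul_one, h.zz]
    exact (eq_inv_of_mul_eq_one_left this).trans (by
      rw [mul_inv_rev, inv_eq_of_mul_eq_one_left uu, inv_eq_of_mul_eq_one_left s1])
  have c1 := key k hk kk
  have c2 := key _ (norm_mem s.n (norm_mem s.n hk)) (sq _ (sq _ kk))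
  rw [y3] at c2
  have mv : ∀ q u, q ∈ 𝐂₁(y⁻¹ * u * y) → y * q * y⁻¹ ∈ 𝐂₁(u) := fun q u e => mem_c1.2 (by
    calc _ = y * (q * (y⁻¹ * u * y)) * y⁻¹ := by group
      _ = _ := by rw [mem_c1.1 e]; group)
  have := h.s_sub s (W := S ⊓ (𝐂₁(k) ⊓ (𝐂₁(y⁻¹ * k * y) ⊓ 𝐂₁(y⁻¹ * (y⁻¹ * k * y) * y)))) inf_le_left
    ⟨s.zm, mem_c1.2 (h.zc (s.le hk)).symm, mem_c1.2 (h.zc (s.le (norm_mem s.n hk))).symm,
      mem_c1.2 (h.zc (s.le (norm_mem s.n (norm_mem s.n hk)))).symm⟩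
    (mem_normalizer_fintype fun q hq => ⟨norm_mem' s.n hq.1, mv q _ hq.2.2.1, mv q _ hq.2.2.2, mv q _ (by
      rw [y3]; exact hq.2.1)⟩) fun e => n (e ⟨hk, mem_c1.2 rfl, mem_c1.2 c1, mem_c1.2 c2.symm⟩)
  exact fun q hq => mem_c1.1 (this.ge hq).2.1

theorem s_triv {g : G} (hg : g ∈ H) (gg : g * g ∈ Q) (n : g ∈ 𝐍(S)) (e : Φ y * Φ g = Φ g * Φ y) : S ≤ C (Φ g) :=
  (h.s_sub s inf_le_left ⟨s.zm, h.z_C _⟩ (nor_inf s.n (h.nor_C s.yH e)) (h.exists_fix s.le hg gg n (h.s_ne s))).ge.trans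
    inf_le_right

theorem s_non {g : G} (hg : g ∈ H) (e : Φ g * Φ y * (Φ g)⁻¹ = (Φ y)⁻¹) : ¬ S ≤ C (Φ g) := fun k => h.s_ne s fun q hq => by
  have m := h.C_conj s.yH (k (norm_mem s.n hq))
  have yy : Φ y * Φ y = (Φ y)⁻¹ := eq_inv_of_mul_eq_one_left (by
    rw [← pow_three', ← h.hom.pow s.yH, s.y3, h.hom.one])
  rw [← h.hom.conj s.yH hg, show y * (y⁻¹ * q * y) * y⁻¹ = q by group] at m
  have := h.C_mul (mul_mem (mul_mem s.yH hg) (inv_mem s.yH)) (inv_mem hg) m (by rw [h.hom.inv hg, h.C_inv hg]; exact k hq)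
  rw [h.hom.conj s.yH hg, h.hom.inv hg, show Φ y * Φ g * (Φ y)⁻¹ * (Φ g)⁻¹ = Φ y * (Φ g * Φ y * (Φ g)⁻¹)⁻¹ by group, e,
    inv_inv, yy, h.C_inv s.yH, h.C_eq s.yH s.y3] at this
  exact s.fpf q hq (mem_c1.1 this.2)

theorem s_cty {g : G} (hg : g ∈ H) (n : g ∈ 𝐍(S)) (e : Φ g * Φ y * (Φ g)⁻¹ = (Φ y)⁻¹) :
    ∃ k ∈ S, k⁻¹ * (g⁻¹ * k * g) * (k⁻¹ * (g⁻¹ * k * g)) = z := by
  obtain ⟨k, hk, m⟩ := SetLike.not_le_iff_exists.1 (h.s_non s hg e)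
  exact ⟨k, hk, h.s_sq s (mul_mem (inv_mem hk) (norm_mem n hk)) fun f => m ((h.mem_C hg (s.le hk)).2 f)⟩

theorem s_inv {g : G} (hg : g ∈ H) (gg : g * g = 1) (n : g ∈ 𝐍(S)) (e : Φ g * Φ y * (Φ g)⁻¹ = (Φ y)⁻¹) {j : G}
    (hj : j ∈ S) (c : j * g = g * j) : j ∈ zpowers z := by
  obtain ⟨k, hk, dd⟩ := h.s_cty s hg n e
  have m := h.d_mem hg (gg ▸ one_mem _) (s.le hk)
  have mS := mul_mem (inv_mem hk) (norm_mem n hk)
  have i := inv_d gg k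
  generalize k⁻¹ * (g⁻¹ * k * g) = d at *
  have o : orderOf d = 2 ^ (1 + 1) := orderOf_eq_prime_pow (by rw [pow_one, sq, dd]; exact h.z_ne) (h.q4 m.1)
  have l := card_lt_card_of_lt (lt_of_le_not_ge (inf_le_left : S ⊓ C (Φ g) ≤ S) fun f => h.s_non s hg e (f.trans inf_le_right))
  obtain ⟨a, ha, k⟩ := (Nat.dvd_prime_pow Nat.prime_two (m := 3)).1
    (s.card ▸ card_dvd_of_le (inf_le_left : S ⊓ C (Φ g) ≤ S))
  obtain ⟨a, rfl⟩ := (eq_of_le_of_card_le (zpowers_le.2 ⟨mS, m⟩ : zpowers d ≤ S ⊓ C (Φ g)) (by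
    rw [k, s.card] at l
    rw [Nat.card_zpowers, o, k]
    interval_cases a <;> simp_all)).ge ⟨hj, h.C_of hg (s.le hj) c⟩
  by_contra n
  have := h.s_sq s hj n
  have e1 : g⁻¹ * d ^ a * g = (d ^ a)⁻¹ := by
    rw [← inv_zpow, ← i]
    simpa only [inv_inv] using (conj_zpow (a := g⁻¹) (b := d) (i := a)).symm
  rw [mul_assoc, c, inv_mul_cancel_left] at e1
  exact h.z_ne (this.symm.trans (mul_eq_one_iff_eq_inv.2 e1))

/-- an element of order four in the centraliser -/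
theorem s_four {t : G} (c : t * z = z * t) (l : S ≤ C (Φ t)) : ∃ k ∈ S, k * t = t * k ∧ k * k = z := by
  have := card_le_two (K := S) («H» := 𝐂₁(t)) fun a ha b hb na nb => by
    have k : ∀ a ∈ S, a ∉ 𝐂₁(t) → a * t * a⁻¹ = z * t := fun a ha n =>
      ((h.WW_eq c).ge (l ha)).2.resolve_left fun e => n (mem_c1.2 (conj_eq_iff.1 e))
    refine mem_c1.2 (conj_eq_iff.1 ?_)
    rw [show a * b * t * (a * b)⁻¹ = a * (b * t * b⁻¹) * a⁻¹ by group, k b hb nb, ← mul_assoc, h.zc (s.le ha),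
      mul_assoc z, mul_assoc z, k a ha na, ← mul_assoc, h.zz, one_mul]
  obtain ⟨k, hk, n⟩ := SetLike.not_le_iff_exists.1 (show ¬ 𝐂₁(t) ⊓ S ≤ zpowers z from fun e => by
    have := card_le_of_le e
    rw [s.card, h.card_z] at *
    omega)
  exact ⟨k, hk.2, mem_c1.1 hk.1, h.s_sq s hk.2 n⟩

end

theorem s8_K {y : G} (hy : y ∈ H) (y3 : y ^ 3 = 1) (c : Nat.card ↥(Q ⊓ 𝐂₁(y)) = 128) :
    S8 Q z (Q ⊓ 𝐂(Q ⊓ 𝐂₁(y))) y := by
  have k := h.card_K (h.z_c hy) inf_le_left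
  rw [c] at k
  have f : ∀ k ∈ Q ⊓ 𝐂(Q ⊓ 𝐂₁(y)), k * y = y * k → k ∈ zpowers z := fun k hk e =>
    h.C_inf_K hy (by decide) y3 ⟨hk.1, mem_c1.2 e⟩ hk.2
  refine ⟨inf_le_left, h.z_K inf_le_left, by omega, hy, y3, h.nor_K hy (norm_c1 (h.nor hy) rfl), f, fun e => ?_⟩
  have := card_le_of_le (show Q ⊓ 𝐂(Q ⊓ 𝐂₁(y)) ≤ zpowers z from fun k hk => f k hk
    (mem_c1.1 ((h.cent_cent (h.z_c hy) inf_le_left).le ⟨hk.1, e hk⟩).2))
  rw [h.card_z] at this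
  omega

theorem s8_C {x y : G} (hx : x ∈ H) (x3 : x ^ 3 = 1) (hy : y ∈ H) (y3 : y ^ 3 = 1) (e : y * x = x * y)
    (c : Nat.card ↥(Q ⊓ 𝐂₁(x)) = 8) (c2 : Nat.card ↥(Q ⊓ 𝐂₁(x) ⊓ 𝐂₁(y)) = 2) : S8 Q z (Q ⊓ 𝐂₁(x)) y := by
  refine ⟨inf_le_left, h.z_c hx, c, hy, y3, norm_c1 (h.nor hy) e, fun k hk f => (eq_of_le_of_card_le (zpowers_le.2
    ⟨h.z_c hx, (h.z_c hy).2⟩ : zpowers z ≤ Q ⊓ 𝐂₁(x) ⊓ 𝐂₁(y)) (by rw [c2, h.card_z])).ge ⟨hk, mem_c1.2 f⟩, fun e => ?_⟩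
  have := card_le_of_le (show Q ⊓ 𝐂₁(x) ≤ zpowers z from fun k hk => h.C_inf_K hx (by decide) x3 hk (e hk))
  rw [h.card_z] at this
  omega

section
variable {t : G} (c : t * z = z * t) (tt : t * t = 1)
include c tt

theorem le_KK : 1024 ≤ Nat.card (KK h.toLQ c) * Nat.card (C (Φ t)) := by
  rw [← h.card_K (z_KK h.toLQ c) (KK_le h.toLQ c), ← h.WW_eq c]
  exact Nat.mul_le_mul_left _ (card_le_of_le (cent_KK h.toLQ c))

theorem le_W : 32 ≤ Nat.card (C (Φ t)) := by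
  have := (h.le_KK c tt).trans (Nat.mul_le_mul_right _ (card_le_of_le ((KK_WW h.toLQ c tt).trans (h.WW_eq c).le)))
  exact Nat.mul_self_le_mul_self_iff.1 (le_trans (by norm_num) this)

theorem KK_eq (l : Nat.card (C (Φ t)) ≤ 32) : KK h.toLQ c = C (Φ t) :=
  eq_of_le_of_card_le ((KK_WW h.toLQ c tt).trans (h.WW_eq c).le) (by
    have := (h.le_KK c tt).trans (Nat.mul_le_mul_left _ l)
    omega)

omit tt in
theorem W_two : Nat.card (C (Φ t)) ≤ Nat.card ↥(Q ⊓ 𝐂₁(t)) * 2 := by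
  refine (card_le_two («H» := 𝐂₁(t)) fun a ha b hb na nb => ?_).trans (Nat.mul_le_mul_right _ (card_le_of_le
    fun x hx => ⟨hx.2.1, hx.1⟩))
  have k : ∀ a ∈ C (Φ t), a ∉ 𝐂₁(t) → a * t * a⁻¹ = z * t := fun a ha n =>
    ((h.WW_eq c).ge ha).2.resolve_left fun e => n (mem_c1.2 (conj_eq_iff.1 e))
  refine mem_c1.2 (conj_eq_iff.1 ?_)
  rw [show a * b * t * (a * b)⁻¹ = a * (b * t * b⁻¹) * a⁻¹ by group, k b hb nb, ← mul_assoc, h.zc ha.1,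
    mul_assoc z, mul_assoc z, k a ha na, ← mul_assoc, h.zz, one_mul]

omit tt in
theorem A_le : Q ⊓ 𝐂₁(t) ≤ C (Φ t) := fun _ k => h.C_of (mem_c1.2 c) k.1 (mem_c1.1 k.2)

omit tt in
theorem W_or : C (Φ t) = Q ⊓ 𝐂₁(t) ∨ ∃ w ∈ Q, w * t * w⁻¹ = z * t := by
  by_contra! n
  exact n.1 (le_antisymm (fun w hw => ⟨hw.1, mem_c1.2 (conj_eq_iff.1
    (((h.WW_eq c).ge hw).2.resolve_right (n.2 w hw.1)))⟩) (h.A_le c))

theorem KK_comm {a w : G} (ha : a ∈ KK h.toLQ c) (hw : w ∈ C (Φ t)) : w * a = a * w := by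
  have k : ∀ r ∈ Q, w * (r * t * r⁻¹ * t⁻¹) = r * t * r⁻¹ * t⁻¹ * w := fun r hr => by
    have := h.comm_C (mem_c1.2 c) (inv_mem hr) hw
    rw [inv_eq_of_mul_eq_one_left tt] at this ⊢
    simpa only [inv_inv, mul_assoc] using this
  obtain ⟨r, hr, rfl | rfl⟩ := ha
  · exact k r hr
  · rw [← mul_assoc, h.zc hw.1, mul_assoc z, k r hr, mul_assoc z]

end

end Qt

end CF.LX4
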