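import Cfsg.Agent.LX4.S8

/-! Pairs of commuting conjugates of the centre. -/

set_option autoImplicit false
set_option linter.unusedSectionVars false

namespace CF.LX4
open Cfsg Subgroup CF.Loc CF.Even CF.LX CF.J4 CF.MonU
open scoped commutatorElement

variable {G : Type*} {Γ : Type} [Group G] [Group Γ] [Finite G] {Q P : Subgroup G} {z t : G} {Φ : G → Γ}

local notation "H" => 𝐂₁(z)
local notation "C" => Cf Q z Φ

theorem wc_of (l : LQ Q z) (wz : ∀ g, g * z * g⁻¹ ∈ Q → g * z * g⁻¹ = z) {g : G} (hg : g * z * g⁻¹ ∈ H)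
    (n : g * z * g⁻¹ ≠ z) : Wc Q (cj[g] Q) z (g * z * g⁻¹) :=
  ⟨l, l.cj g, mem_c1.1 hg, wz, fun k e => by
    have := wz (g⁻¹ * k * g) (by simpa [mul_assoc] using mem_cj.1 e)
    calc _ = g * (g⁻¹ * k * g * z * (g⁻¹ * k * g)⁻¹) * g⁻¹ := by group
      _ = _ := by rw [this], fun e => n (wz g e), fun e => n (by
    have := wz g⁻¹ (by simpa using mem_cj.1 e)
    nth_rewrite 1 [← this]; group)⟩

variable (Q z Φ) in
theorem Cf_cj (g : G) (σ : Γ) :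
    Cf (cj[g] Q) (g * z * g⁻¹) (fun x => Φ (g⁻¹ * x * g)) σ = cj[g] (C σ) := by
  have c : ∀ x, x ∈ 𝐂₁(g * z * g⁻¹) ↔ g⁻¹ * x * g ∈ H := fun x => by rw [← cj_centralizer_singleton, mem_cj]
  have d : ∀ x, x ∈ zpowers (g * z * g⁻¹) ↔ g⁻¹ * x * g ∈ zpowers z := fun x => by
    rw [← mem_cj, cj_zpowers]
  ext q
  rw [mem_cj]
  refine ⟨fun k => ⟨mem_cj.1 k.1, (c _).1 k.2.1, fun x hx e => ?_⟩, fun k => ⟨mem_cj.2 k.1, (c _).2 k.2.1,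
    fun x hx e => (d _).2 ?_⟩⟩
  · have := (d _).1 (k.2.2 (g * x * g⁻¹) ((c _).2 (by simpa [mul_assoc] using hx)) (by simpa [mul_assoc] using e))
    simpa [mul_assoc] using this
  · simpa [mul_assoc] using k.2.2 _ ((c _).1 hx) e

namespace Wc
variable (w : Wc Q P z t)
include w

theorem _root_.CF.MonU.Wc.tt : t * t = 1 := w.lp.zz

theorem _root_.CF.MonU.Wc.tH : t ∈ H := mem_c1.2 w.cm

theorem _root_.CF.MonU.Wc.AB {a b : G} (ha : a ∈ Q ⊓ 𝐂₁(t)) (hb : b ∈ P ⊓ H) : a * b * a⁻¹ * b⁻¹ ∈ Q ⊓ P :=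
  mem_inf.2 ⟨by simpa only [mul_assoc] using Q.mul_mem ha.1 (norm_mem' (w.lq.nor hb.2) (Q.inv_mem ha.1)),
    P.mul_mem (norm_mem' (w.lp.nor ha.2) hb.1) (P.inv_mem hb.1)⟩

theorem _root_.CF.MonU.Wc.DA : Q ⊓ P ≤ Q ⊓ 𝐂₁(t) := inf_le_inf_left _ w.lp.le_c1

theorem _root_.CF.MonU.Wc.D_sq {d : G} (hd : d ∈ Q ⊓ P) : d * d = 1 :=
  (w.lq.sq d hd.1).resolve_right fun e => w.zP (e ▸ mul_mem hd.2 hd.2)

theorem _root_.CF.MonU.Wc.D_one {u : G} (hu : u ∈ Q) (e : u * t * u⁻¹ = z * t) {d : G} (hd : d ∈ Q ⊓ P)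
    (a : u * d = d * u) : d = 1 :=
  w.km_one hu e hd.2 (km_of w.lq w.cm hd.1 fun v hv k => by
    rcases k with k | k
    · exact w.cD hd.1 hd.2 hv (conj_eq_iff.1 k)
    · have := w.cD hd.1 hd.2 (mul_mem (inv_mem hu) hv) (conj_eq_iff.1 (by
        rw [show u⁻¹ * v * t * (u⁻¹ * v)⁻¹ = u⁻¹ * (v * t * v⁻¹) * u by group, k, ← e]; group))
      rw [← mul_inv_cancel_left u v, mul_assoc, this, ← mul_assoc, a, mul_assoc])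

theorem _root_.CF.MonU.Wc.D_le : Nat.card ↥(Q ⊓ P) ≤ 4 := by
  by_cases n : ∃ u ∈ Q, u * t * u⁻¹ = z * t
  · obtain ⟨u, hu, e⟩ := n
    exact (w.card_D1 hu e).trans (by norm_num)
  · exact w.card_D2 fun u hu e => n ⟨u, hu, e⟩

theorem _root_.CF.MonU.Wc.coset1 {u : G} (e : u * t * u⁻¹ = z * t) {a : G} (k : Km Q z t a) :
    ∃ r, r * t * r⁻¹ = a * t := by
  obtain ⟨r, hr, rfl | rfl⟩ := k
  · exact ⟨r, by group⟩
  · exact ⟨r * u, by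
      rw [show r * u * t * (r * u)⁻¹ = r * (u * t * u⁻¹) * r⁻¹ by group, e, ← mul_assoc r, w.lq.zc hr]; group⟩

theorem _root_.CF.MonU.Wc.coset (h4 : 2 < Nat.card ↥(Q ⊓ P)) (hD : ∀ d ∈ Q ⊓ P, Km Q z t d) {a : G}
    (k : Km Q z t a) : ∃ d ∈ Q ⊓ P, ∃ r, r * t * r⁻¹ = d * a * t := by
  obtain ⟨r, hr, rfl | rfl⟩ := k
  · exact ⟨1, one_mem _, r, by group⟩
  have a := two_c1 w.lq (inf_le_left : Q ⊓ P ≤ Q) hr
  rcases (𝐂₁(r) ⊓ (Q ⊓ P)).bot_or_exists_ne_one with e | ⟨d, hd, n⟩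
  · rw [e, card_bot] at a; omega
  obtain ⟨s, hs, e | e⟩ := hD d hd.2
  · exact (n (e.trans (w.nc (e ▸ hd.2.2)))).elim
  refine ⟨d, hd.2, r * s, ?_⟩
  have f : s * t * s⁻¹ * t⁻¹ = z * d := by rw [e, ← mul_assoc z, w.lq.zz, one_mul]
  rw [show r * s * t * (r * s)⁻¹ = r * (s * t * s⁻¹ * t⁻¹) * r⁻¹ * (r * t * r⁻¹ * t⁻¹) * t by group, f, ← mul_assoc r,
    w.lq.zc hr, mul_assoc z, ← mem_c1.1 hd.1, mul_assoc z, mul_inv_cancel_right, ← w.lq.zc hd.2.1, mul_assoc d]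

end Wc

namespace Qt
variable (h : Qt Q z Φ)
include h

section
variable (w : Wc Q P z t)
include w

theorem Φt : Φ t ≠ 1 := fun e => w.tQ ((h.kr t w.tH).1 e)

theorem Φtt : Φ t * Φ t = 1 := by rw [← h.hom _ w.tH _ w.tH, w.tt, h.hom.one]

theorem cty {k : G} (hk : k ∈ Q) (e : k⁻¹ * (t⁻¹ * k * t) * (k⁻¹ * (t⁻¹ * k * t)) = z) :
    Q ⊓ P = ⊥ ∧ ∃ u ∈ Q, u * t * u⁻¹ = z * t := by
  have m := mul_mem (inv_mem hk) (h.cQ w.tH hk)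
  have i := inv_d w.tt k
  have c := fun d (hd : d ∈ Q ⊓ P) => h.comm_C w.tH hk (h.A_le w.cm (w.DA hd))
  generalize k⁻¹ * (t⁻¹ * k * t) = d at *
  have f : d * t * d⁻¹ = z * t := by
    rw [← i, ← e, inv_eq_of_mul_eq_one_left w.tt, mul_assoc t, ← mul_assoc, mul_assoc d, w.tt]; group
  exact ⟨eq_bot_iff.2 fun u hu => w.D_one m f hu (c u hu).symm, d, m, f⟩

theorem A16 : 16 ≤ Nat.card ↥(Q ⊓ 𝐂₁(t)) := by
  have := (h.le_W w.cm w.tt).trans (h.W_two w.cm)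
  omega

theorem W32 (l : Nat.card ↥(Q ⊓ 𝐂₁(t)) < 32) : Nat.card (C (Φ t)) ≤ 32 := by
  have := h.W_two w.cm
  obtain ⟨e, he, k⟩ := h.lg (h.C_le (Φ t))
  rw [k] at this ⊢
  interval_cases e <;> omega

theorem A32 (n : Q ⊓ P ≠ ⊥) : 32 ≤ Nat.card ↥(Q ⊓ 𝐂₁(t)) := by
  by_contra! l
  rcases h.W_or w.cm with e | ⟨u, hu, e⟩
  · exact l.not_ge (e ▸ h.le_W w.cm w.tt)
  · exact n (eq_bot_iff.2 fun d hd => w.km_one hu e hd.2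
      ((h.KK_eq w.cm w.tt (h.W32 w l)).ge (h.A_le w.cm (w.DA hd))))

theorem card_B {L : List Γ} (e : ∀ b ∈ P ⊓ H, Φ b ∈ L) : Nat.card ↥(P ⊓ H) ≤ L.length * Nat.card ↥(Q ⊓ P) := by
  have := h.card_le inf_le_right e
  rwa [show P ⊓ H ⊓ Q = Q ⊓ P from le_antisymm (fun _ k => ⟨k.2, k.1.1⟩) fun _ k => ⟨⟨k.2, h.le_c1 k.1⟩, k.1⟩] at this

end

theorem elem_le {E : Subgroup G} (hz : z ∈ E) (hE : E ≤ Q) (c : E ≤ 𝐂(E)) : Nat.card E ≤ 32 := by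
  have := Nat.mul_le_mul_left (Nat.card E) (card_le_of_le (le_inf hE c))
  rw [h.card_K hz hE] at this
  exact Nat.mul_self_le_mul_self_iff.1 (this.trans (by norm_num))

section
variable (p : Pair Q P z t)
include p

theorem tH : t ∈ H := mem_c1.2 p.tz

theorem E_cen : Q ⊓ P ≤ 𝐂(Q ⊓ P) := fun a ha b hb => by
  rw [← mul_left_inj (a * b), mul_assoc, ← mul_assoc a, p.E_sq ha, one_mul, p.E_sq hb, p.E_sq (mul_mem ha hb)]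

theorem E_le : Nat.card ↥(Q ⊓ P) ≤ 32 := h.elem_le (p.V_le p.zV) inf_le_left (h.E_cen p)

theorem B_card : Nat.card ↥(P ⊓ H) = 256 := by
  have := p.r.two_mul_card_c1 p.zP h.z_ne p.ne.symm
  rw [p.card_eq, h.card] at this
  omega

theorem B_sq {b : G} (hb : b ∈ P) : b * b ∈ Q := zpowers_le.2 p.tQ (p.r.sq_mem hb)

theorem ΦB {b : G} (hb : b ∈ P ⊓ H) : Φ b * Φ b = 1 := by rw [← h.hom _ hb.2 _ hb.2, h.ΦQ (h.B_sq p hb.1)]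

theorem B_le {L : List Γ} (e : ∀ b ∈ P ⊓ H, Φ b ∈ L) : 256 ≤ L.length * Nat.card ↥(Q ⊓ P) := by
  have := h.card_le inf_le_right e
  rwa [show P ⊓ H ⊓ Q = Q ⊓ P from le_antisymm (fun _ k => ⟨k.2, k.1.1⟩) fun _ k => ⟨⟨k.2, h.le_c1 k.1⟩, k.1⟩,
    h.B_card p] at this

theorem EB {e b : G} (he : e ∈ Q ⊓ P) (hb : b ∈ P) : e⁻¹ * (b⁻¹ * e * b) = 1 ∨ e⁻¹ * (b⁻¹ * e * b) = t := by
  simpa only [inv_inv, mul_assoc, p.r.mem_z] using p.r.comm_mem (inv_mem he.2) (inv_mem hb)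

theorem EB_comm {e b : G} (he : e ∈ Q ⊓ P) (hb : b ∈ P ⊓ H) (m : e ∈ C (Φ b)) : e * b = b * e := by
  rcases h.EB p he hb.1 with k | k
  · rw [inv_mul_eq_one, mul_assoc, eq_inv_mul_iff_mul_eq] at k; exact k.symm
  · exact ((h.mem_z.1 (k ▸ m.2.2 b hb.2 rfl)).elim p.r.z_ne p.ne).elim

theorem card_KP {W : Subgroup G} (hz : t ∈ W) (hW : W ≤ P) : Nat.card W * Nat.card ↥(P ⊓ 𝐂(W)) = 1024 := by
  rw [p.r.card_mul_card hz hW, p.card_eq, h.card]; rfl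

theorem nor_B {y : G} (hy : y ∈ H) (c : y * t = t * y) : y ∈ 𝐍(P ⊓ H) :=
  p.C_norm_B (by rw [cent_V4]; exact ⟨hy, mem_c1.2 c⟩)

theorem swap_comm {y : G} (hy : y ∈ H) (c : y * t = t * y) (k : ∀ b ∈ P ⊓ H, y * b * y⁻¹ * b⁻¹ ∈ Q) {a : G}
    (ha : a ∈ Q ⊓ 𝐂₁(t)) : y * a * y⁻¹ * a⁻¹ ∈ P := by
  obtain ⟨g, hg, e1, e2⟩ := p.exists_swap
  have yc : y ∈ 𝐂(V4 z t) := by rw [cent_V4]; exact ⟨hy, mem_c1.2 c⟩
  have hb : g * a * g⁻¹ ∈ P ⊓ H := ⟨p.cjl g e1 ▸ conj_mem_cj g ha.1, mem_c1.2 (by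
    rw [← e2, ← conj_mul_conj, ← conj_mul_conj, mem_c1.1 ha.2])⟩
  have m1 := norm_mem (p.X_norm_E hg) ⟨k _ hb, P.mul_mem (norm_mem' (h.nor_B p hy c) hb).1 (P.inv_mem hb.1)⟩
  have r : g⁻¹ * y * g⁻¹⁻¹ * y⁻¹ ∈ RR Q P z t := p.comm_X_C (commutator_mem_commutator (inv_mem hg) yc)
  have m2 : ⁅(g⁻¹ * y * g⁻¹⁻¹ * y⁻¹)⁻¹, a⁆ ∈ Q ⊓ P :=
    p.comm_R_R (commutator_mem_commutator (inv_mem r) (mem_sup_right ha))
  have := mul_mem (norm_mem (p.X_norm_E (p.R_le_X r)) m1) m2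
  rw [commutatorElement_def] at this
  convert (mem_inf.1 this).2 using 1
  group

end

end Qt

end CF.LX4
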